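import Cfsg.Agent.CIT.FF

/-!
# The amalgam argument for CIT-groups

Two nice subgroups with a common Sylow `2`-subgroup `R` and no common nontrivial normal subgroup of
`R` have elementary abelian cores of order `q²` whose product is `R`.
-/

set_option autoImplicit false

open Subgroup
open scoped Pointwise

namespace CL.CIT

open CL.Transfer CL.Invol

variable {G : Type*} [Group G]

/-- The largest subgroup of `H` normalised by `X` (if `1 ∈ X`). -/
def core (X H : Subgroup G) : Subgroup G where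
  carrier := {x | ∀ g ∈ X, g * x * g⁻¹ ∈ H}
  one_mem' := fun g _ => by simp
  mul_mem' := fun {a b} ha hb g hg => by
    have := H.mul_mem (ha g hg) (hb g hg)
    convert this using 1; group
  inv_mem' := fun {a} ha g hg => by
    have := H.inv_mem (ha g hg)
    convert this using 1; group

theorem mem_core {X H : Subgroup G} {x : G} : x ∈ core X H ↔ ∀ g ∈ X, g * x * g⁻¹ ∈ H := Iff.rfl

theorem core_le (X H : Subgroup G) : core X H ≤ H := fun x hx => by simpa using hx 1 X.one_mem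

theorem le_normalizer_core (X H : Subgroup G) :
    X ≤ normalizer ((core X H : Subgroup G) : Set G) := by
  intro g hg
  rw [mem_normalizer_iff]
  intro x
  constructor
  · intro hx h hh
    have := hx (h * g) (X.mul_mem hh hg)
    convert this using 1; group
  · intro hx h hh
    have := hx (h * g⁻¹) (X.mul_mem hh (X.inv_mem hg))
    convert this using 1; group

theorem le_core {X H K : Subgroup G} (hK : K ≤ H) (hn : X ≤ normalizer (K : Set G)) :
    K ≤ core X H := fun _ hx _ hg => hK (conj_mem (hn hg) hx)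

/-- Two nice subgroups with a common Sylow subgroup and without a common normal subgroup. -/
structure Edge (L D L' D' R : Subgroup G) : Prop where
  n1 : Nice L D
  n2 : Nice L' D'
  s1 : IsSylowIn 2 R L
  s2 : IsSylowIn 2 R L'
  free : ∀ K : Subgroup G, K ≤ R → L ≤ normalizer (K : Set G) → L' ≤ normalizer (K : Set G) → K = ⊥

theorem Edge.symm {L D L' D' R : Subgroup G} (h : Edge L D L' D' R) : Edge L' D' L D R :=
  ⟨h.n2, h.n1, h.s2, h.s1, fun K h1 h2 h3 => h.free K h1 h3 h2⟩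

theorem Edge.smul {L D L' D' R : Subgroup G} (h : Edge L D L' D' R) (g : G) :
    Edge (MulAut.conj g • L) (MulAut.conj g • D) (MulAut.conj g • L') (MulAut.conj g • D')
      (MulAut.conj g • R) := by
  refine ⟨h.n1.smul g, h.n2.smul g, h.s1.smul g, h.s2.smul g, fun K h1 h2 h3 => ?_⟩
  have := h.free (MulAut.conj g⁻¹ • K) ?_ ?_ ?_
  · exact conj_smul_injective g⁻¹ (by rw [this]; simp)
  · simpa only [conj_inv_smul_conj_smul] using conj_smul_mono g⁻¹ h1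
  · simpa only [conj_inv_smul_conj_smul, conj_smul_normalizer] using conj_smul_mono g⁻¹ h2
  · simpa only [conj_inv_smul_conj_smul, conj_smul_normalizer] using conj_smul_mono g⁻¹ h3

/-- The structure forced on an edge. -/
structure Amal (L D L' D' R : Subgroup G) (q : ℕ) : Prop where
  f1 : FF L D q
  f2 : FF L' D' q
  s1 : IsSylowIn 2 R L
  s2 : IsSylowIn 2 R L'
  e1 : om D = D
  e2 : om D' = D'
  dec : ∀ r ∈ R, ∃ a ∈ D, ∃ b ∈ D', r = a * b

section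

variable [Finite G] (hG : IsCIT G)
include hG

theorem Nice.card_omR_sq_le {L D R : Subgroup G} (hN : Nice L D) (hR : IsSylowIn 2 R L) :
    Nat.card (om R) ^ 2 ≤ Nat.card (om D) := by
  obtain ⟨s, hs, hsD, -⟩ := hN.exists_sq hR
  refine le_trans (Nat.pow_le_pow_left (card_le_of_le ?_) 2) (hN.card_cent_sq_le hG hR hs hsD)
  exact le_inf (hN.om_le_om hG hR) fun z hz =>
    mem_centralizer_singleton_iff.2 (om_comm hz hs).symm

theorem Nice.le_om_of_comm {L D R R' Y : Subgroup G} (hN : Nice L D) (hR : IsSylowIn 2 R L)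
    (hR' : IsSylowIn 2 R' L) (h : R ≠ R') {s : G} (hs : s ∈ R) (hsD : s ∉ D) (hs2 : s * s ∈ D)
    (hY : Y ≤ D) (hn : R' ≤ normalizer (Y : Set G))
    (hc : ∀ y ∈ Y, s * y * s⁻¹ * y⁻¹ ∈ om D) : Y ≤ om D := by
  obtain ⟨r, hr, hrD, -⟩ := hN.exists_sq hR'
  have hrL := hR'.le hr
  have hsL := hR.le hs
  have hk := (hN.inv hG hR (sylow_conj hR hrL) (hN.conj_ne hR' hR h.symm hr hrD).symm hs hsD hs2
    (conj_mem_conj_smul.2 hs) (hN.conj_notMem hrL hsD)
    (by have := hN.conj_mem hrL hs2; convert this using 1; group)).1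
  intro y hy
  refine hG.mem_of_comm_mem' hN.two (om_le D) (normalizer_le_om D (hN.norm
    (mul_mem hsL (mul_mem (mul_mem hrL hsL) (inv_mem hrL))))) hk (hY hy) ?_
  have h1 := hN.conj_om hsL (hN.conj_om hrL (hc _ (CIT.conj_mem' (hn hr) hy)))
  have := mul_mem h1 (hc y hy)
  convert this using 1; group

theorem crit_aux {L D R L' D' R' : Subgroup G} (hN : Nice L D) (hR : IsSylowIn 2 R L)
    (hN' : Nice L' D') (hR' : IsSylowIn 2 R' L') (h1 : om D ≤ R') (h2 : om D' ≤ R)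
    (h3 : ¬ om D ≤ D') (h4 : ¬ om D' ≤ D)
    (hc : Nat.card (om D') * Nat.card (om D ⊓ D' : Subgroup G) ≤
      Nat.card (om D) * Nat.card (om D' ⊓ D : Subgroup G)) :
    ∃ q, FF L D q ∧ FF L' D' q ∧ (∀ r ∈ R, ∃ e ∈ om D', ∃ d ∈ D, r = e * d) ∧
      ∀ r ∈ R', ∃ e ∈ om D, ∃ d ∈ D', r = e * d := by
  have e1 : om D ⊓ centralizer (om D' : Set G) = om D ⊓ D' := by
    ext a
    simp only [mem_inf, and_congr_right_iff]
    intro ha
    exact ⟨fun h => hN'.mem_of_cent_om hG (hR'.le (h1 ha)) fun b hb => (h b hb).symm,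
      fun h b hb => (om_comm hb h).symm⟩
  have e2 : om D' ⊓ centralizer (om D : Set G) = om D' ⊓ D := by
    ext a
    simp only [mem_inf, and_congr_right_iff]
    intro ha
    exact ⟨fun h => hN.mem_of_cent_om hG (hR.le (h2 ha)) fun b hb => (h b hb).symm,
      fun h b hb => (om_comm hb h).symm⟩
  obtain ⟨f', d', c1, c2⟩ := hN'.ff hG hR' h1 (fun e he => om_sq he) h3 (by rw [e2]; exact hc)
  rw [e2] at c2
  obtain ⟨f, d, c3, c4⟩ := hN.ff hG hR h2 (fun e he => om_sq he) h4 (by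
    rw [e1, c1, c2, f'.cardA]; apply le_of_eq; ring)
  have hq : Nat.card (om R) = Nat.card (om R') := by
    have := f'.cardA
    rw [c3, c2, pow_two] at this
    exact Nat.eq_of_mul_eq_mul_right Nat.card_pos this
  exact ⟨_, f, hq ▸ f', d, d'⟩

/-- Critical pairs. -/
theorem crit {L D R L' D' R' : Subgroup G} (hN : Nice L D) (hR : IsSylowIn 2 R L)
    (hN' : Nice L' D') (hR' : IsSylowIn 2 R' L') (h1 : om D ≤ R') (h2 : om D' ≤ R)
    (h3 : ¬ om D ≤ D') :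
    ¬ om D' ≤ D ∧ om R = om R' ∧ ∃ q, FF L D q ∧ FF L' D' q ∧
      (∀ r ∈ R, ∃ e ∈ om D', ∃ d ∈ D, r = e * d) ∧ ∀ r ∈ R', ∃ e ∈ om D, ∃ d ∈ D', r = e * d := by
  have h4 : ¬ om D' ≤ D := fun h => h3 fun a ha =>
    hN'.mem_of_cent_om hG (hR'.le (h1 ha)) fun b hb => (om_comm ha (h hb)).symm
  have key : ∃ q, FF L D q ∧ FF L' D' q ∧
      (∀ r ∈ R, ∃ e ∈ om D', ∃ d ∈ D, r = e * d) ∧ ∀ r ∈ R', ∃ e ∈ om D, ∃ d ∈ D', r = e * d := by
    rcases le_total (Nat.card (om D') * Nat.card (om D ⊓ D' : Subgroup G))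
      (Nat.card (om D) * Nat.card (om D' ⊓ D : Subgroup G)) with hc | hc
    · exact crit_aux hG hN hR hN' hR' h1 h2 h3 h4 hc
    · obtain ⟨q, a, b, c, d⟩ := crit_aux hG hN' hR' hN hR h2 h1 h4 h3 hc
      exact ⟨q, b, a, d, c⟩
  refine ⟨h4, ?_, key⟩
  obtain ⟨q, f, f', -, -⟩ := key
  refine eq_of_le_of_card_le ?_ (by rw [f.cardZ R hR, f'.cardZ R' hR'])
  obtain ⟨s, hs, hsD⟩ := SetLike.not_le_iff_exists.1 h4
  intro z hz
  obtain ⟨a, ha, rfl⟩ := f.comm_surj hG hR (h2 hs) hsD hz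
  have := inv_mem (f'.comm hG hR' (h1 ha) hs)
  convert this using 1; group

theorem Edge.amal_of_not_le {L D L' D' R : Subgroup G} (h : Edge L D L' D' R)
    (hn : ¬ om D ≤ D') : ∃ q, Amal L D L' D' R q := by
  obtain ⟨h4, -, q, f, f', d, d'⟩ := crit hG h.n1 h.s1 h.n2 h.s2
    ((om_le D).trans (h.n1.le_sylow h.s1)) ((om_le D').trans (h.n2.le_sylow h.s2)) hn
  have key : ∀ {L D D' : Subgroup G}, Nice L D → IsSylowIn 2 R L → om D' ≤ R → ¬ om D' ≤ D →
      (∀ r ∈ R, ∃ e ∈ om D, ∃ d ∈ D', r = e * d) → om D = D := by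
    intro L D D' hN hR h1 h2 h3
    obtain ⟨R', hR', hne⟩ := hN.exists_ne R
    obtain ⟨s, hs, hsD⟩ := SetLike.not_le_iff_exists.1 h2
    refine le_antisymm (om_le D) (hN.le_om_of_comm hG hR hR' hne.symm (h1 hs) hsD
      (by rw [om_sq hs]; exact D.one_mem) le_rfl (hR'.le.trans hN.norm) fun y hy => ?_)
    obtain ⟨e, he, d, hd, rfl⟩ := h3 y (hN.le_sylow hR hy)
    have := mul_mem (hN.conj_om (hR.le (h1 hs)) he) (inv_mem he)
    convert this using 1
    calc s * (e * d) * s⁻¹ * (e * d)⁻¹ = s * e * (d * s⁻¹ * d⁻¹) * e⁻¹ := by group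
      _ = _ := by rw [om_conj (inv_mem hs) hd]
  have e1 := key h.n1 h.s1 ((om_le D').trans (h.n2.le_sylow h.s2)) h4 d'
  have e2 := key h.n2 h.s2 ((om_le D).trans (h.n1.le_sylow h.s1)) hn d
  exact ⟨q, f, f', h.s1, h.s2, e1, e2, by simpa only [e1] using d'⟩

end

/-! ### The coset graph -/

section Graph

variable (L₁ D₁ L₂ D₂ : Subgroup G)

/-- Conjugation of vertices. -/
def vsm (g : G) (v : Subgroup G × Subgroup G) : Subgroup G × Subgroup G :=
  (MulAut.conj g • v.1, MulAut.conj g • v.2)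

/-- Adjacency in the coset graph. -/
def Adj (v w : Subgroup G × Subgroup G) : Prop :=
  ∃ g : G, (v = vsm g (L₁, D₁) ∧ w = vsm g (L₂, D₂)) ∨ (v = vsm g (L₂, D₂) ∧ w = vsm g (L₁, D₁))

/-- Walks of given length. -/
def Reach : ℕ → Subgroup G × Subgroup G → Subgroup G × Subgroup G → Prop
  | 0, u, w => u = w
  | n + 1, u, w => ∃ v, Adj L₁ D₁ L₂ D₂ u v ∧ Reach n v w

variable {L₁ D₁ L₂ D₂}

theorem vsm_vsm (g h : G) (v : Subgroup G × Subgroup G) : vsm g (vsm h v) = vsm (g * h) v := by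
  simp only [vsm, conj_smul_conj_smul]

theorem vsm_one (v : Subgroup G × Subgroup G) : vsm 1 v = v := by
  simp only [vsm, conj_one_smul]

theorem Adj.symm {v w : Subgroup G × Subgroup G} (h : Adj L₁ D₁ L₂ D₂ v w) :
    Adj L₁ D₁ L₂ D₂ w v := by
  obtain ⟨g, h | h⟩ := h
  · exact ⟨g, Or.inr h.symm⟩
  · exact ⟨g, Or.inl h.symm⟩

theorem Adj.smul {v w : Subgroup G × Subgroup G} (h : Adj L₁ D₁ L₂ D₂ v w) (x : G) :
    Adj L₁ D₁ L₂ D₂ (vsm x v) (vsm x w) := by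
  obtain ⟨g, ⟨rfl, rfl⟩ | ⟨rfl, rfl⟩⟩ := h
  · exact ⟨x * g, Or.inl ⟨vsm_vsm .., vsm_vsm ..⟩⟩
  · exact ⟨x * g, Or.inr ⟨vsm_vsm .., vsm_vsm ..⟩⟩

theorem Adj.edge {R : Subgroup G} (hE : Edge L₁ D₁ L₂ D₂ R) {v w : Subgroup G × Subgroup G}
    (h : Adj L₁ D₁ L₂ D₂ v w) : ∃ R', Edge v.1 v.2 w.1 w.2 R' := by
  obtain ⟨g, ⟨rfl, rfl⟩ | ⟨rfl, rfl⟩⟩ := h
  · exact ⟨_, hE.smul g⟩
  · exact ⟨_, hE.symm.smul g⟩

theorem Reach.trans {m n : ℕ} {u v w : Subgroup G × Subgroup G} (h : Reach L₁ D₁ L₂ D₂ m u v)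
    (h' : Reach L₁ D₁ L₂ D₂ n v w) : Reach L₁ D₁ L₂ D₂ (n + m) u w := by
  induction m generalizing u with
  | zero => obtain rfl : u = v := h; exact h'
  | succ m ih =>
    obtain ⟨x, h1, h2⟩ := h
    exact ⟨x, h1, ih h2⟩

theorem Adj.reach {u v : Subgroup G × Subgroup G} (h : Adj L₁ D₁ L₂ D₂ u v) :
    Reach L₁ D₁ L₂ D₂ 1 u v := ⟨v, h, rfl⟩

theorem Reach.symm {n : ℕ} {u v : Subgroup G × Subgroup G} (h : Reach L₁ D₁ L₂ D₂ n u v) :
    Reach L₁ D₁ L₂ D₂ n v u := by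
  induction n generalizing u with
  | zero => exact Eq.symm h
  | succ n ih =>
    obtain ⟨x, h1, h2⟩ := h
    simpa only [add_comm] using (ih h2).trans h1.symm.reach

theorem Reach.snoc {n : ℕ} {u w : Subgroup G × Subgroup G} (h : Reach L₁ D₁ L₂ D₂ (n + 1) u w) :
    ∃ v, Reach L₁ D₁ L₂ D₂ n u v ∧ Adj L₁ D₁ L₂ D₂ v w := by
  obtain ⟨v, h1, h2⟩ := h.symm
  exact ⟨v, h2.symm, h1.symm⟩

theorem Reach.smul {n : ℕ} {u v : Subgroup G × Subgroup G} (h : Reach L₁ D₁ L₂ D₂ n u v) (x : G) :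
    Reach L₁ D₁ L₂ D₂ n (vsm x u) (vsm x v) := by
  induction n generalizing u with
  | zero => obtain rfl : u = v := h; rfl
  | succ n ih =>
    obtain ⟨y, h1, h2⟩ := h
    exact ⟨_, h1.smul x, ih h2⟩

theorem vsm_eq {L D : Subgroup G} (hN : Nice L D) {l : G} (hl : l ∈ L) : vsm l (L, D) = (L, D) := by
  simp only [vsm, conj_smul_eq_of_mem hl, conj_smul_eq_iff_mem_normalizer.2 (hN.norm hl)]

variable [Finite G] {R : Subgroup G}

theorem exists_critical (hE : Edge L₁ D₁ L₂ D₂ R) :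
    ∃ n u w, Reach L₁ D₁ L₂ D₂ n u w ∧ ¬ om u.2 ≤ w.2 := by
  by_contra hcon
  push Not at hcon
  let T : Subgroup G :=
    { carrier := {g | ∃ n, Reach L₁ D₁ L₂ D₂ n (vsm g (L₁, D₁)) (L₁, D₁)}
      one_mem' := ⟨0, vsm_one _⟩
      mul_mem' := by
        rintro a b ⟨m, ha⟩ ⟨n, hb⟩
        have := hb.smul a
        rw [vsm_vsm] at this
        exact ⟨_, this.trans ha⟩
      inv_mem' := by
        rintro a ⟨m, ha⟩
        have := ha.smul a⁻¹
        rw [vsm_vsm, inv_mul_cancel, vsm_one] at this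
        exact ⟨_, this.symm⟩ }
  have h0 : Adj L₁ D₁ L₂ D₂ (L₁, D₁) (L₂, D₂) := ⟨1, Or.inl ⟨(vsm_one _).symm, (vsm_one _).symm⟩⟩
  have h1 : L₁ ≤ T := fun l hl => ⟨0, vsm_eq hE.n1 hl⟩
  have h2 : L₂ ≤ T := fun l hl => by
    have := h0.smul l
    rw [vsm_eq hE.n2 hl] at this
    exact ⟨_, this.reach.trans h0.symm.reach⟩
  have h3 := hE.free (core T D₁) ((core_le _ _).trans (hE.n1.le_sylow hE.s1))
    (h1.trans (le_normalizer_core _ _)) (h2.trans (le_normalizer_core _ _))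
  obtain ⟨a, ha1, ha⟩ := hE.n1.exists_om
  have h4 : a ∈ core T D₁ := by
    rintro g ⟨n, hg⟩
    refine hcon _ _ _ hg ?_
    simp only [vsm]
    rw [← conj_smul_om]
    exact conj_mem_conj_smul.2 ha
  exact ha1 (by rwa [h3, mem_bot] at h4)

theorem not_critical (hG : IsCIT G) (hE : Edge L₁ D₁ L₂ D₂ R) {c : ℕ}
    (hmin : ∀ n < c + 2, ∀ u w, Reach L₁ D₁ L₂ D₂ n u w → om u.2 ≤ w.2)
    {u w : Subgroup G × Subgroup G} (h : Reach L₁ D₁ L₂ D₂ (c + 2) u w) : om u.2 ≤ w.2 := by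
  by_contra hcon
  obtain ⟨v₁, a1, h1⟩ := h
  obtain ⟨v', h2, a2⟩ := h1.snoc
  have h3 : Reach L₁ D₁ L₂ D₂ (c + 1) u v' := ⟨v₁, a1, h2⟩
  obtain ⟨S, E1⟩ := a1.edge hE
  obtain ⟨S', E2⟩ := a2.edge hE
  have hA : om u.2 ≤ S' := (hmin _ (by omega) _ _ h3).trans (E2.n1.le_sylow E2.s1)
  have hA' : om w.2 ≤ S := (hmin _ (by omega) _ _ h1.symm).trans (E1.n2.le_sylow E1.s2)
  obtain ⟨c1, c2, q, f, -, -, d'⟩ := crit hG E1.n1 E1.s1 E2.n2 E2.s2 hA hA' hcon
  obtain ⟨l, hl, hlS⟩ := E1.n1.exists_conj_ne E1.s1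
  have hu : vsm l u = u := vsm_eq E1.n1 hl
  have a3 : Adj L₁ D₁ L₂ D₂ (vsm l v₁) u := by simpa only [hu] using (a1.smul l).symm
  have E3 : Edge u.1 u.2 (vsm l v₁).1 (vsm l v₁).2 (MulAut.conj l • S) := by
    have := E1.smul l
    rwa [conj_smul_eq_of_mem hl, conj_smul_eq_iff_mem_normalizer.2 (E1.n1.norm hl)] at this
  have h4 : om (vsm l v₁).2 ≤ u.2 := hmin _ (by omega) _ _ a3.reach
  by_cases h5 : om (vsm l v₁).2 ≤ v'.2
  · obtain ⟨s, hs, hsD⟩ := SetLike.not_le_iff_exists.1 c1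
    have h6 : om (vsm l v₁).2 ≤ om u.2 := by
      refine E1.n1.le_om_of_comm hG E1.s1 E3.s1 hlS.symm (hA' hs) hsD
        (by rw [om_sq hs]; exact one_mem _) h4
        ((E3.s2.le.trans E3.n2.norm).trans (normalizer_le_om _)) fun y hy => ?_
      obtain ⟨e, he, d, hd, rfl⟩ := d' y (E2.n1.le_sylow E2.s1 (h5 hy))
      have := mul_mem (E1.n1.conj_om (E1.s1.le (hA' hs)) he) (inv_mem he)
      convert this using 1
      calc s * (e * d) * s⁻¹ * (e * d)⁻¹ = s * e * (d * s⁻¹ * d⁻¹) * e⁻¹ := by group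
        _ = _ := by rw [om_conj (inv_mem hs) hd]
    have h7 : om (vsm l v₁).2 = om u.2 := eq_of_le_of_card_le h6 (by
      rw [f.cardA, ← f.cardZ _ E3.s1]; exact E3.n2.card_omR_sq_le hG E3.s2)
    have h8 := E3.free (om u.2) ((om_le _).trans (E3.n1.le_sylow E3.s1))
      (E3.n1.norm.trans (normalizer_le_om _)) (h7 ▸ E3.n2.norm.trans (normalizer_le_om _))
    obtain ⟨a, ha1, ha⟩ := E1.n1.exists_om
    exact ha1 (by rwa [h8, mem_bot] at ha)
  · obtain ⟨v'', h6, a4⟩ := h3.snoc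
    obtain ⟨S'', E4⟩ := a4.edge hE
    have h7 : Reach L₁ D₁ L₂ D₂ (c + 1) (vsm l v₁) v'' := ⟨u, a3, h6⟩
    obtain ⟨-, c3, -⟩ := crit hG E3.n2 E3.s2 E4.n2 E4.s2
      ((hmin _ (by omega) _ _ h7).trans (E4.n1.le_sylow E4.s1))
      ((hmin _ (by omega) _ _ h3.symm).trans (E3.n1.le_sylow E3.s1)) h5
    have h8 : om w.2 ≤ v'.2 := hmin _ (by omega) _ _ a2.symm.reach
    refine hcon fun a ha => E2.n2.mem_of_cent_om hG (E2.s2.le (hA ha)) fun b hb => ?_
    obtain ⟨z, hz, z', hz', rfl⟩ := f.exists_mul hG E1.s1 E3.s1 hlS.symm ha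
    exact (om_comm (mul_mem (E2.n1.om_le_om hG E2.s1 (c2 ▸ hz))
      (E4.n2.om_le_om hG E4.s2 (c3 ▸ hz'))) (h8 hb)).symm

/-- The amalgam theorem. -/
theorem Edge.amal (hG : IsCIT G) (hE : Edge L₁ D₁ L₂ D₂ R) : ∃ q, Amal L₁ D₁ L₂ D₂ R q := by
  classical
  have hex := exists_critical hE
  obtain ⟨u, w, h1, h2⟩ := Nat.find_spec hex
  have hmin : ∀ n < Nat.find hex, ∀ u w, Reach L₁ D₁ L₂ D₂ n u w → om u.2 ≤ w.2 := by
    intro n hn u w h
    by_contra h'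
    exact Nat.find_min hex hn ⟨u, w, h, h'⟩
  generalize Nat.find hex = b at h1 hmin
  rcases b with _ | _ | c
  · obtain rfl : u = w := h1
    exact absurd (om_le _) h2
  · obtain ⟨v, h1, h3⟩ := h1
    obtain rfl : v = w := h3
    have key : ∀ {D D' : Subgroup G} {g : G},
        ¬ om (MulAut.conj g • D) ≤ MulAut.conj g • D' → ¬ om D ≤ D' := fun h h' =>
      h (by rw [← conj_smul_om]; exact conj_smul_mono _ h')
    obtain ⟨g, ⟨rfl, rfl⟩ | ⟨rfl, rfl⟩⟩ := h1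
    · exact hE.amal_of_not_le hG (key h2)
    · refine hE.amal_of_not_le hG (crit hG hE.n2 hE.s2 hE.n1 hE.s1
        ((om_le _).trans (hE.n2.le_sylow hE.s2)) ((om_le _).trans (hE.n1.le_sylow hE.s1))
        (key h2)).1
  · exact absurd (not_critical hG hE hmin h1) h2

end Graph

end CL.CIT
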