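import Cfsg.Agent.Base
import Cfsg.Agent.Transfer.SylowIn
import Cfsg.Agent.Invol.Dihedral
import Cfsg.Agent.PGrp.Basic

/-!
# CIT-groups: basic facts

A CIT-group is a finite group in which the centraliser of every involution is a `2`-group.
`Two g` says that `g` is a `2`-element.  In a CIT-group every element that is not a `2`-element has odd
order and acts fixed-point-freely on every `2`-subgroup it normalises.
-/

set_option autoImplicit false

open Subgroup
open scoped Pointwise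

namespace CL.CIT

open CL.Transfer CL.Invol

variable {G : Type*} [Group G]

/-- `g` is a `2`-element. -/
def Two (g : G) : Prop := ∃ n : ℕ, g ^ 2 ^ n = 1

/-- The centraliser of every involution is a `2`-group. -/
def IsCIT (G : Type*) [Group G] : Prop :=
  ∀ t : G, orderOf t = 2 → IsPGroup 2 (centralizer ({t} : Set G))

theorem isPGroup_iff_two {H : Subgroup G} : IsPGroup 2 H ↔ ∀ g ∈ H, Two g := by
  constructor
  · intro h g hg
    obtain ⟨n, hn⟩ := h ⟨g, hg⟩
    exact ⟨n, by simpa using congrArg Subtype.val hn⟩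
  · intro h g
    obtain ⟨n, hn⟩ := h g g.2
    exact ⟨n, Subtype.ext (by simpa using hn)⟩

theorem two_of_mem {H : Subgroup G} (h : IsPGroup 2 H) {g : G} (hg : g ∈ H) : Two g :=
  isPGroup_iff_two.1 h g hg

theorem two_one : Two (1 : G) := ⟨0, by simp⟩

theorem two_of_mul_self {g : G} (h : g * g = 1) : Two g := ⟨1, by simpa [pow_two] using h⟩

theorem Two.inv {g : G} (h : Two g) : Two g⁻¹ := by
  obtain ⟨n, hn⟩ := h
  exact ⟨n, by rw [inv_pow, hn, inv_one]⟩

theorem two_inv_iff {g : G} : Two g⁻¹ ↔ Two g := ⟨fun h => by simpa using h.inv, Two.inv⟩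

theorem Two.conj {g : G} (h : Two g) (x : G) : Two (x * g * x⁻¹) := by
  obtain ⟨n, hn⟩ := h
  exact ⟨n, by rw [conj_pow, hn]; simp⟩

theorem two_conj_iff {g x : G} : Two (x * g * x⁻¹) ↔ Two g :=
  ⟨fun h => by simpa [mul_assoc] using h.conj x⁻¹, fun h => h.conj x⟩

theorem Two.of_mul_self {g : G} (h : Two (g * g)) : Two g := by
  obtain ⟨n, hn⟩ := h
  exact ⟨n + 1, by rw [pow_succ', pow_mul, pow_two, hn]⟩

theorem Two.pow {g : G} (h : Two g) (m : ℕ) : Two (g ^ m) := by
  obtain ⟨n, hn⟩ := h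
  exact ⟨n, by rw [← pow_mul, mul_comm, pow_mul, hn, one_pow]⟩

theorem Two.map {G' : Type*} [Group G'] (f : G →* G') {g : G} (h : Two g) : Two (f g) := by
  obtain ⟨n, hn⟩ := h
  exact ⟨n, by rw [← map_pow, hn, map_one]⟩

theorem Two.isPGroup_zpowers {g : G} (h : Two g) : IsPGroup 2 (zpowers g) := by
  rw [isPGroup_iff_two]
  rintro _ ⟨i, rfl⟩
  obtain ⟨n, hn⟩ := h
  refine ⟨n, ?_⟩
  simp only
  rw [← zpow_natCast, ← zpow_mul, mul_comm, zpow_mul, zpow_natCast, hn, one_zpow]

theorem Two.eq_one_of_odd {g : G} (h : Two g) (ho : Odd (orderOf g)) : g = 1 := by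
  obtain ⟨n, hn⟩ := h
  have h1 : orderOf g ∣ 2 ^ n := orderOf_dvd_of_pow_eq_one hn
  have h2 : Nat.Coprime (orderOf g) (2 ^ n) :=
    Nat.Coprime.pow_right _ (Nat.coprime_two_right.2 ho)
  exact orderOf_eq_one_iff.1 (Nat.Coprime.eq_one_of_dvd h2 h1)

theorem ne_one_of_not_two {k : G} (h : ¬ Two k) : k ≠ 1 := fun e => h (e ▸ two_one)

/-- A nontrivial `2`-element has an involution among its powers. -/
theorem Two.exists_pow {g : G} (h : Two g) (h1 : g ≠ 1) :
    ∃ m : ℕ, g ^ m ≠ 1 ∧ g ^ m * g ^ m = 1 := by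
  obtain ⟨n, hn⟩ := h
  induction n with
  | zero => exact absurd (by simpa using hn) h1
  | succ n ih =>
    by_cases h2 : g ^ 2 ^ n = 1
    · exact ih h2
    · exact ⟨2 ^ n, h2, by rw [← pow_add, ← two_mul, ← pow_succ', hn]⟩

/-- An element of a `2`-group outside a subgroup has a power outside whose square is inside. -/
theorem Two.exists_pow_mod {g : G} (h : Two g) {D : Subgroup G} (h1 : g ∉ D) :
    ∃ m : ℕ, g ^ m ∉ D ∧ g ^ m * g ^ m ∈ D := by
  obtain ⟨n, hn⟩ := h
  have hn' : g ^ 2 ^ n ∈ D := hn ▸ D.one_mem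
  clear hn
  induction n with
  | zero => exact absurd (by simpa using hn') h1
  | succ n ih =>
    by_cases h2 : g ^ 2 ^ n ∈ D
    · exact ih h2
    · exact ⟨2 ^ n, h2, by rwa [← pow_add, ← two_mul, ← pow_succ']⟩

theorem exists_sq_mem {P D : Subgroup G} (hP : IsPGroup 2 P) (h : ¬ P ≤ D) :
    ∃ t ∈ P, t ∉ D ∧ t * t ∈ D := by
  obtain ⟨g, hg, hgD⟩ := SetLike.not_le_iff_exists.1 h
  obtain ⟨m, h1, h2⟩ := (two_of_mem hP hg).exists_pow_mod hgD
  exact ⟨g ^ m, P.pow_mem hg m, h1, h2⟩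

theorem isPGroup_sup {H K : Subgroup G} (hH : IsPGroup 2 H) (hK : IsPGroup 2 K)
    (h : K ≤ normalizer (H : Set G)) : IsPGroup 2 (H ⊔ K : Subgroup G) :=
  IsPGroup.to_sup_of_normal_left' hH hK h

theorem isPGroup_sup_zpowers {H : Subgroup G} (hH : IsPGroup 2 H) {g : G} (hg : Two g)
    (h : g ∈ normalizer (H : Set G)) : IsPGroup 2 (H ⊔ zpowers g : Subgroup G) :=
  isPGroup_sup hH hg.isPGroup_zpowers (zpowers_le.2 h)

theorem conj_mem {H : Subgroup G} {g x : G} (hg : g ∈ normalizer (H : Set G)) (hx : x ∈ H) :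
    g * x * g⁻¹ ∈ H := (mem_normalizer_iff.1 hg x).1 hx

theorem conj_mem' {H : Subgroup G} {g x : G} (hg : g ∈ normalizer (H : Set G)) (hx : x ∈ H) :
    g⁻¹ * x * g ∈ H := by
  simpa using conj_mem (inv_mem hg) hx

theorem mem_of_conj_mem {H : Subgroup G} {g x : G} (hg : g ∈ normalizer (H : Set G))
    (hx : g * x * g⁻¹ ∈ H) : x ∈ H := (mem_normalizer_iff.1 hg x).2 hx

theorem mem_normalizer_of_conj [Finite G] {H : Subgroup G} {g : G}
    (h : ∀ x ∈ H, g * x * g⁻¹ ∈ H) : g ∈ normalizer (H : Set G) :=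
  mem_normalizer_of_conj_smul_le (conj_smul_le_iff.2 h)

/-- A `2`-element normalising a Sylow subgroup of `L` and lying in `L` lies in it. -/
theorem mem_sylow_of_normalizer [Finite G] {R L : Subgroup G} (hR : IsSylowIn 2 R L) {g : G}
    (hg : Two g) (hgL : g ∈ L) (hn : g ∈ normalizer (R : Set G)) : g ∈ R := by
  have h := hR.eq_of_le (isPGroup_sup_zpowers hR.isPGroup hg hn) le_sup_left
    (sup_le hR.le (zpowers_le.2 hgL))
  rw [← h]
  exact mem_sup_right (mem_zpowers g)

theorem le_sylow_of_normalizer [Finite G] {R L X : Subgroup G} (hR : IsSylowIn 2 R L)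
    (hX : IsPGroup 2 X) (hXL : X ≤ L) (hn : R ≤ normalizer (X : Set G)) : X ≤ R := by
  have h := hR.eq_of_le (isPGroup_sup hX hR.isPGroup hn) le_sup_right (sup_le hXL hR.le)
  rw [← h]
  exact le_sup_left

/-- Ambient version of `exists_central_mod`. -/
theorem exists_central_mod' [Finite G] {P K N : Subgroup G} (hP : IsPGroup 2 P) (hK : K ≤ P)
    (hN : N ≤ P) (hKn : P ≤ normalizer (K : Set G)) (hNn : P ≤ normalizer (N : Set G))
    (h : ¬ N ≤ K) : ∃ x ∈ N, x ∉ K ∧ x * x ∈ K ∧ ∀ g ∈ P, g * x * g⁻¹ * x⁻¹ ∈ K := by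
  have : (K.subgroupOf P).Normal := (normal_subgroupOf_iff_le_normalizer hK).2 hKn
  have : (N.subgroupOf P).Normal := (normal_subgroupOf_iff_le_normalizer hN).2 hNn
  obtain ⟨x, hx, h1, h2, h3⟩ := CL.PGrp.exists_central_mod hP (K.subgroupOf P) (N.subgroupOf P)
    (fun hle => h fun y hy => by simpa [mem_subgroupOf] using @hle ⟨y, hN hy⟩ (by simpa [mem_subgroupOf]))
  refine ⟨x, by simpa [mem_subgroupOf] using hx, by simpa [mem_subgroupOf] using h1,
    by simpa [mem_subgroupOf, pow_two] using h2, fun g hg => ?_⟩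
  simpa [mem_subgroupOf, commutatorElement_def] using h3 ⟨g, hg⟩

/-- Fibre counting: a map on `E` whose fibres lie in cosets of `K`. -/
theorem card_le_of_fiber [Finite G] {E K : Subgroup G} {Y : Type*} [Finite Y] (f : E → Y)
    (h : ∀ e e' : E, f e = f e' → (e : G)⁻¹ * e' ∈ K) :
    Nat.card E ≤ Nat.card Y * Nat.card (E ⊓ K : Subgroup G) := by
  classical
  let σ : Y → E := Function.invFun f
  have hσ : ∀ e, f (σ (f e)) = f e := fun e => Function.invFun_eq ⟨e, rfl⟩
  let φ : E → Y × (E ⊓ K : Subgroup G) := fun e =>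
    (f e, ⟨(σ (f e) : G)⁻¹ * e, mem_inf.2 ⟨E.mul_mem (E.inv_mem (σ (f e)).2) e.2, h _ _ (hσ e)⟩⟩)
  have hφ : Function.Injective φ := by
    intro a b hab
    simp only [φ, Prod.mk.injEq, Subtype.mk.injEq] at hab
    obtain ⟨h1, h2⟩ := hab
    rw [h1] at h2
    exact Subtype.ext (mul_left_cancel h2)
  simpa [Nat.card_prod] using Nat.card_le_card_of_injective φ hφ

/-! ### `Ω₁(Z(X))` -/

/-- The involutions in the centre of `X`, with `1`. -/
def om (X : Subgroup G) : Subgroup G where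
  carrier := {a | a ∈ X ∧ a * a = 1 ∧ ∀ x ∈ X, x * a = a * x}
  one_mem' := ⟨X.one_mem, by simp, by simp⟩
  mul_mem' := by
    rintro a b ⟨ha, ha2, hac⟩ ⟨hb, hb2, hbc⟩
    refine ⟨X.mul_mem ha hb, ?_, fun x hx => ?_⟩
    · calc a * b * (a * b) = a * (b * a) * b := by group
        _ = a * (a * b) * b := by rw [hac b hb]
        _ = (a * a) * (b * b) := by group
        _ = 1 := by rw [ha2, hb2, one_mul]
    · rw [← mul_assoc, hac x hx, mul_assoc, hbc x hx, mul_assoc]
  inv_mem' := by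
    rintro a ⟨ha, ha2, hac⟩
    have : a⁻¹ = a := inv_eq_of_mul_eq_one_right ha2
    rw [this]
    exact ⟨ha, ha2, hac⟩

theorem mem_om {X : Subgroup G} {a : G} :
    a ∈ om X ↔ a ∈ X ∧ a * a = 1 ∧ ∀ x ∈ X, x * a = a * x := Iff.rfl

theorem om_le (X : Subgroup G) : om X ≤ X := fun _ h => h.1

theorem om_sq {X : Subgroup G} {a : G} (h : a ∈ om X) : a * a = 1 := h.2.1

theorem om_inv {X : Subgroup G} {a : G} (h : a ∈ om X) : a⁻¹ = a :=
  inv_eq_of_mul_eq_one_right h.2.1

theorem om_comm {X : Subgroup G} {a x : G} (h : a ∈ om X) (hx : x ∈ X) : x * a = a * x :=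
  h.2.2 x hx

theorem om_conj {X : Subgroup G} {a x : G} (h : a ∈ om X) (hx : x ∈ X) : x * a * x⁻¹ = a := by
  rw [om_comm h hx]; simp

theorem om_isPGroup (X : Subgroup G) : IsPGroup 2 (om X) :=
  isPGroup_iff_two.2 fun _ h => two_of_mul_self h.2.1

theorem conj_smul_om (g : G) (X : Subgroup G) :
    MulAut.conj g • om X = om (MulAut.conj g • X) := by
  ext a
  rw [mem_conj_smul, mem_om, mem_om, mem_conj_smul]
  refine and_congr Iff.rfl (and_congr ?_ ?_)
  · constructor
    · intro h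
      calc a * a = g * (g⁻¹ * a * g * (g⁻¹ * a * g)) * g⁻¹ := by group
        _ = 1 := by rw [h]; simp
    · intro h
      calc g⁻¹ * a * g * (g⁻¹ * a * g) = g⁻¹ * (a * a) * g := by group
        _ = 1 := by rw [h]; simp
  · constructor
    · intro h x hx
      have := h _ (mem_conj_smul.1 hx)
      calc x * a = g * (g⁻¹ * x * g * (g⁻¹ * a * g)) * g⁻¹ := by group
        _ = a * x := by rw [this]; group
    · intro h x hx
      have := h _ (conj_mem_conj_smul.2 hx : g * x * g⁻¹ ∈ _)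
      calc x * (g⁻¹ * a * g) = g⁻¹ * (g * x * g⁻¹ * a) * g := by group
        _ = g⁻¹ * a * g * x := by rw [this]; group

theorem normalizer_le_om (X : Subgroup G) :
    normalizer (X : Set G) ≤ normalizer ((om X : Subgroup G) : Set G) := by
  intro g hg
  rw [← conj_smul_eq_iff_mem_normalizer] at hg ⊢
  rw [conj_smul_om, hg]

theorem conj_mem_om {X : Subgroup G} {g a : G} (hg : g ∈ normalizer (X : Set G)) (ha : a ∈ om X) :
    g * a * g⁻¹ ∈ om X := conj_mem (normalizer_le_om X hg) ha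

/-- A `2`-group `P` normalising a nontrivial subgroup `N ≤ P` has a central involution in it. -/
theorem exists_om_of_normal [Finite G] {P N : Subgroup G} (hP : IsPGroup 2 P) (hN : N ≤ P)
    (hNn : P ≤ normalizer (N : Set G)) (h : N ≠ ⊥) : ∃ z ∈ N, z ≠ 1 ∧ z ∈ om P := by
  obtain ⟨x, hx, h1, h2, h3⟩ := exists_central_mod' hP bot_le hN
    (fun g _ => by rw [normalizer_eq_top]; trivial) hNn (fun hle => h (le_bot_iff.1 hle))
  refine ⟨x, hx, by simpa using h1, hN hx, by simpa using h2, fun g hg => ?_⟩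
  have := h3 g hg
  rw [mem_bot] at this
  calc g * x = (g * x * g⁻¹ * x⁻¹) * (x * g) := by group
    _ = x * g := by rw [this, one_mul]

theorem exists_om [Finite G] {P : Subgroup G} (hP : IsPGroup 2 P) (h : P ≠ ⊥) :
    ∃ z, z ≠ 1 ∧ z ∈ om P := by
  obtain ⟨z, -, h1, h2⟩ := exists_om_of_normal hP le_rfl le_normalizer h
  exact ⟨z, h1, h2⟩

/-! ### CIT-groups -/

namespace IsCIT

variable (h : IsCIT G)
include h

theorem two_of_commute {a k : G} (ha : Two a) (h1 : a ≠ 1) (hc : a * k = k * a) : Two k := by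
  obtain ⟨m, hm1, hm2⟩ := ha.exists_pow h1
  refine two_of_mem (h _ (orderOf_two_of_mul_self hm1 hm2)) ?_
  rw [mem_centralizer_singleton_iff]
  exact ((show Commute a k from hc).symm.pow_right m).eq

theorem eq_one_of_commute {a k : G} (ha : Two a) (hk : ¬ Two k) (hc : a * k = k * a) : a = 1 := by
  by_contra h1
  exact hk (h.two_of_commute ha h1 hc)

theorem eq_one_of_conj {a k : G} (ha : Two a) (hk : ¬ Two k) (hc : k * a * k⁻¹ = a) : a = 1 :=
  h.eq_one_of_commute ha hk (by conv_lhs => rw [← hc]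
                                simp)

theorem odd_of_not_two [Finite G] {k : G} (hk : ¬ Two k) : Odd (orderOf k) := by
  rw [← Nat.not_even_iff_odd]
  intro he
  have h2 := orderOf_pow_half he
  exact hk (h.two_of_commute (two_of_mul_self (mul_self_of_orderOf_two h2))
    (ne_one_of_orderOf_two h2) (Commute.pow_self k _).eq)

theorem isPGroup_centralizer {a : G} (ha : Two a) (h1 : a ≠ 1) :
    IsPGroup 2 (centralizer ({a} : Set G)) :=
  isPGroup_iff_two.2 fun _ hk =>
    h.two_of_commute ha h1 (mem_centralizer_singleton_iff.1 hk).symm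

/-- A power of an element of odd order is trivial or not a `2`-element. -/
theorem not_two_pow [Finite G] {k : G} (hk : ¬ Two k) {m : ℕ} (hm : k ^ m ≠ 1) : ¬ Two (k ^ m) :=
  fun h2 => hm (h.eq_one_of_commute h2 hk (Commute.pow_self k m).eq)

/-- The coset `k X` consists of `X`-conjugates of `k`. -/
theorem exists_conj [Finite G] {X : Subgroup G} (hX : IsPGroup 2 X) {k : G}
    (hk : k ∈ normalizer (X : Set G)) (hk2 : ¬ Two k) {x : G} (hx : x ∈ X) :
    ∃ d ∈ X, d⁻¹ * k * d = k * x := by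
  let φ : X → X := fun d => ⟨k⁻¹ * (d : G)⁻¹ * k * d, mul_mem (conj_mem' hk (inv_mem d.2)) d.2⟩
  have hφ : Function.Injective φ := by
    intro a b hab
    simp only [φ, Subtype.mk.injEq] at hab
    have h1 : (b : G) * (a : G)⁻¹ = 1 := by
      refine h.eq_one_of_commute (two_of_mem hX (mul_mem b.2 (inv_mem a.2))) hk2 ?_
      calc (b : G) * (a : G)⁻¹ * k = b * k * (k⁻¹ * (a : G)⁻¹ * k * a) * (a : G)⁻¹ := by group
        _ = k * (b * (a : G)⁻¹) := by rw [hab]; group
    exact Subtype.ext (mul_inv_eq_one.1 h1).symm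
  obtain ⟨d, hd⟩ := (Finite.injective_iff_surjective.1 hφ) ⟨x, hx⟩
  simp only [φ, Subtype.mk.injEq] at hd
  exact ⟨d, d.2, by rw [← hd]; group⟩

/-- Fixed-point-freeness on sections. -/
theorem mem_of_comm_mem [Finite G] {A Y : Subgroup G} (hY : IsPGroup 2 Y) (hA : A ≤ Y) {k : G}
    (hk : k ∈ normalizer (A : Set G)) (hk2 : ¬ Two k) {y : G} (hy : y ∈ Y)
    (hc : k⁻¹ * y⁻¹ * k * y ∈ A) : y ∈ A := by
  obtain ⟨d, hd, hd'⟩ := h.exists_conj (hY.to_le hA) hk hk2 hc
  have h1 : y * d⁻¹ = 1 := by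
    refine h.eq_one_of_commute (two_of_mem hY (mul_mem hy (inv_mem (hA hd)))) hk2 ?_
    calc y * d⁻¹ * k = y * (d⁻¹ * k * d) * d⁻¹ := by group
      _ = k * (y * d⁻¹) := by rw [hd']; group
  rwa [mul_inv_eq_one.1 h1]

theorem mem_of_comm_mem' [Finite G] {A Y : Subgroup G} (hY : IsPGroup 2 Y) (hA : A ≤ Y) {k : G}
    (hk : k ∈ normalizer (A : Set G)) (hk2 : ¬ Two k) {y : G} (hy : y ∈ Y)
    (hc : k * y * k⁻¹ * y⁻¹ ∈ A) : y ∈ A := by
  have := h.mem_of_comm_mem hY hA (inv_mem hk) (fun h2 => hk2 (two_inv_iff.1 h2)) (inv_mem hy)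
    (by simpa using hc)
  simpa using this

/-- An element inverting `k` modulo `D` can be corrected to an involution inverting `k`. -/
theorem exists_invol [Finite G] {D : Subgroup G} (hD : IsPGroup 2 D) {k t : G}
    (hk : k ∈ normalizer (D : Set G)) (hk2 : ¬ Two k) (ht : t ∈ normalizer (D : Set G))
    (ht2 : t * t ∈ D) (hkt : k * (t * k * t⁻¹) ∈ D) :
    ∃ d ∈ D, (d * t) * (d * t) = 1 ∧ (d * t) * k * (d * t)⁻¹ = k⁻¹ := by
  obtain ⟨d, hd, hd'⟩ := h.exists_conj hD (inv_mem hk) (fun h2 => hk2 (two_inv_iff.1 h2)) hkt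
  have h1 : (d * t) * k * (d * t)⁻¹ = k⁻¹ := by
    calc (d * t) * k * (d * t)⁻¹ = d * (k⁻¹ * (k * (t * k * t⁻¹))) * d⁻¹ := by group
      _ = k⁻¹ := by rw [← hd']; group
  refine ⟨d, hd, ?_, h1⟩
  have h2 : (d * t) * (d * t) ∈ D := by
    have := mul_mem (mul_mem hd (conj_mem ht hd)) ht2
    convert this using 1; group
  refine h.eq_one_of_conj (two_of_mem hD h2) hk2 ?_
  have h3 : (d * t) * k⁻¹ * (d * t)⁻¹ = k := by
    have := congrArg Inv.inv h1
    simpa [mul_assoc] using this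
  calc k * (d * t * (d * t)) * k⁻¹ = k * (d * t) * ((d * t) * k⁻¹ * (d * t)⁻¹) * (d * t) := by group
    _ = k * ((d * t) * k * (d * t)⁻¹) * ((d * t) * (d * t)) := by rw [h3]; group
    _ = d * t * (d * t) := by rw [h1]; group

/-- Two elements with square in the `2`-group `E` which they normalise: either they generate a
`2`-group with `E`, or their product has odd order and is inverted by an involution in `E t`. -/
theorem pair [Finite G] {E L : Subgroup G} (hE : IsPGroup 2 E) (hEL : E ≤ L) {t u : G}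
    (htL : t ∈ L) (huL : u ∈ L) (ht : t ∈ normalizer (E : Set G))
    (hu : u ∈ normalizer (E : Set G)) (ht2 : t * t ∈ E) (hu2 : u * u ∈ E) :
    (∃ W : Subgroup G, IsPGroup 2 W ∧ E ≤ W ∧ W ≤ L ∧ t ∈ W ∧ u ∈ W) ∨
      (¬ Two (t * u) ∧ ∃ d ∈ E, (d * t) * (d * t) = 1 ∧
        (d * t) * (t * u) * (d * t)⁻¹ = (t * u)⁻¹) := by
  have hk : t * u ∈ normalizer (E : Set G) := mul_mem ht hu
  have hkt : (t * u) * (t * (t * u) * t⁻¹) ∈ E := by
    have := conj_mem ht (mul_mem (conj_mem hu ht2) hu2)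
    convert this using 1; group
  by_cases h2 : Two (t * u)
  · left
    have hP := isPGroup_sup_zpowers hE h2 hk
    have ht' : t ∈ normalizer ((E ⊔ zpowers (t * u) : Subgroup G) : Set G) := by
      apply mem_normalizer_of_conj_smul_le
      rw [conj_smul_sup, conj_smul_eq_iff_mem_normalizer.2 ht]
      refine sup_le le_sup_left ?_
      rw [conj_smul_le_iff]
      rintro _ ⟨i, rfl⟩
      simp only
      rw [← conj_zpow]
      refine zpow_mem ?_ i
      have : t * (t * u) * t⁻¹ = (t * u)⁻¹ * ((t * u) * (t * (t * u) * t⁻¹)) := by group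
      rw [this]
      exact mul_mem (mem_sup_right (inv_mem (mem_zpowers _))) (mem_sup_left hkt)
    have htwo : Two t := (two_of_mem hE ht2).of_mul_self
    refine ⟨_, isPGroup_sup_zpowers hP htwo ht', le_sup_left.trans le_sup_left,
      sup_le (sup_le hEL (zpowers_le.2 (mul_mem htL huL))) (zpowers_le.2 htL),
      mem_sup_right (mem_zpowers t), ?_⟩
    have : u = t⁻¹ * (t * u) := by group
    rw [this]
    exact mul_mem (mem_sup_right (inv_mem (mem_zpowers t)))
      (mem_sup_left (mem_sup_right (by rw [← this]; exact mem_zpowers _)))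
  · exact Or.inr ⟨h2, h.exists_invol hE hk h2 ht ht2 hkt⟩

/-- Involutions with a product that is not a `2`-element are conjugate. -/
theorem exists_conj_invol [Finite G] {L : Subgroup G} {t u : G} (htL : t ∈ L) (huL : u ∈ L)
    (ht : t * t = 1) (hu : u * u = 1) (h2 : ¬ Two (t * u)) : ∃ l ∈ L, l * t * l⁻¹ = u := by
  obtain ⟨k, hk⟩ := exists_pow_conj_of_odd ht hu (h.odd_of_not_two h2)
  exact ⟨_, pow_mem (mul_mem htL huL) k, hk⟩

theorem subgroup (H : Subgroup G) : IsCIT H := by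
  intro t ht g
  have h1 : (t : G) ≠ 1 := fun e => ne_one_of_orderOf_two ht (Subtype.ext e)
  have h2 : (t : G) * t = 1 := congrArg Subtype.val (mul_self_of_orderOf_two ht)
  obtain ⟨n, hn⟩ := h.two_of_commute (two_of_mul_self h2) h1
    (congrArg Subtype.val (mem_centralizer_singleton_iff.1 g.2).symm)
  exact ⟨n, Subtype.ext (Subtype.ext (by simpa using hn))⟩

theorem of_surjective [Finite G] {G' : Type*} [Group G'] (f : G →* G') (hf : Function.Surjective f)
    (hk : IsPGroup 2 f.ker) : IsCIT G' := by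
  intro t ht
  rw [isPGroup_iff_two]
  intro k hkt
  obtain ⟨t, rfl⟩ := hf t
  obtain ⟨k, rfl⟩ := hf k
  by_contra hk2
  have hk2' : ¬ Two k := fun h2 => hk2 (h2.map f)
  have hn : ∀ g : G, g ∈ normalizer (f.ker : Set G) := fun g => by
    rw [normalizer_eq_top]; trivial
  have ht2 : t * t ∈ f.ker := by
    rw [MonoidHom.mem_ker, map_mul]; exact mul_self_of_orderOf_two ht
  have := h.mem_of_comm_mem' (isPGroup_sup_zpowers hk (two_of_mem hk ht2).of_mul_self (hn t))
    le_sup_left (hn k) hk2' (mem_sup_right (mem_zpowers t)) (by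
      rw [MonoidHom.mem_ker]
      simp only [map_mul, map_inv]
      rw [mem_centralizer_singleton_iff.1 hkt]; simp)
  exact ne_one_of_orderOf_two ht this

end IsCIT

end CL.CIT
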