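import Cfsg.Agent.CIT.Struct

/-!
# Existence of the amalgam in a CIT-group whose Sylow `2`-subgroups are not TI
-/

set_option autoImplicit false

open Subgroup
open scoped Pointwise

namespace CL.CIT

open CL.Transfer CL.Invol

variable {G : Type*} [Group G]

/-- `D` is the core of its nice normaliser. -/
def NiceN (D : Subgroup G) : Prop := Nice (normalizer (D : Set G)) D

theorem NiceN.smul {D : Subgroup G} (h : NiceN D) (g : G) : NiceN (MulAut.conj g • D) := by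
  have := Nice.smul h g
  rwa [conj_smul_normalizer] at this

variable [Finite G]

omit [Finite G] in
theorem eq_of_le_two {R R' L P : Subgroup G} (hR : IsSylowIn 2 R L) (hR' : IsSylowIn 2 R' L)
    (hP : IsPGroup 2 P) (h : R ≤ P) (h' : R' ≤ P) : R = R' :=
  (hR.eq_of_le (hP.to_inf_left (K := L)) (le_inf h hR.le) inf_le_right).symm.trans
    (hR'.eq_of_le (hP.to_inf_left (K := L)) (le_inf h' hR'.le) inf_le_right)

theorem card_lt_of_lt' {H K : Subgroup G} (h : H < K) : Nat.card H < Nat.card K :=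
  lt_of_le_of_ne (card_le_of_le h.le) fun e => h.ne (eq_of_le_of_card_le h.le e.ge)

theorem exists_niceN {S S' : Subgroup G} (hS : IsSylowIn 2 S ⊤) (hS' : IsSylowIn 2 S' ⊤)
    (hne : S ≠ S') (hi : S ⊓ S' ≠ ⊥) : ∃ D : Subgroup G, NiceN D := by
  obtain ⟨⟨T, T'⟩, ⟨hT, hT', hTT⟩, hmax⟩ := Set.exists_max_image
    {p : Subgroup G × Subgroup G | IsSylowIn 2 p.1 ⊤ ∧ IsSylowIn 2 p.2 ⊤ ∧ p.1 ≠ p.2}
    (fun p => Nat.card (p.1 ⊓ p.2 : Subgroup G)) (Set.toFinite _) ⟨(S, S'), hS, hS', hne⟩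
  simp only at hT hT' hTT
  have hmax' : ∀ U U' : Subgroup G, IsSylowIn 2 U ⊤ → IsSylowIn 2 U' ⊤ → T ⊓ T' < U ⊓ U' →
      U = U' := by
    intro U U' hU hU' h
    by_contra hne
    exact absurd (hmax (U, U') ⟨hU, hU', hne⟩) (not_le.2 (card_lt_of_lt' h))
  have h2 : IsPGroup 2 (T ⊓ T' : Subgroup G) := hT.isPGroup.to_inf_left
  refine ⟨T ⊓ T', le_normalizer, le_rfl, h2, fun h => hi ?_, ?_, ?_⟩
  · have := hmax (S, S') ⟨hS, hS', hne⟩
    simp only [h, card_bot] at this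
    exact eq_bot_of_card_le _ this
  · intro R R' hR hR' hne
    obtain ⟨U, hU, h3⟩ := exists_isSylowIn_ge hR.isPGroup le_top
    obtain ⟨U', hU', h4⟩ := exists_isSylowIn_ge hR'.isPGroup le_top
    by_contra h5
    have h6 : T ⊓ T' ≤ R ⊓ R' := le_inf (le_sylow_of_normalizer hR h2 le_normalizer hR.le)
      (le_sylow_of_normalizer hR' h2 le_normalizer hR'.le)
    have h7 := hmax' U U' hU hU' ((lt_of_le_not_ge h6 h5).trans_le (inf_le_inf h3 h4))
    exact hne (eq_of_le_two hR hR' hU.isPGroup h3 (h7 ▸ h4))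
  · have h3 : T ⊓ T' < T := lt_of_le_of_ne inf_le_left fun e =>
      hTT (hT.eq_of_le hT'.isPGroup (inf_eq_left.1 e) le_top).symm
    have h4 : T ⊓ T' < T' := lt_of_le_of_ne inf_le_right fun e =>
      hTT (hT'.eq_of_le hT.isPGroup (inf_eq_right.1 e) le_top)
    have h5 := lt_inf_normalizer hT.isPGroup h3
    have h6 := lt_inf_normalizer hT'.isPGroup h4
    obtain ⟨R, hR, h7⟩ := exists_isSylowIn_ge
      (hT.isPGroup.to_inf_left (K := normalizer ((T ⊓ T' : Subgroup G) : Set G))) inf_le_right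
    obtain ⟨R', hR', h8⟩ := exists_isSylowIn_ge
      (hT'.isPGroup.to_inf_left (K := normalizer ((T ⊓ T' : Subgroup G) : Set G))) inf_le_right
    refine ⟨R, R', hR, hR', fun e => hTT ?_⟩
    obtain ⟨U, hU, h9⟩ := exists_isSylowIn_ge hR.isPGroup le_top
    exact (hmax' T U hT hU (h5.trans_le (le_inf inf_le_left (h7.trans h9)))).trans
      (hmax' T' U hT' hU (h6.trans_le (le_inf inf_le_left (h8.trans (e ▸ h9))))).symm

theorem exists_two_niceN (hG : IsCIT G)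
    (hO : ∀ K : Subgroup G, K.Normal → IsPGroup 2 K → K = ⊥) {D₀ : Subgroup G} (h₀ : NiceN D₀) :
    ∃ D D' R : Subgroup G, D ≠ D' ∧ NiceN D ∧ NiceN D' ∧
      IsSylowIn 2 R (normalizer (D : Set G)) ∧ IsSylowIn 2 R (normalizer (D' : Set G)) := by
  by_contra hcon
  have hcon' : ∀ D D' R : Subgroup G, NiceN D → NiceN D' →
      IsSylowIn 2 R (normalizer (D : Set G)) → IsSylowIn 2 R (normalizer (D' : Set G)) →
      D = D' := fun D D' R h1 h2 h3 h4 => by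
    by_contra h
    exact hcon ⟨D, D', R, h, h1, h2, h3, h4⟩
  clear hcon
  have HB : ∀ D R : Subgroup G, NiceN D → IsSylowIn 2 R (normalizer (D : Set G)) →
      IsSylowIn 2 R ⊤ := by
    intro D R hD hR
    obtain ⟨S, hS, h1⟩ := exists_isSylowIn_ge hR.isPGroup le_top
    rcases h1.eq_or_lt with rfl | h2
    · exact hS
    obtain ⟨x, ⟨hxS, hxN⟩, hxR⟩ := SetLike.exists_of_lt (lt_inf_normalizer hS.isPGroup h2)
    have h3 := hR.smul x
    rw [conj_smul_eq_iff_mem_normalizer.2 hxN, conj_smul_normalizer] at h3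
    exact absurd (mem_sylow_of_normalizer hR (two_of_mem hS.isPGroup hxS)
      (conj_smul_eq_iff_mem_normalizer.1 (hcon' _ _ _ hD (hD.smul x) hR h3).symm) hxN) hxR
  have HU : ∀ D D' S : Subgroup G, NiceN D → NiceN D' → IsSylowIn 2 S ⊤ →
      S ≤ normalizer (D : Set G) → S ≤ normalizer (D' : Set G) → D = D' :=
    fun D D' S h1 h2 h3 h4 h5 => hcon' D D' S h1 h2 (h3.of_le h4 le_top) (h3.of_le h5 le_top)
  have EX : ∀ W : Subgroup G, IsPGroup 2 W → ∃ D : Subgroup G, NiceN D ∧ W ≤ normalizer (D : Set G) := by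
    intro W hW
    obtain ⟨R, hR⟩ := exists_isSylowIn (p := 2) (normalizer (D₀ : Set G))
    obtain ⟨g, -, hg⟩ := (HB _ _ h₀ hR).exists_conj_le hW le_top
    refine ⟨_, h₀.smul g⁻¹, ?_⟩
    simpa only [conj_inv_smul_conj_smul, conj_smul_normalizer] using
      conj_smul_mono g⁻¹ (hg.trans hR.le)
  obtain ⟨g₀, hg₀⟩ : ∃ g : G, MulAut.conj g • D₀ ≠ D₀ := by
    by_contra h
    push Not at h
    refine Nice.ne_bot h₀ (hO D₀ ?_ (Nice.two h₀))
    rw [← normalizer_eq_top_iff, eq_top_iff]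
    exact fun g _ => conj_smul_eq_iff_mem_normalizer.1 (h g)
  obtain ⟨⟨D, D', X⟩, ⟨hD, hD', hDD, hX, hXD, hXD'⟩, hmax⟩ := Set.exists_max_image
    {p : Subgroup G × Subgroup G × Subgroup G | NiceN p.1 ∧ NiceN p.2.1 ∧ p.1 ≠ p.2.1 ∧
      IsPGroup 2 p.2.2 ∧ p.2.2 ≤ normalizer (p.1 : Set G) ∧ p.2.2 ≤ normalizer (p.2.1 : Set G)}
    (fun p => Nat.card p.2.2) (Set.toFinite _)
    ⟨(_, D₀, ⊥), h₀.smul g₀, h₀, hg₀, IsPGroup.of_bot, bot_le, bot_le⟩
  simp only at hD hD' hDD hX hXD hXD'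
  have key : ∀ D₁ D₂ W : Subgroup G, NiceN D₁ → NiceN D₂ → IsPGroup 2 W → X < W →
      W ≤ normalizer (D₁ : Set G) → W ≤ normalizer (D₂ : Set G) → D₁ = D₂ := by
    intro D₁ D₂ W h1 h2 h3 h4 h5 h6
    by_contra hne
    exact absurd (hmax (D₁, D₂, W) ⟨h1, h2, hne, h3, h5, h6⟩) (not_le.2 (card_lt_of_lt' h4))
  have key' : ∀ (D₁ D₂ : Subgroup G) (w : G), NiceN D₁ → NiceN D₂ → Two w → w ∉ X →
      w ∈ normalizer (X : Set G) → X ≤ normalizer (D₁ : Set G) → X ≤ normalizer (D₂ : Set G) →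
      w ∈ normalizer (D₁ : Set G) → w ∈ normalizer (D₂ : Set G) → D₁ = D₂ :=
    fun D₁ D₂ w h1 h2 h3 h4 h5 h6 h7 h8 h9 => key D₁ D₂ (X ⊔ zpowers w) h1 h2
      (isPGroup_sup_zpowers hX h3 h5)
      (lt_of_le_not_ge le_sup_left fun h => h4 (h (mem_sup_right (mem_zpowers w))))
      (sup_le h6 (zpowers_le.2 h8)) (sup_le h7 (zpowers_le.2 h9))
  have hP : ∀ E : Subgroup G, NiceN E → X ≤ normalizer (E : Set G) →
      ∃ P : Subgroup G, IsPGroup 2 P ∧ X < P ∧ P ≤ normalizer (E : Set G) ∧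
        P ≤ normalizer (X : Set G) := by
    intro E hE hXE
    obtain ⟨U, hU, h1⟩ := exists_isSylowIn_ge hX hXE
    have h2 : X < U := lt_of_le_of_ne h1 fun e =>
      hDD (HU _ _ X hD hD' (e ▸ HB _ _ hE hU) hXD hXD')
    exact ⟨_, hU.isPGroup.to_inf_left, lt_inf_normalizer hU.isPGroup h2,
      inf_le_left.trans hU.le, inf_le_right⟩
  have hti : ∀ T T' : Subgroup G, IsSylowIn 2 T (normalizer (X : Set G)) →
      IsSylowIn 2 T' (normalizer (X : Set G)) → T ≠ T' → T ⊓ T' ≤ X := by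
    intro T T' hT hT' hne
    by_contra h1
    have h2 : X < T ⊓ T' := lt_of_le_not_ge (le_inf
      (le_sylow_of_normalizer hT hX le_normalizer hT.le)
      (le_sylow_of_normalizer hT' hX le_normalizer hT'.le)) h1
    obtain ⟨D₁, hD₁, h3⟩ := EX T hT.isPGroup
    obtain ⟨D₁', hD₁', h4⟩ := EX T' hT'.isPGroup
    obtain rfl := key D₁ D₁' _ hD₁ hD₁' hT.isPGroup.to_inf_left h2 (inf_le_left.trans h3)
      (inf_le_right.trans h4)
    obtain ⟨U, hU, h5⟩ := exists_isSylowIn_ge hT.isPGroup h3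
    obtain ⟨U', hU', h6⟩ := exists_isSylowIn_ge hT'.isPGroup h4
    have hUU : U ≠ U' := fun e => hne (eq_of_le_two hT hT' hU.isPGroup h5 (e ▸ h6))
    have h7 : T ⊓ T' ≤ D₁ := (inf_le_inf h5 h6).trans (Nice.ti hD₁ _ _ hU hU' hUU)
    have hXD₁ : X ≤ D₁ := h2.le.trans h7
    have hXN : X ≤ normalizer (D₁ : Set G) := hXD₁.trans le_normalizer
    -- an involution `τ` normalising `X` and `D₁`, outside `D₁`
    obtain ⟨τ, hτ2, hτD, hτ1, hτX⟩ : ∃ τ : G, τ * τ = 1 ∧ τ ∉ D₁ ∧ τ ∈ normalizer (D₁ : Set G) ∧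
        τ ∈ normalizer (X : Set G) := by
      obtain ⟨t, ht, htD, ht2⟩ := exists_sq_mem hT.isPGroup (D := D₁) fun h =>
        hne (eq_of_le_two hT hT' hU'.isPGroup (h.trans (Nice.le_sylow hD₁ hU')) h6)
      obtain ⟨t', ht', htD', ht2'⟩ := exists_sq_mem hT'.isPGroup (D := D₁) fun h =>
        hne (eq_of_le_two hT hT' hU.isPGroup h5 (h.trans (Nice.le_sylow hD₁ hU)))
      have hn : normalizer (D₁ : Set G) ⊓ normalizer (X : Set G) ≤
          normalizer ((D₁ ⊓ normalizer (X : Set G) : Subgroup G) : Set G) :=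
        (inf_le_inf_left _ le_normalizer).trans (normalizer_inf_le_normalizer_inf _ _)
      rcases hG.pair (E := D₁ ⊓ normalizer (X : Set G))
        (L := normalizer (D₁ : Set G) ⊓ normalizer (X : Set G)) (Nice.two hD₁).to_inf_left
        (inf_le_inf_right _ le_normalizer) ⟨h3 ht, hT.le ht⟩ ⟨h4 ht', hT'.le ht'⟩
        (hn ⟨h3 ht, hT.le ht⟩) (hn ⟨h4 ht', hT'.le ht'⟩) ⟨ht2, hT.le (mul_mem ht ht)⟩
        ⟨ht2', hT'.le (mul_mem ht' ht')⟩ with ⟨W, hW, -, hWL, h8, h9⟩ | ⟨-, d, hd, h8, -⟩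
      · exact absurd (Nice.eq_of_two hD₁ hU hU' hW (hWL.trans inf_le_left) (h5 ht) htD h8 (h6 ht')
          htD' h9) hUU
      · exact ⟨d * t, h8, fun h => htD (by simpa using D₁.mul_mem (D₁.inv_mem hd.1) h),
          mul_mem (le_normalizer hd.1) (h3 ht), mul_mem hd.2 (hT.le ht)⟩
    obtain ⟨D₂, hD₂, hD₁₂, hXD₂⟩ : ∃ D₂ : Subgroup G, NiceN D₂ ∧ D₂ ≠ D₁ ∧
        X ≤ normalizer (D₂ : Set G) := by
      by_cases h : D = D₁
      · exact ⟨D', hD', fun e => hDD (h.trans e.symm), hXD'⟩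
      · exact ⟨D, hD, h, hXD⟩
    obtain ⟨P, hP2, hP3, hP4, hP5⟩ := hP D₂ hD₂ hXD₂
    obtain ⟨u, hu, huX, hu2⟩ := exists_sq_mem hP2 hP3.not_ge
    obtain ⟨e, he, heX, he2⟩ := exists_sq_mem (hT.isPGroup.to_inf_left (K := T')) h1
    have hsame : ∀ (W : Subgroup G) (a b : G), IsPGroup 2 W → X ≤ W → W ≤ normalizer (X : Set G) →
        a ∈ W → b ∈ W → a ∉ X → b ∉ X → a ∈ normalizer (D₁ : Set G) →
        b ∈ normalizer (D₂ : Set G) → False := by
      intro W a b hW hXW hWN ha hb haX hbX ha' hb'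
      obtain ⟨D₃, hD₃, h8⟩ := EX W hW
      exact hD₁₂ ((key' D₂ D₃ b hD₂ hD₃ (two_of_mem hW hb) hbX (hWN hb) hXD₂ (hXW.trans h8) hb'
        (h8 hb)).trans (key' D₁ D₃ a hD₁ hD₃ (two_of_mem hW ha) haX (hWN ha) hXN (hXW.trans h8) ha'
        (h8 ha)).symm)
    have heN := hT.le he.1
    have huN := hP5 hu
    rcases hG.pair (L := normalizer (X : Set G)) hX le_normalizer heN huN heN huN he2 hu2 with
      ⟨W, hW, h8, h9, h10, h11⟩ | ⟨h8, d, hd, h9, h10⟩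
    · exact hsame W e u hW h8 h9 h10 h11 heX huX (h3 he.1) (hP4 hu)
    have hdN : d * e ∈ normalizer (X : Set G) := mul_mem (le_normalizer hd) heN
    have hu'N : d * e * (e * u) ∈ normalizer (X : Set G) := mul_mem hdN (mul_mem heN huN)
    have h11 : (d * e * (e * u)) * (d * e * (e * u)) = 1 := by
      calc (d * e * (e * u)) * (d * e * (e * u))
          = (d * e * (e * u) * (d * e)⁻¹) * ((d * e) * (d * e)) * (e * u) := by group
        _ = 1 := by rw [h9, h10]; group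
    have h12 : d * e * (e * u) = (d * (e * e)) * u := by group
    have hu'X : d * e * (e * u) ∉ X := fun h => huX (by
      rw [h12] at h
      simpa only [inv_mul_cancel_left] using X.mul_mem (X.inv_mem (mul_mem hd he2)) h)
    obtain ⟨n₁, hn₁, h13⟩ := hG.exists_conj_invol hdN hu'N h9 h11
      (by rw [← mul_assoc, h9, one_mul]; exact h8)
    rcases hG.pair (L := normalizer (X : Set G)) hX le_normalizer hτX hu'N hτX hu'N
      (hτ2 ▸ X.one_mem) (h11 ▸ X.one_mem) with ⟨W, hW, h14, h15, h16, h17⟩ | ⟨h14, -⟩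
    · exact hsame W _ _ hW h14 h15 h16 h17 (fun h => hτD (hXD₁ h)) hu'X hτ1
        (h12 ▸ mul_mem (hXD₂ (mul_mem hd he2)) (hP4 hu))
    obtain ⟨n₂, hn₂, h15⟩ := hG.exists_conj_invol hτX hu'N hτ2 h11 h14
    have h16 : τ ∈ MulAut.conj (n₂⁻¹ * n₁) • D₁ := by
      have : τ = (n₂⁻¹ * n₁) * (d * e) * (n₂⁻¹ * n₁)⁻¹ := by
        calc τ = n₂⁻¹ * (n₂ * τ * n₂⁻¹) * n₂ := by group
          _ = _ := by rw [h15, ← h13]; group
      rw [this]
      exact conj_mem_conj_smul.2 (mul_mem (hXD₁ hd) (h7 he))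
    have h17 : X ≤ MulAut.conj (n₂⁻¹ * n₁) • D₁ := by
      rw [← conj_smul_eq_iff_mem_normalizer.2 (mul_mem (inv_mem hn₂) hn₁)]
      exact conj_smul_mono _ hXD₁
    have h18 := key' D₁ _ τ hD₁ (hD₁.smul (n₂⁻¹ * n₁)) (two_of_mul_self hτ2)
      (fun h => hτD (hXD₁ h)) hτX hXN (h17.trans le_normalizer) hτ1 (le_normalizer h16)
    exact hτD (h18 ▸ h16)
  obtain ⟨P, hP1, hP2, hP3, hP4⟩ := hP D hD hXD
  obtain ⟨P', hP1', hP2', hP3', hP4'⟩ := hP D' hD' hXD'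
  obtain ⟨T, hT, h1⟩ := exists_isSylowIn_ge hP1 hP4
  obtain ⟨T', hT', h1'⟩ := exists_isSylowIn_ge hP1' hP4'
  obtain ⟨D₃, hD₃, h2⟩ := EX T hT.isPGroup
  obtain ⟨D₃', hD₃', h2'⟩ := EX T' hT'.isPGroup
  obtain rfl := key D D₃ P hD hD₃ hP1 hP2 hP3 (h1.trans h2)
  obtain rfl := key D' D₃' P' hD' hD₃' hP1' hP2' hP3' (h1'.trans h2')
  by_cases hX1 : X = ⊥
  · obtain ⟨R, R', hR, hR', hne⟩ := Nice.ex hD
    have hN : normalizer (X : Set G) = ⊤ := by rw [hX1, normalizer_eq_top]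
    have := hti R R' (hN ▸ HB _ _ hD hR) (hN ▸ HB _ _ hD hR') hne
    exact Nice.ne_bot hD (le_bot_iff.1 (hX1 ▸
      (le_inf (Nice.le_sylow hD hR) (Nice.le_sylow hD hR')).trans this))
  · have hTT : T ≠ T' := fun e =>
      hDD (key D D' T hD hD' hT.isPGroup (hP2.trans_le h1) h2 (e ▸ h2'))
    have hXn : NiceN X := ⟨le_normalizer, le_rfl, hX, hX1, hti, T, T', hT, hT', hTT⟩
    exact hDD ((HU _ _ T hXn hD (HB _ _ hXn hT) hT.le h2).symm.trans
      (HU _ _ T' hXn hD' (HB _ _ hXn hT') hT'.le h2'))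

/-- In a CIT-group with `O₂(G) = 1` whose Sylow `2`-subgroups are not TI, the amalgam exists. -/
theorem exists_amal (hG : IsCIT G) (hO : ∀ K : Subgroup G, K.Normal → IsPGroup 2 K → K = ⊥)
    {S S' : Subgroup G} (hS : IsSylowIn 2 S ⊤) (hS' : IsSylowIn 2 S' ⊤)
    (hne : S ≠ S') (hi : S ⊓ S' ≠ ⊥) : ∃ (D D' R : Subgroup G) (q : ℕ),
      Amal (normalizer (D : Set G)) D (normalizer (D' : Set G)) D' R q := by
  obtain ⟨D₀, h₀⟩ := exists_niceN hS hS' hne hi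
  obtain ⟨D, D', R, h1, h2, h3, h4, h5⟩ := exists_two_niceN hG hO h₀
  have key : ∀ {D D' : Subgroup G}, D ≠ D' → NiceN D → NiceN D' →
      IsSylowIn 2 R (normalizer (D : Set G)) → IsSylowIn 2 R (normalizer (D' : Set G)) →
      ¬ normalizer (D' : Set G) ≤ normalizer (D : Set G) := by
    intro D D' h1 h2 h3 h4 h5 h6
    obtain ⟨T, T', hT, hT', hTT⟩ := Nice.ex h3
    have hU := h4.of_card_le hT.isPGroup (hT.le.trans h6) (h5.card_eq hT).le
    have hU' := h4.of_card_le hT'.isPGroup (hT'.le.trans h6) (h5.card_eq hT').le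
    exact h1 (le_antisymm
      ((le_inf (Nice.le_sylow h2 hU) (Nice.le_sylow h2 hU')).trans (Nice.ti h3 _ _ hT hT' hTT))
      ((le_inf (Nice.le_sylow h3 hT) (Nice.le_sylow h3 hT')).trans (Nice.ti h2 _ _ hU hU' hTT)))
  obtain ⟨q, hq⟩ := (edge_of_nice hG h2 h3 h4 h5 (key h1 h2 h3 h4 h5)
    (key h1.symm h3 h2 h5 h4)).amal hG
  exact ⟨D, D', R, q, hq⟩

end CL.CIT
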