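import Cfsg.Agent.CIT.Nice

/-!
# Failure of factorisation for nice subgroups of CIT-groups

`FF L D q` : `L` is nice, `|Ω₁Z(D)| = q²`, `|Ω₁Z(R)| = |R : D| = q` and `R/D` is elementary abelian
for the Sylow subgroups `R` of `L`.
-/

set_option autoImplicit false

open Subgroup
open scoped Pointwise

namespace CL.CIT

open CL.Transfer CL.Invol

variable {G : Type*} [Group G]

theorem card_ge_of_fiber [Finite G] {E K : Subgroup G} {Y : Type*} (f : E → Y)
    (hf : Function.Surjective f) (h : ∀ e e' : E, (e : G)⁻¹ * e' ∈ K → f e = f e') :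
    Nat.card Y * Nat.card (E ⊓ K : Subgroup G) ≤ Nat.card E := by
  obtain ⟨σ, hσ⟩ := hf.hasRightInverse
  let φ : Y × (E ⊓ K : Subgroup G) → E := fun p => ⟨σ p.1 * p.2, E.mul_mem (σ p.1).2 p.2.2.1⟩
  have h1 : ∀ p, f (φ p) = p.1 := fun p => by
    rw [← h (σ p.1) (φ p) (by simpa [φ] using p.2.2.2), hσ]
  have hφ : Function.Injective φ := by
    rintro ⟨y, c⟩ ⟨y', c'⟩ hp
    have h2 : y = y' := by simpa [h1] using congrArg f hp
    subst h2
    have h3 : (σ y : G) * c = σ y * c' := congrArg Subtype.val hp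
    exact Prod.ext rfl (Subtype.ext (mul_left_cancel h3))
  simpa [Nat.card_prod] using Nat.card_le_card_of_injective φ hφ

theorem two_le_card_of_ne_one [Finite G] {H : Subgroup G} {a : G} (ha : a ∈ H) (h1 : a ≠ 1) :
    2 ≤ Nat.card H :=
  (one_lt_card_iff_ne_bot H).2 fun h => h1 (by rwa [h, mem_bot] at ha)

/-- Failure of factorisation data. -/
structure FF (L D : Subgroup G) (q : ℕ) : Prop where
  nice : Nice L D
  cardA : Nat.card (om D) = q ^ 2
  cardZ : ∀ R, IsSylowIn 2 R L → Nat.card (om R) = q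
  cardR : ∀ R, IsSylowIn 2 R L → Nat.card R = q * Nat.card D
  sq : ∀ x ∈ L, Two x → x * x ∈ D

variable [Finite G] {L D R R' R'' : Subgroup G} {q : ℕ}

theorem Nice.cent_of_card (hG : IsCIT G) (hN : Nice L D) (hR : IsSylowIn 2 R L)
    (hc : Nat.card (om D) = Nat.card (om R) ^ 2) {s a : G} (hs : s ∈ R) (hsD : s ∉ D)
    (ha : a ∈ om D) (h : s * a = a * s) : a ∈ om R := by
  have h1 := hN.card_cent_sq_le hG hR hs hsD
  rw [hc] at h1
  have h2 : om R = om D ⊓ centralizer {s} :=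
    eq_of_le_of_card_le (le_inf (hN.om_le_om hG hR) fun z hz =>
      mem_centralizer_singleton_iff.2 (om_comm hz hs).symm)
      (by simpa using (Nat.pow_le_pow_iff_left (by norm_num : (2 : ℕ) ≠ 0)).1 h1)
  rw [h2]
  exact ⟨ha, mem_centralizer_singleton_iff.2 h.symm⟩

/-- The failure-of-factorisation lemma. -/
theorem Nice.ff (hG : IsCIT G) (hN : Nice L D) (hR : IsSylowIn 2 R L) {E : Subgroup G}
    (hE : E ≤ R) (hE2 : ∀ e ∈ E, e * e = 1) (hED : ¬ E ≤ D)
    (hc : Nat.card (om D) * Nat.card (E ⊓ D : Subgroup G) ≤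
      Nat.card E * Nat.card (om D ⊓ centralizer (E : Set G) : Subgroup G)) :
    FF L D (Nat.card (om R)) ∧ (∀ r ∈ R, ∃ e ∈ E, ∃ d ∈ D, r = e * d) ∧
      Nat.card E = Nat.card (om R) * Nat.card (E ⊓ D : Subgroup G) ∧
      Nat.card (om D ⊓ centralizer (E : Set G) : Subgroup G) = Nat.card (om R) := by
  obtain ⟨t, ht, htD⟩ := SetLike.not_le_iff_exists.1 hED
  have h1 := hN.card_cent_sq_le hG hR (hE ht) htD
  have h2 := card_om_le_sq (D := D) (hN.norm (hR.le (hE ht))) (by simp [hE2 t ht])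
  have h3 : Nat.card (om D ⊓ centralizer (E : Set G) : Subgroup G) ≤
      Nat.card (om D ⊓ centralizer {t} : Subgroup G) :=
    card_le_of_le (inf_le_inf_left _ (centralizer_le (by simpa using ht)))
  have h4 : Nat.card (om R) ≤ Nat.card (om D ⊓ centralizer (E : Set G) : Subgroup G) :=
    card_le_of_le (le_inf (hN.om_le_om hG hR) fun z hz e he => om_comm hz (hE he))
  obtain ⟨z, hz1, hz⟩ := hN.exists_omR hR
  obtain ⟨f, hf, -⟩ := hN.exists_map hG hR hE (fun e he => by simp [hE2 e he]) hz hz1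
  have h5 := card_le_of_fiber f hf
  have h6 : 0 < Nat.card (E ⊓ D : Subgroup G) := Nat.card_pos
  have h7 : 0 < Nat.card (om R) := Nat.card_pos
  set a := Nat.card (om D)
  set m := Nat.card (om D ⊓ centralizer {t} : Subgroup G)
  set c := Nat.card (om D ⊓ centralizer (E : Set G) : Subgroup G)
  set q := Nat.card (om R) with hq
  set e := Nat.card E
  set e0 := Nat.card (E ⊓ D : Subgroup G)
  have ha : a = m ^ 2 := le_antisymm h2 h1
  have h8 : m ^ 2 ≤ q * c := by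
    have : m ^ 2 * e0 ≤ q * c * e0 := by
      calc m ^ 2 * e0 ≤ e * c := ha ▸ hc
        _ ≤ q * e0 * c := Nat.mul_le_mul_right _ h5
        _ = q * c * e0 := by ring
    exact Nat.le_of_mul_le_mul_right this h6
  have h9 : m ≤ q := by
    have : m * m ≤ q * m := by
      calc m * m = m ^ 2 := by ring
        _ ≤ q * c := h8
        _ ≤ q * m := Nat.mul_le_mul_left _ h3
    exact Nat.le_of_mul_le_mul_right this (by omega)
  have hm : m = q := by omega
  have hcq : c = q := by omega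
  have he : e = q * e0 := by
    refine le_antisymm h5 ?_
    have : q * e0 * q ≤ e * q := by
      calc q * e0 * q = a * e0 := by rw [ha, hm]; ring
        _ ≤ e * c := hc
        _ = e * q := by rw [hcq]
    exact Nat.le_of_mul_le_mul_right this h7
  have haq : a = q ^ 2 := by rw [ha, hm]
  -- a point of `A / Z` fixed by `R`
  obtain ⟨x, hx, hxR, -, hxc⟩ := exists_central_mod' (K := om R) (N := om D) hR.isPGroup (om_le R)
    ((om_le D).trans (hN.le_sylow hR)) (le_normalizer.trans (normalizer_le_om R))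
    ((hR.le.trans hN.norm).trans (normalizer_le_om D))
    (fun h => hN.not_le hR fun r hr => hN.mem_of_cent_om hG (hR.le hr) fun a ha => om_comm (h ha) hr)
  let φ : R → om R := fun g => ⟨g * x * (g : G)⁻¹ * x⁻¹, hxc g g.2⟩
  have hφ : ∀ g g' : R, φ g = φ g' ↔ (g : G)⁻¹ * g' ∈ D := by
    intro g g'
    constructor
    · intro h
      replace h : (g : G) * x * (g : G)⁻¹ = g' * x * (g' : G)⁻¹ :=
        mul_right_cancel (congrArg Subtype.val h)
      by_contra hD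
      refine hxR (hN.cent_of_card hG hR haq (mul_mem (inv_mem g.2) g'.2) hD hx ?_)
      calc (g : G)⁻¹ * g' * x = (g : G)⁻¹ * (g' * x * (g' : G)⁻¹) * g' := by group
        _ = x * ((g : G)⁻¹ * g') := by rw [← h]; group
    · intro h
      apply Subtype.ext
      have := om_conj hx h
      calc (g : G) * x * (g : G)⁻¹ * x⁻¹
          = g * ((g : G)⁻¹ * g' * x * ((g : G)⁻¹ * g')⁻¹) * (g : G)⁻¹ * x⁻¹ := by rw [this]
        _ = g' * x * (g' : G)⁻¹ * x⁻¹ := by group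
  have hsurj : Function.Surjective fun e : E => φ ⟨e, hE e.2⟩ :=
    surj_of_fiber (K := D) _ (fun e e' h => (hφ _ _).1 h) he.ge
  have hdec : ∀ r ∈ R, ∃ e ∈ E, ∃ d ∈ D, r = e * d := by
    intro r hr
    obtain ⟨e, he⟩ := hsurj (φ ⟨r, hr⟩)
    exact ⟨e, e.2, _, (hφ _ _).1 he, by simp⟩
  have hRD : R ⊓ D = D := inf_eq_right.2 (hN.le_sylow hR)
  have hcR : Nat.card R = q * Nat.card D := by
    have h10 := card_le_of_fiber φ fun g g' h => (hφ g g').1 h
    have h11 := card_ge_of_fiber φ (fun y => by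
      obtain ⟨e, he⟩ := hsurj y
      exact ⟨_, he⟩) fun g g' h => (hφ g g').2 h
    rw [hRD] at h10 h11
    exact le_antisymm h10 h11
  refine ⟨⟨hN, haq, fun R' hR' => ?_, fun R' hR' => ?_, fun y hy hy2 => ?_⟩, hdec, he, hcq⟩
  · obtain ⟨l, -, rfl⟩ := hR.exists_conj hR'
    rw [← conj_smul_om, card_conj_smul]
  · rw [hR'.card_eq hR, hcR]
  · obtain ⟨R', hR', hy'⟩ := Nice.exists_sylow_mem L hy hy2
    obtain ⟨l, hl, rfl⟩ := hR.exists_conj hR'
    obtain ⟨e, he, d, hd, h⟩ := hdec _ (mem_conj_smul.1 hy')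
    have h12 : (e * d) * (e * d) ∈ D := by
      have := mul_mem (hN.conj_mem (hR.le (hE he)) hd) hd
      convert this using 1
      rw [inv_eq_of_mul_eq_one_right (hE2 e he)]; group
    have := hN.conj_mem hl h12
    rw [← h] at this
    convert this using 1; group

namespace FF

omit [Finite G] in
theorem smul (hF : FF L D q) (g : G) : FF (MulAut.conj g • L) (MulAut.conj g • D) q where
  nice := hF.nice.smul g
  cardA := by rw [← conj_smul_om, card_conj_smul, hF.cardA]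
  cardZ := fun R hR => by
    have h := hR.smul g⁻¹
    rw [conj_inv_smul_conj_smul] at h
    rw [← hF.cardZ _ h, ← conj_smul_om, card_conj_smul]
  cardR := fun R hR => by
    have h := hR.smul g⁻¹
    rw [conj_inv_smul_conj_smul] at h
    rw [card_conj_smul, ← hF.cardR _ h, card_conj_smul]
  sq := fun x hx h2 => by
    rw [mem_conj_smul] at hx ⊢
    have := hF.sq _ hx (by simpa using h2.conj g⁻¹)
    convert this using 1; group

theorem two_le (hF : FF L D q) : 2 ≤ q := by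
  obtain ⟨R, -, hR, -⟩ := hF.nice.ex
  obtain ⟨z, h1, hz⟩ := hF.nice.exists_omR hR
  rw [← hF.cardZ R hR]
  exact two_le_card_of_ne_one hz h1

omit [Finite G] in
theorem sq_mem (hF : FF L D q) (hR : IsSylowIn 2 R L) {s : G} (hs : s ∈ R) : s * s ∈ D :=
  hF.sq s (hR.le hs) (two_of_mem hR.isPGroup hs)

variable (hG : IsCIT G)
include hG

theorem cent (hF : FF L D q) (hR : IsSylowIn 2 R L) {s a : G} (hs : s ∈ R) (hsD : s ∉ D)
    (ha : a ∈ om D) (h : s * a = a * s) : a ∈ om R :=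
  hF.nice.cent_of_card hG hR (by rw [hF.cardA, hF.cardZ R hR]) hs hsD ha h

theorem mem_of_commute (hF : FF L D q) (hR : IsSylowIn 2 R L) {s a : G} (hs : s ∈ R)
    (ha : a ∈ om D) (haR : a ∉ om R) (h : s * a = a * s) : s ∈ D := by
  by_contra hsD
  exact haR (hF.cent hG hR hs hsD ha h)

theorem comm (hF : FF L D q) (hR : IsSylowIn 2 R L) {s a : G} (hs : s ∈ R) (ha : a ∈ om D) :
    s * a * s⁻¹ * a⁻¹ ∈ om R := by
  by_cases hsD : s ∈ D
  · rw [om_conj ha hsD]; simp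
  have h1 := hF.nice.conj_om (hR.le hs) ha
  refine hF.cent hG hR hs hsD (mul_mem h1 (inv_mem ha)) ?_
  have h2 := om_comm ha (hF.sq_mem hR hs)
  have h3 := om_comm ha (om_le _ h1)
  rw [om_inv ha]
  calc s * (s * a * s⁻¹ * a) = (s * s * a) * s⁻¹ * a := by group
    _ = a * (s * a * s⁻¹) * s := by rw [h2]; group
    _ = s * a * s⁻¹ * a * s := by rw [h3]

theorem comm_surj (hF : FF L D q) (hR : IsSylowIn 2 R L) {s z : G} (hs : s ∈ R) (hsD : s ∉ D)
    (hz : z ∈ om R) : ∃ a ∈ om D, s * a * s⁻¹ * a⁻¹ = z := by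
  have := surj_of_fiber (E := om D) (K := om R)
    (fun a => (⟨s * a * s⁻¹ * (a : G)⁻¹, hF.comm hG hR hs a.2⟩ : om R)) ?_ ?_
  · obtain ⟨a, ha⟩ := this ⟨z, hz⟩
    exact ⟨a, a.2, congrArg Subtype.val ha⟩
  · intro a b hab
    replace hab : s * a * s⁻¹ * (a : G)⁻¹ = s * b * s⁻¹ * (b : G)⁻¹ := congrArg Subtype.val hab
    refine hF.cent hG hR hs hsD (mul_mem (inv_mem a.2) b.2) ?_
    have h1 : s * ((a : G)⁻¹ * b) * s⁻¹ = (a : G)⁻¹ * b := by
      have h2 := om_comm (inv_mem a.2) (om_le _ b.2)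
      calc s * ((a : G)⁻¹ * b) * s⁻¹ = (s * a * s⁻¹)⁻¹ * (s * b * s⁻¹ * (b : G)⁻¹) * b := by group
        _ = (a : G)⁻¹ * b := by rw [← hab]; group
    calc s * ((a : G)⁻¹ * b) = s * ((a : G)⁻¹ * b) * s⁻¹ * s := by group
      _ = _ := by rw [h1]
  · rw [inf_eq_right.2 (hF.nice.om_le_om hG hR), hF.cardA, hF.cardZ R hR, pow_two]

theorem exists_mul (hF : FF L D q) (hR : IsSylowIn 2 R L) (hR' : IsSylowIn 2 R' L) (h : R ≠ R')
    {a : G} (ha : a ∈ om D) : ∃ z ∈ om R, ∃ z' ∈ om R', a = z * z' :=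
  exists_mul_of_disjoint (hF.nice.om_le_om hG hR) (hF.nice.om_le_om hG hR')
    (fun _ hz hz' => hF.nice.disj hG hR hR' h hz hz')
    (by rw [hF.cardA, hF.cardZ R hR, hF.cardZ R' hR', pow_two]) ha

theorem orbit (hF : FF L D q) (hR : IsSylowIn 2 R L) {a z : G} (ha : a ∈ om D) (haR : a ∉ om R)
    (hz : z ∈ om R) : ∃ r ∈ R, r * a * r⁻¹ = z * a := by
  have := surj_of_fiber (E := R) (K := D)
    (fun r => (⟨r * a * (r : G)⁻¹ * a⁻¹, hF.comm hG hR r.2 ha⟩ : om R)) ?_ ?_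
  · obtain ⟨r, hr⟩ := this ⟨z, hz⟩
    replace hr : r * a * (r : G)⁻¹ * a⁻¹ = z := congrArg Subtype.val hr
    exact ⟨r, r.2, by rw [← hr]; group⟩
  · intro g g' h
    replace h : (g : G) * a * (g : G)⁻¹ = g' * a * (g' : G)⁻¹ :=
      mul_right_cancel (congrArg Subtype.val h)
    refine hF.mem_of_commute hG hR (mul_mem (inv_mem g.2) g'.2) ha haR ?_
    calc (g : G)⁻¹ * g' * a = (g : G)⁻¹ * (g' * a * (g' : G)⁻¹) * g' := by group
      _ = a * ((g : G)⁻¹ * g') := by rw [← h]; group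
  · rw [inf_eq_right.2 (hF.nice.le_sylow hR), hF.cardZ R hR, hF.cardR R hR]

theorem cover_aux (hF : FF L D q) (hR : IsSylowIn 2 R L) (hR' : IsSylowIn 2 R' L) (h : R ≠ R')
    {a : G} (ha : a ∈ om D) (haR : a ∉ om R) : ∃ r ∈ R, a ∈ om (MulAut.conj r • R') := by
  obtain ⟨z, hz, z', hz', rfl⟩ := hF.exists_mul hG hR hR' h ha
  obtain ⟨r, hr, h1⟩ := hF.orbit hG hR (hF.nice.om_le_om hG hR' hz')
    (fun h2 => haR (mul_mem hz h2)) hz
  refine ⟨r, hr, ?_⟩
  rw [← conj_smul_om, ← h1]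
  exact conj_mem_conj_smul.2 hz'

theorem cover (hF : FF L D q) {a : G} (ha : a ∈ om D) : ∃ R, IsSylowIn 2 R L ∧ a ∈ om R := by
  obtain ⟨R, R', hR, hR', h⟩ := hF.nice.ex
  by_cases haR : a ∈ om R
  · exact ⟨R, hR, haR⟩
  · obtain ⟨r, hr, h1⟩ := hF.cover_aux hG hR hR' h ha haR
    exact ⟨_, sylow_conj hR' (hR.le hr), h1⟩

theorem trans (hF : FF L D q) (hR : IsSylowIn 2 R L) (hR' : IsSylowIn 2 R' L)
    (hR'' : IsSylowIn 2 R'' L) (h' : R ≠ R') (h'' : R ≠ R'') :
    ∃ r ∈ R, MulAut.conj r • R' = R'' := by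
  obtain ⟨z, h1, hz⟩ := hF.nice.exists_omR hR''
  obtain ⟨r, hr, h2⟩ := hF.cover_aux hG hR hR' h' (hF.nice.om_le_om hG hR'' hz)
    (fun h => h1 (hF.nice.disj hG hR hR'' h'' h hz))
  exact ⟨r, hr, hF.nice.eq_of_om hG (sylow_conj hR' (hR.le hr)) hR'' h1 h2 hz⟩

theorem transZ (hF : FF L D q) (hR : IsSylowIn 2 R L) {z z' : G} (hz : z ∈ om R) (h1 : z ≠ 1)
    (hz' : z' ∈ om R) (h1' : z' ≠ 1) :
    ∃ n ∈ L, n ∈ normalizer (R : Set G) ∧ n * z * n⁻¹ = z' := by
  obtain ⟨f, hf, hf'⟩ := hF.nice.exists_map hG hR le_rfl (fun e he => hF.sq_mem hR he) hz h1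
  obtain ⟨e, he⟩ := surj_of_fiber f hf (by
    rw [inf_eq_right.2 (hF.nice.le_sylow hR), hF.cardZ R hR, hF.cardR R hR]) ⟨z', hz'⟩
  rcases hf' e with h | ⟨n, hn, hn', h⟩
  · exact absurd (by rw [← h, he]) h1'
  · exact ⟨n, hn, hn', by rw [← h, he]⟩

/-- All involutions of `om D` are conjugate in `L`. -/
theorem transA (hF : FF L D q) {a a' : G} (ha : a ∈ om D) (h1 : a ≠ 1) (ha' : a' ∈ om D)
    (h1' : a' ≠ 1) : ∃ l ∈ L, l * a * l⁻¹ = a' := by
  obtain ⟨R, hR, h2⟩ := hF.cover hG ha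
  obtain ⟨R', hR', h3⟩ := hF.cover hG ha'
  obtain ⟨l, hl, rfl⟩ := hR.exists_conj hR'
  rw [← conj_smul_om, mem_conj_smul] at h3
  obtain ⟨n, hn, -, h4⟩ := hF.transZ hG hR h2 h1 h3 (fun h => h1' (by
    calc a' = l * (l⁻¹ * a' * l) * l⁻¹ := by group
      _ = 1 := by rw [h]; group))
  refine ⟨l * n, mul_mem hl hn, ?_⟩
  calc l * n * a * (l * n)⁻¹ = l * (n * a * n⁻¹) * l⁻¹ := by group
    _ = a' := by rw [h4]; group

/-- An element normalising three Sylow subgroups lies in `D`. -/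
theorem three (hF : FF L D q) (hR : IsSylowIn 2 R L) (hR' : IsSylowIn 2 R' L)
    (hR'' : IsSylowIn 2 R'' L) (h' : R ≠ R') (h'' : R ≠ R'') (h''' : R' ≠ R'') {n : G}
    (hnL : n ∈ L) (hn : n ∈ normalizer (R : Set G)) (hn' : n ∈ normalizer (R' : Set G))
    (hn'' : n ∈ normalizer (R'' : Set G)) : n ∈ D := by
  by_cases h2 : Two n
  · exact hF.nice.mem_of_norm hR hR' h' (mem_sylow_of_normalizer hR h2 hnL hn) hn'
  exfalso
  obtain ⟨r, hr, rfl⟩ := hF.trans hG hR hR' hR'' h' h''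
  have h3 : n⁻¹ * r⁻¹ * n * r ∈ D := by
    refine hF.nice.mem_of_norm hR hR' h' (mul_mem (conj_mem' hn (inv_mem hr)) hr) ?_
    rw [← conj_smul_normalizer, mem_conj_smul] at hn''
    simpa [mul_assoc] using mul_mem (inv_mem hn') hn''
  have h4 := hG.mem_of_comm_mem hR.isPGroup (hF.nice.le_sylow hR) (hF.nice.norm hnL) h2 hr h3
  exact h''' (conj_smul_eq_of_mem (hF.nice.le_sylow hR' h4)).symm

omit hG in
theorem exists_third (hF : FF L D q) (hR : IsSylowIn 2 R L) (hR' : IsSylowIn 2 R' L) (h : R ≠ R') :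
    ∃ R'', IsSylowIn 2 R'' L ∧ R ≠ R'' ∧ R' ≠ R'' := by
  obtain ⟨r, hr, hrD, -⟩ := hF.nice.exists_sq hR
  exact ⟨_, sylow_conj hR' (hR.le hr), (Nice.conj_ne' h.symm hr).symm,
    (hF.nice.conj_ne hR hR' h hr hrD).symm⟩

/-- An element of order three not normalising `R`. -/
theorem exists_order_three (hF : FF L D q) (hR : IsSylowIn 2 R L) :
    ∃ k ∈ L, ¬ Two k ∧ k * k * k = 1 ∧ MulAut.conj k • R ≠ R := by
  obtain ⟨R'', hR'', h''⟩ := hF.nice.exists_ne R
  obtain ⟨w, hw, hwD, hw2⟩ := hF.nice.exists_sq hR''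
  have hwL := hR''.le hw
  have hR' := sylow_conj hR hwL
  have h1 : MulAut.conj w • R ≠ R := hF.nice.conj_ne hR'' hR h'' hw hwD
  have h2 : MulAut.conj w • R ≠ R'' := Nice.conj_ne' h''.symm hw
  obtain ⟨s, hs, h3⟩ := hF.trans hG hR hR' hR'' h1.symm h''.symm
  have hsD : s ∉ D := fun h => h2 (by
    rw [← h3, conj_smul_eq_of_mem (hF.nice.le_sylow hR' h)])
  have hk := (hF.nice.inv hG hR hR'' h''.symm hs hsD (hF.sq_mem hR hs) hw hwD hw2).1
  have e1 : MulAut.conj (s * w) • R = R'' := by rw [← conj_smul_conj_smul, h3]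
  have e2 : MulAut.conj (s * w) • R'' = MulAut.conj w • R := by
    rw [← conj_smul_conj_smul, conj_smul_eq_of_mem hw, ← h3, conj_smul_conj_smul,
      conj_smul_eq_of_mem (hF.nice.le_sylow hR' (hF.sq_mem hR hs))]
  have e3 : MulAut.conj (s * w) • MulAut.conj w • R = R := by
    rw [← conj_smul_conj_smul, conj_smul_conj_smul w w,
      conj_smul_eq_of_mem (hF.nice.le_sylow hR hw2), conj_smul_eq_of_mem hs]
  have hkL : s * w ∈ L := mul_mem (hR.le hs) hwL
  have h4 : s * w * (s * w) * (s * w) ∈ D := by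
    refine hF.three hG hR hR' hR'' h1.symm h''.symm h2 (mul_mem (mul_mem hkL hkL) hkL) ?_ ?_ ?_ <;>
      rw [← conj_smul_eq_iff_mem_normalizer, ← conj_smul_conj_smul, ← conj_smul_conj_smul]
    · rw [e1, e2, e3]
    · rw [e3, e1, e2]
    · rw [e2, e3, e1]
  refine ⟨s * w, hkL, hk, hG.eq_one_of_commute (two_of_mem hF.nice.two h4) hk (by group), ?_⟩
  rw [e1]; exact h''

end FF

end CL.CIT
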