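import Cfsg.Agent.CIT.Exist

/-!
# Weyl elements in the amalgam; `q ∈ {2, 4}`
-/

set_option autoImplicit false

open Subgroup
open scoped Pointwise

namespace CL.CIT

open CL.Transfer CL.Invol

variable {G : Type*} [Group G] [Finite G]

theorem IsCIT.mem_of_mul_self_mem (hG : IsCIT G) {H : Subgroup G} {g : G} (hg : ¬ Two g)
    (h : g * g ∈ H) : g ∈ H := by
  obtain ⟨m, hm⟩ := hG.odd_of_not_two hg
  have : g = (g * g) ^ (m + 1) := by
    rw [← pow_two, ← pow_mul, show 2 * (m + 1) = (2 * m + 1) + 1 by ring, ← hm, pow_succ,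
      pow_orderOf_eq_one, one_mul]
  rw [this]
  exact pow_mem h _

theorem mem_four {H : Subgroup G} (hH : Nat.card H = 4) {z y : G} (hz : z ∈ H) (hy : y ∈ H)
    (hz1 : z ≠ 1) (hy1 : y ≠ 1) (hyz : y ≠ z) (hz2 : z * z = 1) {c : G} (hc : c ∈ H) :
    c = 1 ∨ c = z ∨ c = y ∨ c = z * y := by
  have h1 : z * y ≠ 1 := fun e => hyz (mul_left_cancel (e.trans hz2.symm))
  have h2 : z * y ≠ z := fun e => hy1 (by simpa using e)
  have h3 : z * y ≠ y := fun e => hz1 (by simpa using e)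
  have h4 : ({1, z, y, z * y} : Set G) = H := by
    refine Set.eq_of_subset_of_ncard_le ?_ ?_ (Set.toFinite _)
    · intro x hx
      rcases hx with rfl | rfl | rfl | rfl
      exacts [H.one_mem, hz, hy, H.mul_mem hz hy]
    · rw [Set.ncard_insert_of_notMem (by simp [hz1.symm, hy1.symm, h1.symm]),
        Set.ncard_insert_of_notMem (by simp [hyz.symm, h2.symm]), Set.ncard_pair h3.symm,
        ← Nat.card_coe_set_eq]
      exact hH.le
  have : c ∈ ({1, z, y, z * y} : Set G) := h4 ▸ hc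
  simpa using this

theorem mem_two {H : Subgroup G} (hH : Nat.card H = 2) {z : G} (hz : z ∈ H) (hz1 : z ≠ 1) {c : G}
    (hc : c ∈ H) : c = 1 ∨ c = z := by
  have h4 : ({1, z} : Set G) = H := by
    refine Set.eq_of_subset_of_ncard_le ?_ ?_ (Set.toFinite _)
    · intro x hx
      rcases hx with rfl | rfl
      exacts [H.one_mem, hz]
    · rw [Set.ncard_pair hz1.symm, ← Nat.card_coe_set_eq]
      exact hH.le
  have : c ∈ ({1, z} : Set G) := h4 ▸ hc
  simpa using this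

variable (hG : IsCIT G)
include hG

/-- An element interchanging two Sylow subgroups has its square in `D`. -/
theorem Nice.sq_mem_of_swap {L D R R' : Subgroup G} (hN : Nice L D) (hR : IsSylowIn 2 R L)
    (hR' : IsSylowIn 2 R' L) (hne : R ≠ R') {g : G} (hg : g ∈ L) (h1 : MulAut.conj g • R = R')
    (h2 : MulAut.conj g • R' = R) : g * g ∈ D := by
  have h3 : g * g ∈ normalizer (R : Set G) := by
    rw [← conj_smul_eq_iff_mem_normalizer, ← conj_smul_conj_smul, h1, h2]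
  have h4 : g * g ∈ normalizer (R' : Set G) := by
    rw [← conj_smul_eq_iff_mem_normalizer, ← conj_smul_conj_smul, h2, h1]
  have h5 : Two g := by
    by_contra h
    exact hne ((conj_smul_eq_iff_mem_normalizer.2 (hG.mem_of_mul_self_mem h h3)).symm.trans h1)
  exact hN.mem_of_norm hR hR' hne
    (mem_sylow_of_normalizer hR (by simpa [pow_two] using h5.pow 2) (mul_mem hg hg) h3) h4

/-- The Weyl element inverting a given torus element. -/
theorem FF.exists_weyl {L D R : Subgroup G} {q : ℕ} (hF : FF L D q) (hR : IsSylowIn 2 R L) {h : G}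
    (hL : h ∈ L) (hn : h ∈ normalizer (R : Set G)) (h2 : ¬ Two h) :
    ∃ w ∈ L, w * w = 1 ∧ w * h * w⁻¹ = h⁻¹ ∧ MulAut.conj w • R ≠ R ∧
      ∃ s ∈ R, w ∈ MulAut.conj s • MulAut.conj w • R := by
  have hN := hF.nice
  have hn' := conj_smul_eq_iff_mem_normalizer.2 hn
  obtain ⟨R', hR', hne, hn''⟩ : ∃ R', IsSylowIn 2 R' L ∧ R ≠ R' ∧ MulAut.conj h • R' = R' := by
    obtain ⟨R₁, hR₁, h3⟩ := hN.exists_ne R
    obtain ⟨r, hr, h4⟩ := hF.trans hG hR (sylow_conj hR₁ hL) hR₁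
      (fun e => h3 (conj_smul_injective h (e.symm.trans hn'.symm))) h3.symm
    obtain ⟨d, hd, h5⟩ := hG.exists_conj hR.isPGroup hn h2 (conj_mem' hn hr)
    refine ⟨_, sylow_conj hR₁ (hR.le hd), (Nice.conj_ne' h3 hd).symm, ?_⟩
    conv_rhs => rw [← h4]
    rw [conj_smul_conj_smul, conj_smul_conj_smul, conj_smul_conj_smul]
    congr 2
    calc h * d = d * (d⁻¹ * h * d) := by group
      _ = d * r * h := by rw [h5]; group
  obtain ⟨g, hg, h3, h4⟩ : ∃ g ∈ L, MulAut.conj g • R = R' ∧ MulAut.conj g • R' = R := by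
    obtain ⟨l, hl, h3⟩ := hR.exists_conj hR'
    obtain ⟨s, hs, h4⟩ := hF.trans hG hR' (sylow_conj hR' hl) hR
      (fun e => hne (conj_smul_injective l (h3.trans e))) hne.symm
    refine ⟨s * l, mul_mem (hR'.le hs) hl, ?_, ?_⟩
    · rw [← conj_smul_conj_smul, h3, conj_smul_eq_of_mem hs]
    · rw [← conj_smul_conj_smul, h4]
  have h5 := hN.sq_mem_of_swap hG hR hR' hne hg h3 h4
  have h6 := hN.sq_mem_of_swap hG hR hR' hne (mul_mem hg hL)
    (by rw [← conj_smul_conj_smul, hn', h3]) (by rw [← conj_smul_conj_smul, hn'', h4])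
  obtain ⟨d, hd, h7, h8⟩ := hG.exists_invol hN.two (hN.norm hL) h2 (hN.norm hg) h5 (by
    have := mul_mem (hN.conj_mem' hg h6) (inv_mem h5)
    convert this using 1; group)
  have hw : d * g ∈ L := mul_mem (hN.le hd) hg
  have e1 : MulAut.conj (d * g) • R = R' := by
    rw [← conj_smul_conj_smul, h3, conj_smul_eq_of_mem (hN.le_sylow hR' hd)]
  have e2 : MulAut.conj (d * g) • R' = R := by
    rw [← conj_smul_conj_smul, h4, conj_smul_eq_of_mem (hN.le_sylow hR hd)]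
  obtain ⟨R'', hR'', h9⟩ := Nice.exists_sylow_mem L hw (two_of_mul_self h7)
  obtain ⟨s, hs, h10⟩ := hF.trans hG hR hR' hR'' hne
    (fun e => hne ((conj_smul_eq_of_mem (e ▸ h9)).symm.trans e1))
  exact ⟨d * g, hw, h7, h8, e1 ▸ hne.symm, s, hs, by rw [e1, h10]; exact h9⟩

/-- The structure equation. -/
theorem FF.weyl_comm {L D R : Subgroup G} {q : ℕ} (hF : FF L D q) (hR : IsSylowIn 2 R L) {w s : G}
    (hw : w ∈ L) (hw2 : w * w = 1) (hwR : MulAut.conj w • R ≠ R) (hs : s ∈ R)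
    (h : w ∈ MulAut.conj s • MulAut.conj w • R) {z : G} (hz : z ∈ om R) :
    s * (w * z * w⁻¹) * s⁻¹ * (w * z * w⁻¹)⁻¹ = z := by
  have hN := hF.nice
  have hzA := hN.om_le_om hG hR hz
  have ha := hN.conj_om hw hzA
  have hσ := hF.comm hG hR hs ha
  have h1 : s * (w * z * w⁻¹) * s⁻¹ ∈ om (MulAut.conj s • MulAut.conj w • R) := by
    rw [← conj_smul_om, ← conj_smul_om]
    exact conj_mem_conj_smul.2 (conj_mem_conj_smul.2 hz)
  have h2 := om_conj h1 h
  set σ := s * (w * z * w⁻¹) * s⁻¹ * (w * z * w⁻¹)⁻¹ with hσ'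
  have hwi : w⁻¹ = w := inv_eq_of_mul_eq_one_right hw2
  have h3 : w * σ * w⁻¹ * z = σ * (w * z * w⁻¹) := by
    calc w * σ * w⁻¹ * z = w * σ * w⁻¹ * ((w * w) * z * (w * w)⁻¹) := by rw [hw2]; group
      _ = w * (s * (w * z * w⁻¹) * s⁻¹) * w⁻¹ := by rw [hσ']; group
      _ = _ := by rw [h2, hσ']; group
  have h4 : w * (σ * z) * w⁻¹ = σ * z := by
    have h5 := om_comm hzA (om_le _ ha)
    calc w * (σ * z) * w⁻¹ = (w * σ * w⁻¹ * z) * z⁻¹ * (w * z * w⁻¹) := by group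
      _ = σ * ((w * z * w⁻¹) * z) * (w * z * w⁻¹) := by rw [h3, om_inv hz]; group
      _ = σ * z * ((w * z * w⁻¹) * (w * z * w⁻¹)) := by rw [h5]; group
      _ = σ * z := by rw [om_sq ha, mul_one]
  have h5 : σ * z = 1 := hN.disj hG hR (sylow_conj hR hw) hwR.symm (mul_mem hσ hz) (by
    rw [← conj_smul_om, ← h4]; exact conj_mem_conj_smul.2 (mul_mem hσ hz))
  rw [eq_inv_of_mul_eq_one_left h5, om_inv hz]

omit [Finite G] hG in
/-- A frame for the amalgam. -/
structure Frame (L L' R : Subgroup G) (h w w' a : G) : Prop where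
  hL : h ∈ L
  hL' : h ∈ L'
  hn : h ∈ normalizer (R : Set G)
  h2 : ¬ Two h
  h3 : h * h * h = 1
  wL : w ∈ L
  wL' : w' ∈ L'
  w2 : w * w = 1
  w2' : w' * w' = 1
  wh : w * h * w⁻¹ = h⁻¹
  wh' : w' * h * w'⁻¹ = h⁻¹
  wR : MulAut.conj w • R ≠ R
  wR' : MulAut.conj w' • R ≠ R
  aZ : a ∈ om R
  a1 : a ≠ 1
  ws : w ∈ MulAut.conj (w' * a * w'⁻¹) • MulAut.conj w • R
  ws' : w' ∈ MulAut.conj (w * a * w⁻¹) • MulAut.conj w' • R

omit [Finite G] hG in
theorem Frame.symm {L L' R : Subgroup G} {h w w' a : G} (f : Frame L L' R h w w' a) :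
    Frame L' L R h w' w a :=
  ⟨f.hL', f.hL, f.hn, f.h2, f.h3, f.wL', f.wL, f.w2', f.w2, f.wh', f.wh, f.wR', f.wR, f.aZ, f.a1,
    f.ws', f.ws⟩

namespace Amal

variable {L D L' D' R : Subgroup G} {q : ℕ} (A : Amal L D L' D' R q)
include A

theorem weyl_aux {w w' s : G} (hw : w ∈ L) (hw' : w' ∈ L') (hw'R : MulAut.conj w' • R ≠ R)
    (hs : s ∈ R) (h : w ∈ MulAut.conj s • MulAut.conj w • R) :
    ∃ c ∈ om R, w ∈ MulAut.conj (w' * c * w'⁻¹) • MulAut.conj w • R := by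
  obtain ⟨a, ha, b, hb, rfl⟩ := A.dec s hs
  obtain ⟨z, hz, z', hz', rfl⟩ := A.f2.exists_mul hG A.s2 (sylow_conj A.s2 hw') hw'R.symm
    (A.symm.mem_om hb)
  have hz'R : z' ∈ R := A.le' (om_le _ (A.f2.nice.om_le_om hG (sylow_conj A.s2 hw') hz'))
  rw [← conj_smul_om, mem_conj_smul] at hz'
  refine ⟨_, hz', ?_⟩
  rw [← mul_assoc, ← conj_smul_conj_smul, conj_smul_eq_of_mem (A.f1.nice.le_sylow
    (sylow_conj (sylow_conj A.s1 hw) (A.s1.le hz'R)) (mul_mem ha (A.Z_le hG hz)))] at h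
  convert h using 3; group

theorem exists_frame {h : G} (hL : h ∈ L) (hL' : h ∈ L') (hn : h ∈ normalizer (R : Set G))
    (h2 : ¬ Two h) : ∃ w w' a, Frame L L' R h w w' a := by
  obtain ⟨w, hw, hw2, hwh, hwR, s, hs, h3⟩ := A.f1.exists_weyl hG A.s1 hL hn h2
  obtain ⟨w', hw', hw2', hwh', hwR', s', hs', h3'⟩ := A.f2.exists_weyl hG A.s2 hL' hn h2
  obtain ⟨c, hc, h4⟩ := A.weyl_aux hG hw hw' hwR' hs h3
  obtain ⟨a, ha, h4'⟩ := A.symm.weyl_aux hG hw' hw hwR hs' h3'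
  have hcR : ∀ z ∈ om R, w' * z * w'⁻¹ ∈ R := fun z hz =>
    A.le' (A.f2.nice.conj_mem hw' (A.Z_le' hG hz))
  have haR : ∀ z ∈ om R, w * z * w⁻¹ ∈ R := fun z hz =>
    A.le (A.f1.nice.conj_mem hw (A.Z_le hG hz))
  have F1 := fun z hz => A.f1.weyl_comm hG A.s1 hw hw2 hwR (hcR c hc) h4 (z := z) hz
  have F2 := fun z hz => A.f2.weyl_comm hG A.s2 hw' hw2' hwR' (haR a ha) h4' (z := z) hz
  obtain rfl : c = a := by
    rw [← F2 c hc, ← om_inv ha]
    conv_rhs => rw [← F1 a ha]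
    rw [om_inv ha]; group
  have hc1 : c ≠ 1 := by
    rintro rfl
    simp only [mul_one, mul_inv_cancel, conj_one_smul, mem_conj_smul] at h4
    exact hwR (conj_smul_eq_of_mem (by simpa using h4))
  have e : ∀ {w : G}, w * h * w⁻¹ = h⁻¹ → ∀ z, h * (w * z * w⁻¹) * h⁻¹ = w * (h⁻¹ * z * h) * w⁻¹ := by
    intro w hwh z
    have : w * h⁻¹ * w⁻¹ = h := by simpa [mul_assoc] using congrArg Inv.inv hwh
    calc h * (w * z * w⁻¹) * h⁻¹ = (w * h⁻¹ * w⁻¹) * (w * z * w⁻¹) * (w * h * w⁻¹) := by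
          rw [this, hwh]
      _ = _ := by group
  have h5 : h * (h * c * h⁻¹) * h⁻¹ = h⁻¹ * c * h := by
    have hc' := conj_mem' (normalizer_le_om R hn) hc
    rw [← F1 _ (conj_mem_om hn hc), ← om_inv hc', ← F2 _ hc']
    calc _ = (h * (w' * c * w'⁻¹) * h⁻¹) * (h * (w * (h * c * h⁻¹) * w⁻¹) * h⁻¹) *
        (h * (w' * c * w'⁻¹) * h⁻¹)⁻¹ * (h * (w * (h * c * h⁻¹) * w⁻¹) * h⁻¹)⁻¹ := by group
      _ = _ := by rw [e hwh, e hwh']; group
  have h6 : h * h * h = 1 := by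
    refine hG.eq_one_of_commute (hG.two_of_commute (two_of_mul_self (om_sq hc)) hc1 ?_) h2
      (by group)
    calc c * (h * h * h) = h * (h⁻¹ * c * h) * h * h := by group
      _ = _ := by rw [← h5]; group
  exact ⟨w, w', c, hL, hL', hn, h2, h6, hw, hw', hw2, hw2', hwh, hwh', hwR, hwR', hc, hc1, h4, h4'⟩

theorem card_cases (hL' : ∀ h ∈ L, h ∈ normalizer (R : Set G) → h ∈ L') : q = 2 ∨ q = 4 := by
  have h3 : ∀ g ∈ L, g ∈ normalizer (R : Set G) → g ∉ R → ∀ z ∈ om R,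
      g⁻¹ * z * g = z * (g * z * g⁻¹) := by
    intro g hg hn hgR z hz
    have h2 : ¬ Two g := fun h => hgR (mem_sylow_of_normalizer A.s1 h hg hn)
    obtain ⟨_, _, _, f⟩ := A.exists_frame hG hg (hL' g hg hn) hn h2
    have h4 := hG.norm_three hn h2 hz (by rw [f.h3]; simp)
    have h5 : g * (g * z * g⁻¹) * g⁻¹ = g⁻¹ * z * g := by
      calc _ = g⁻¹ * ((g * g * g) * z * (g * g * g)⁻¹) * g := by group
        _ = _ := by rw [f.h3]; group
    rw [h5] at h4
    rw [eq_inv_of_mul_eq_one_right h4, om_inv (mul_mem hz (conj_mem_om hn hz))]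
  have key : ∀ h ∈ L, h ∈ normalizer (R : Set G) → h ∉ R → ∀ k ∈ L,
      k ∈ normalizer (R : Set G) → k ∉ R → h * k ∈ R ∨ h * k⁻¹ ∈ R := by
    intro h hh hn hR k hk kn kR
    by_contra hc
    rw [not_or] at hc
    obtain ⟨z, hz1, hz⟩ := A.f1.nice.exists_omR A.s1
    have ha := conj_mem_om hn hz
    have hb := conj_mem_om kn hz
    have hd := conj_mem_om kn ha
    have e1 := h3 _ (mul_mem hh hk) (mul_mem hn kn) hc.1 z hz
    have e2 := h3 _ (mul_mem hh (inv_mem hk)) (mul_mem hn (inv_mem kn)) hc.2 z hz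
    have e3 : (h * k)⁻¹ * z * (h * k) =
        z * (k * z * k⁻¹) * ((h * z * h⁻¹) * (k * (h * z * h⁻¹) * k⁻¹)) := by
      rw [← h3 k hk kn kR z hz, ← h3 k hk kn kR _ ha]
      calc _ = k⁻¹ * (h⁻¹ * z * h) * k := by group
        _ = _ := by rw [h3 h hh hn hR z hz]; group
    have e4 : (h * k⁻¹)⁻¹ * z * (h * k⁻¹) = (k * z * k⁻¹) * (k * (h * z * h⁻¹) * k⁻¹) := by
      calc _ = k * (h⁻¹ * z * h) * k⁻¹ := by group
        _ = _ := by rw [h3 h hh hn hR z hz]; group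
    have e5 : (h * k⁻¹) * z * (h * k⁻¹)⁻¹ = (h * z * h⁻¹) * ((h * k) * z * (h * k)⁻¹) := by
      calc _ = h * (k⁻¹ * z * k) * h⁻¹ := by group
        _ = _ := by rw [h3 k hk kn kR z hz]; group
    rw [e3, mul_assoc z] at e1
    rw [e4, e5, ← mul_left_cancel e1] at e2
    generalize h * z * h⁻¹ = a at *
    generalize k * z * k⁻¹ = b at *
    generalize k * a * k⁻¹ = d at *
    apply hz1
    apply mul_right_cancel (b := b * d)
    rw [one_mul]
    conv_rhs => rw [e2, ← mul_assoc a b, ← om_comm ha (om_le _ hb)]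
    calc z * (b * d) = z * (b * (a * a) * d) := by rw [om_sq ha]; group
      _ = _ := by group
  obtain ⟨n, hn⟩ := (IsPGroup.iff_card (p := 2)).1 (om_isPGroup R)
  rw [A.card_Z] at hn
  have h2 := A.f1.two_le
  have h4 : q ≤ 4 := by
    by_contra hq
    obtain ⟨z, hz1, hz⟩ := A.f1.nice.exists_omR A.s1
    have ex : ∀ s : Set G, s.Finite → s.ncard ≤ 4 → ∃ y ∈ om R, y ∉ s := fun s hs h => by
      by_contra hc
      push Not at hc
      have := Set.ncard_le_ncard (s := (om R : Set G)) hc hs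
      rw [← Nat.card_coe_set_eq] at this
      have h5 : Nat.card (om R) ≤ s.ncard := this
      rw [A.card_Z] at h5
      omega
    obtain ⟨y, hy, hy'⟩ := ex {1, z} (Set.toFinite _)
      ((Set.ncard_insert_le _ _).trans (by simp))
    simp only [Set.mem_insert_iff, Set.mem_singleton_iff, not_or] at hy'
    obtain ⟨h, hh, hn, e1⟩ := A.f1.transZ hG A.s1 hz hz1 hy hy'.1
    have hR : h ∉ R := fun h' => hy'.2 (by rw [← e1, om_conj hz h'])
    obtain ⟨x, hx, hx'⟩ := ex {1, z, y, h⁻¹ * z * h} (Set.toFinite _)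
      ((Set.ncard_insert_le _ _).trans (Nat.succ_le_succ ((Set.ncard_insert_le _ _).trans
        (Nat.succ_le_succ ((Set.ncard_insert_le _ _).trans (by simp))))))
    simp only [Set.mem_insert_iff, Set.mem_singleton_iff, not_or] at hx'
    obtain ⟨k, hk, kn, e2⟩ := A.f1.transZ hG A.s1 hz hz1 hx hx'.1
    have kR : k ∉ R := fun h' => hx'.2.1 (by rw [← e2, om_conj hz h'])
    rcases key h hh hn hR k hk kn kR with h5 | h5
    · refine hx'.2.2.2 ?_
      rw [← e2]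
      calc k * z * k⁻¹ = h⁻¹ * ((h * k) * z * (h * k)⁻¹) * h := by group
        _ = _ := by rw [om_conj hz h5]
    · refine hx'.2.2.1 ?_
      have := om_conj hx h5
      rw [← e1, ← this, ← e2]; group
  subst hn
  rcases n with _ | _ | _ | n
  · simp at h2
  · simp
  · simp
  · have : 0 < 2 ^ n := by positivity
    omega

theorem exists_torus (hq : q = 4) :
    ∃ h ∈ L, h ∈ normalizer (R : Set G) ∧ ¬ Two h := by
  obtain ⟨z, hz1, hz⟩ := A.f1.nice.exists_omR A.s1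
  obtain ⟨y, hy, hy1, hyz⟩ : ∃ y ∈ om R, y ≠ 1 ∧ y ≠ z := by
    by_contra hc
    push Not at hc
    have : (om R : Set G) ⊆ {1, z} := fun y hy => by
      by_cases h : y = 1
      · exact Or.inl h
      · exact Or.inr (hc y hy h)
    have h1 := (Set.ncard_le_ncard this (Set.toFinite _)).trans (Set.ncard_insert_le _ _)
    rw [← Nat.card_coe_set_eq] at h1
    have h5 : Nat.card (om R) ≤ _ := h1
    rw [A.card_Z, hq] at h5
    simp at h5
  obtain ⟨h, hh, hn, e1⟩ := A.f1.transZ hG A.s1 hz hz1 hy hy1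
  exact ⟨h, hh, hn, fun h2 => hyz (by
    rw [← e1, om_conj hz (mem_sylow_of_normalizer A.s1 h2 hh hn)])⟩

end Amal

end CL.CIT
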