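import Cfsg.Agent.CIT.Basic

/-!
# Nice subgroups of CIT-groups

`Nice L D` : `D` is a nontrivial normal `2`-subgroup of `L`, `L` has at least two Sylow
`2`-subgroups and distinct Sylow `2`-subgroups of `L` intersect in `D`.
-/

set_option autoImplicit false

open Subgroup
open scoped Pointwise

namespace CL.CIT

open CL.Transfer CL.Invol

variable {G : Type*} [Group G]

theorem surj_of_fiber [Finite G] {E K : Subgroup G} {Y : Type*} [Finite Y] (f : E → Y)
    (h : ∀ e e' : E, f e = f e' → (e : G)⁻¹ * e' ∈ K)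
    (hc : Nat.card Y * Nat.card (E ⊓ K : Subgroup G) ≤ Nat.card E) : Function.Surjective f := by
  classical
  intro y
  by_contra hy
  push Not at hy
  have h1 := card_le_of_fiber (Y := {y' // y' ≠ y}) (K := K) (fun e => ⟨f e, hy e⟩)
    (fun e e' he => h e e' (congrArg Subtype.val he))
  have h2 : Nat.card {y' // y' ≠ y} < Nat.card Y :=
    Finite.card_subtype_lt (p := fun y' => y' ≠ y) (x := y) (by simp)
  have h3 : 0 < Nat.card (E ⊓ K : Subgroup G) := Nat.card_pos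
  have := Nat.mul_lt_mul_of_pos_right h2 h3
  omega

theorem mul_injective_of_disjoint {H K : Subgroup G} (h : ∀ x ∈ H, x ∈ K → x = 1) :
    Function.Injective fun p : H × K => (p.1 : G) * p.2 := by
  rintro ⟨a, b⟩ ⟨a', b'⟩ hab
  simp only at hab
  have h1 : (a' : G)⁻¹ * a = b' * (b : G)⁻¹ := by
    calc (a' : G)⁻¹ * a = (a' : G)⁻¹ * (a * b) * (b : G)⁻¹ := by group
      _ = b' * (b : G)⁻¹ := by rw [hab]; group
  have h2 : (a' : G)⁻¹ * a = 1 :=
    h _ (H.mul_mem (H.inv_mem a'.2) a.2) (h1 ▸ K.mul_mem b'.2 (K.inv_mem b.2))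
  have h3 : a = a' := Subtype.ext (inv_mul_eq_one.1 h2).symm
  subst h3
  exact Prod.ext rfl (Subtype.ext (mul_left_cancel hab))

theorem card_mul_le_of_disjoint [Finite G] {H K A : Subgroup G} (hH : H ≤ A) (hK : K ≤ A)
    (h : ∀ x ∈ H, x ∈ K → x = 1) : Nat.card H * Nat.card K ≤ Nat.card A := by
  have := Nat.card_le_card_of_injective
    (fun p : H × K => (⟨(p.1 : G) * p.2, A.mul_mem (hH p.1.2) (hK p.2.2)⟩ : A))
    (fun p p' hp => mul_injective_of_disjoint h (congrArg Subtype.val hp))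
  simpa [Nat.card_prod] using this

theorem exists_mul_of_disjoint [Finite G] {H K A : Subgroup G} (hH : H ≤ A) (hK : K ≤ A)
    (h : ∀ x ∈ H, x ∈ K → x = 1) (hc : Nat.card A ≤ Nat.card H * Nat.card K) {a : G}
    (ha : a ∈ A) : ∃ x ∈ H, ∃ y ∈ K, a = x * y := by
  have hinj : Function.Injective
      (fun p : H × K => (⟨(p.1 : G) * p.2, A.mul_mem (hH p.1.2) (hK p.2.2)⟩ : A)) :=
    fun p p' hp => mul_injective_of_disjoint h (congrArg Subtype.val hp)
  have hb := hinj.bijective_of_nat_card_le (by simpa [Nat.card_prod] using hc)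
  obtain ⟨p, hp⟩ := hb.2 ⟨a, ha⟩
  exact ⟨p.1, p.1.2, p.2, p.2.2, (congrArg Subtype.val hp).symm⟩

theorem eq_of_le_of_card_le [Finite G] {H K : Subgroup G} (h : H ≤ K)
    (hc : Nat.card K ≤ Nat.card H) : H = K :=
  eq_of_le_of_card_ge h hc

/-- An element whose square centralises `om D` has a large centraliser there. -/
theorem card_om_le_sq [Finite G] {D : Subgroup G} {t : G} (ht : t ∈ normalizer (D : Set G))
    (ht2 : ∀ a ∈ om D, t * t * a = a * (t * t)) :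
    Nat.card (om D) ≤ Nat.card (om D ⊓ centralizer {t} : Subgroup G) ^ 2 := by
  rw [pow_two]
  refine card_le_of_fiber (Y := (om D ⊓ centralizer {t} : Subgroup G))
    (fun a => ⟨a * (t * a * t⁻¹), mem_inf.2 ⟨mul_mem a.2 (conj_mem_om ht a.2), ?_⟩⟩) ?_
  · rw [mem_centralizer_singleton_iff]
    have h1 := om_comm a.2 (om_le _ (conj_mem_om ht a.2))
    calc a * (t * a * t⁻¹) * t = (t * a * t⁻¹) * a * t := by rw [h1]
      _ = t * a * t⁻¹ * (a * (t * t)) * t⁻¹ := by group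
      _ = t * (a * (t * a * t⁻¹)) := by rw [← ht2 a a.2]; group
  · intro a b hab
    replace hab : (a : G) * (t * a * t⁻¹) = b * (t * b * t⁻¹) := congrArg Subtype.val hab
    rw [mem_centralizer_singleton_iff]
    have h1 := om_comm b.2 (om_le _ (conj_mem_om ht b.2))
    have ha := om_inv a.2
    have hb := om_sq b.2
    have hb' := om_sq (conj_mem_om ht b.2)
    have h2 : (t * a * t⁻¹) * (t * b * t⁻¹) = a * b := by
      calc (t * a * t⁻¹) * (t * b * t⁻¹) = (a : G)⁻¹ * (a * (t * a * t⁻¹)) * (t * b * t⁻¹) := by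
            group
        _ = a * b * ((t * b * t⁻¹) * (t * b * t⁻¹)) := by rw [hab, ha]; group
        _ = a * b := by rw [hb', mul_one]
    rw [ha]
    calc a * b * t = (t * a * t⁻¹) * (t * b * t⁻¹) * t := by rw [h2]
      _ = t * (a * b) := by group

/-- `D` is a nontrivial normal `2`-subgroup of `L`, and it is the intersection of any two of the at
least two Sylow `2`-subgroups of `L`. -/
structure Nice (L D : Subgroup G) : Prop where
  le : D ≤ L
  norm : L ≤ normalizer (D : Set G)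
  two : IsPGroup 2 D
  ne_bot : D ≠ ⊥
  ti : ∀ R R', IsSylowIn 2 R L → IsSylowIn 2 R' L → R ≠ R' → R ⊓ R' ≤ D
  ex : ∃ R R', IsSylowIn 2 R L ∧ IsSylowIn 2 R' L ∧ R ≠ R'

theorem conj_smul_injective (g : G) {H K : Subgroup G}
    (h : MulAut.conj g • H = MulAut.conj g • K) : H = K := by
  simpa [conj_inv_smul_conj_smul] using congrArg (fun X => MulAut.conj g⁻¹ • X) h

theorem sylow_conj {R L : Subgroup G} (hR : IsSylowIn 2 R L) {l : G} (hl : l ∈ L) :
    IsSylowIn 2 (MulAut.conj l • R) L := hR.smul_of_mem_normalizer (le_normalizer hl)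

namespace Nice

variable {L D R R' : Subgroup G}

theorem smul (hN : Nice L D) (g : G) : Nice (MulAut.conj g • L) (MulAut.conj g • D) where
  le := conj_smul_mono g hN.le
  norm := by rw [← conj_smul_normalizer]; exact conj_smul_mono g hN.norm
  two := isPGroup_conj_smul hN.two g
  ne_bot := fun h => hN.ne_bot (conj_smul_injective g (by rw [h]; simp))
  ti := by
    intro R R' hR hR' hne
    have h1 := hR.smul g⁻¹
    have h2 := hR'.smul g⁻¹
    rw [conj_inv_smul_conj_smul] at h1 h2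
    have := conj_smul_mono g (hN.ti _ _ h1 h2 fun h => hne (conj_smul_injective _ h))
    rwa [conj_smul_inf, conj_smul_conj_inv_smul, conj_smul_conj_inv_smul] at this
  ex := by
    obtain ⟨R, R', hR, hR', hne⟩ := hN.ex
    exact ⟨_, _, hR.smul g, hR'.smul g, fun h => hne (conj_smul_injective _ h)⟩

theorem conj_mem (hN : Nice L D) {l d : G} (hl : l ∈ L) (hd : d ∈ D) : l * d * l⁻¹ ∈ D :=
  CIT.conj_mem (hN.norm hl) hd

theorem conj_mem' (hN : Nice L D) {l d : G} (hl : l ∈ L) (hd : d ∈ D) : l⁻¹ * d * l ∈ D :=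
  CIT.conj_mem' (hN.norm hl) hd

theorem conj_notMem (hN : Nice L D) {l d : G} (hl : l ∈ L) (hd : d ∉ D) : l * d * l⁻¹ ∉ D :=
  fun h => hd (mem_of_conj_mem (hN.norm hl) h)

theorem conj_om (hN : Nice L D) {l a : G} (hl : l ∈ L) (ha : a ∈ om D) : l * a * l⁻¹ ∈ om D :=
  conj_mem_om (hN.norm hl) ha

theorem eq_of_mem (hN : Nice L D) (hR : IsSylowIn 2 R L) (hR' : IsSylowIn 2 R' L) {x : G}
    (hx : x ∈ R) (hx' : x ∈ R') (hD : x ∉ D) : R = R' := by
  by_contra h
  exact hD (hN.ti _ _ hR hR' h ⟨hx, hx'⟩)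

theorem exists_ne (hN : Nice L D) (R : Subgroup G) : ∃ R', IsSylowIn 2 R' L ∧ R' ≠ R := by
  obtain ⟨R₁, R₂, h1, h2, h⟩ := hN.ex
  by_cases h3 : R₁ = R
  · exact ⟨R₂, h2, fun e => h (h3.trans e.symm)⟩
  · exact ⟨R₁, h1, h3⟩

variable [Finite G]

theorem le_sylow (hN : Nice L D) (hR : IsSylowIn 2 R L) : D ≤ R :=
  le_sylow_of_normalizer hR hN.two hN.le (hR.le.trans hN.norm)

theorem exists_conj_ne (hN : Nice L D) (hR : IsSylowIn 2 R L) :
    ∃ l ∈ L, MulAut.conj l • R ≠ R := by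
  obtain ⟨R', hR', h⟩ := hN.exists_ne R
  obtain ⟨l, hl, rfl⟩ := hR.exists_conj hR'
  exact ⟨l, hl, h⟩

theorem not_le (hN : Nice L D) (hR : IsSylowIn 2 R L) : ¬ R ≤ D := by
  intro h
  obtain ⟨l, hl, h1⟩ := hN.exists_conj_ne hR
  have : R = D := le_antisymm h (hN.le_sylow hR)
  subst this
  exact h1 (conj_smul_eq_iff_mem_normalizer.2 (hN.norm hl))

theorem exists_sq (hN : Nice L D) (hR : IsSylowIn 2 R L) : ∃ t ∈ R, t ∉ D ∧ t * t ∈ D :=
  exists_sq_mem hR.isPGroup (hN.not_le hR)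

theorem le_of_normal (hN : Nice L D) {X : Subgroup G} (hX : IsPGroup 2 X) (hXL : X ≤ L)
    (hn : L ≤ normalizer (X : Set G)) : X ≤ D := by
  obtain ⟨R, R', hR, hR', h⟩ := hN.ex
  exact (le_inf (le_sylow_of_normalizer hR hX hXL (hR.le.trans hn))
    (le_sylow_of_normalizer hR' hX hXL (hR'.le.trans hn))).trans (hN.ti _ _ hR hR' h)

/-- A `2`-subgroup of `L` meeting two Sylow subgroups outside `D` forces them to be equal. -/
theorem eq_of_two (hN : Nice L D) (hR : IsSylowIn 2 R L) (hR' : IsSylowIn 2 R' L) {W : Subgroup G}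
    (hW : IsPGroup 2 W) (hWL : W ≤ L) {s s' : G} (hs : s ∈ R) (hsD : s ∉ D) (hsW : s ∈ W)
    (hs' : s' ∈ R') (hsD' : s' ∉ D) (hsW' : s' ∈ W) : R = R' := by
  obtain ⟨R'', hR'', hle⟩ := exists_isSylowIn_ge hW hWL
  exact (hN.eq_of_mem hR hR'' hs (hle hsW) hsD).trans (hN.eq_of_mem hR'' hR' (hle hsW') hs' hsD')

theorem le_of_two (hN : Nice L D) (hR : IsSylowIn 2 R L) {W : Subgroup G}
    (hW : IsPGroup 2 W) (hWL : W ≤ L) {s : G} (hs : s ∈ R) (hsD : s ∉ D) (hsW : s ∈ W) :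
    W ≤ R := by
  obtain ⟨R'', hR'', hle⟩ := exists_isSylowIn_ge hW hWL
  exact (hN.eq_of_mem hR hR'' hs (hle hsW) hsD) ▸ hle

theorem exists_sylow_mem (L : Subgroup G) {s : G} (hs : s ∈ L) (h2 : Two s) :
    ∃ R, IsSylowIn 2 R L ∧ s ∈ R := by
  obtain ⟨R, hR, hle⟩ := exists_isSylowIn_ge h2.isPGroup_zpowers (zpowers_le.2 hs)
  exact ⟨R, hR, hle (mem_zpowers s)⟩

theorem mem_of_norm (hN : Nice L D) (hR : IsSylowIn 2 R L) (hR' : IsSylowIn 2 R' L) (h : R ≠ R')
    {r : G} (hr : r ∈ R) (hn : r ∈ normalizer (R' : Set G)) : r ∈ D :=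
  hN.ti _ _ hR hR' h ⟨hr, mem_sylow_of_normalizer hR' (two_of_mem hR.isPGroup hr) (hR.le hr) hn⟩

theorem conj_ne (hN : Nice L D) (hR : IsSylowIn 2 R L) (hR' : IsSylowIn 2 R' L) (h : R ≠ R')
    {r : G} (hr : r ∈ R) (hD : r ∉ D) : MulAut.conj r • R' ≠ R' := fun e =>
  hD (hN.mem_of_norm hR hR' h hr (conj_smul_eq_iff_mem_normalizer.1 e))

omit [Finite G] in
theorem conj_ne' (h : R' ≠ R) {r : G} (hr : r ∈ R) : MulAut.conj r • R' ≠ R := fun e =>
  h (conj_smul_injective r (e.trans (conj_smul_eq_of_mem hr).symm))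

omit [Finite G] in
theorem mem_normalizer_of_conj_mem (hN : Nice L D) (hR : IsSylowIn 2 R L) {l x : G} (hl : l ∈ L)
    (hx : x ∈ R) (hxD : x ∉ D) (hx' : l * x * l⁻¹ ∈ R) : l ∈ normalizer (R : Set G) :=
  conj_smul_eq_iff_mem_normalizer.1 (hN.eq_of_mem (sylow_conj hR hl) hR
    (conj_mem_conj_smul.2 hx) hx' (hN.conj_notMem hl hxD))

theorem exists_om (hN : Nice L D) : ∃ a, a ≠ 1 ∧ a ∈ om D := CIT.exists_om hN.two hN.ne_bot

theorem exists_omR (hN : Nice L D) (hR : IsSylowIn 2 R L) : ∃ a, a ≠ 1 ∧ a ∈ om R :=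
  CIT.exists_om hR.isPGroup fun h => hN.not_le hR (h ▸ bot_le)

variable (hG : IsCIT G)
include hG

theorem eq_of_commute (hN : Nice L D) (hR : IsSylowIn 2 R L) (hR' : IsSylowIn 2 R' L) {a s s' : G}
    (ha : Two a) (h1 : a ≠ 1) (hs : s ∈ R) (hsD : s ∉ D) (hc : s * a = a * s)
    (hs' : s' ∈ R') (hsD' : s' ∉ D) (hc' : s' * a = a * s') : R = R' :=
  hN.eq_of_two hR hR' ((hG.isPGroup_centralizer ha h1).to_inf_right (H := L)) inf_le_left hs hsD
    ⟨hR.le hs, mem_centralizer_singleton_iff.2 hc⟩ hs' hsD'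
    ⟨hR'.le hs', mem_centralizer_singleton_iff.2 hc'⟩

/-- The centraliser in `L` of a nontrivial `2`-subgroup normalised by `L` lies in `D`. -/
theorem mem_of_centralizes (hN : Nice L D) {U : Subgroup G} (hU : IsPGroup 2 U) (hne : U ≠ ⊥)
    (hn : L ≤ normalizer (U : Set G)) {l : G} (hl : l ∈ L) (hc : ∀ a ∈ U, l * a = a * l) :
    l ∈ D := by
  obtain ⟨a, ha1, ha⟩ := CIT.exists_om hU hne
  refine hN.le_of_normal (X := L ⊓ centralizer (U : Set G)) ?_ inf_le_left ?_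
    ⟨hl, fun a ha => (hc a ha).symm⟩
  · exact (hG.isPGroup_centralizer (two_of_mul_self (om_sq ha)) ha1).to_le
      (inf_le_right.trans (centralizer_le (by simpa using om_le _ ha)))
  · exact (le_inf le_normalizer (hn.trans (normalizer_le_normalizer_centralizer U))).trans
      (normalizer_inf_le_normalizer_inf _ _)

theorem mem_of_cent_om (hN : Nice L D) {l : G} (hl : l ∈ L) (hc : ∀ a ∈ om D, l * a = a * l) :
    l ∈ D := by
  obtain ⟨a, ha1, ha⟩ := hN.exists_om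
  exact hN.mem_of_centralizes hG (om_isPGroup D) (fun h => ha1 (by rwa [h, mem_bot] at ha))
    (hN.norm.trans (normalizer_le_om D)) hl hc

theorem om_le_om (hN : Nice L D) (hR : IsSylowIn 2 R L) : om R ≤ om D := fun _ hz =>
  ⟨hN.mem_of_cent_om hG (hR.le hz.1)
      fun _ ha => (om_comm hz (hN.le_sylow hR (om_le _ ha))).symm,
    om_sq hz, fun _ hx => om_comm hz (hN.le_sylow hR hx)⟩

theorem disj (hN : Nice L D) (hR : IsSylowIn 2 R L) (hR' : IsSylowIn 2 R' L) (h : R ≠ R') {z : G}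
    (hz : z ∈ om R) (hz' : z ∈ om R') : z = 1 := by
  by_contra h1
  obtain ⟨s, hs, hsD, -⟩ := hN.exists_sq hR
  obtain ⟨s', hs', hsD', -⟩ := hN.exists_sq hR'
  exact h (hN.eq_of_commute hG hR hR' (two_of_mul_self (om_sq hz)) h1 hs hsD (om_comm hz hs)
    hs' hsD' (om_comm hz' hs'))

theorem eq_of_om (hN : Nice L D) (hR : IsSylowIn 2 R L) (hR' : IsSylowIn 2 R' L) {z : G}
    (h1 : z ≠ 1) (hz : z ∈ om R) (hz' : z ∈ om R') : R = R' := by
  by_contra h
  exact h1 (hN.disj hG hR hR' h hz hz')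

/-- Elements from different Sylow subgroups with squares in `D`. -/
theorem inv (hN : Nice L D) (hR : IsSylowIn 2 R L) (hR' : IsSylowIn 2 R' L) (h : R ≠ R') {t u : G}
    (ht : t ∈ R) (htD : t ∉ D) (ht2 : t * t ∈ D) (hu : u ∈ R') (huD : u ∉ D) (hu2 : u * u ∈ D) :
    ¬ Two (t * u) ∧ ∃ d ∈ D, (d * t) * (d * t) = 1 ∧
      (d * t) * (t * u) * (d * t)⁻¹ = (t * u)⁻¹ := by
  rcases hG.pair hN.two hN.le (hR.le ht) (hR'.le hu) (hN.norm (hR.le ht)) (hN.norm (hR'.le hu))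
    ht2 hu2 with ⟨W, hW, -, hWL, h1, h2⟩ | h1
  · exact absurd (hN.eq_of_two hR hR' hW hWL ht htD h1 hu huD h2) h
  · exact h1

theorem conj_mod_of_ne (hN : Nice L D) (hR : IsSylowIn 2 R L) (hR' : IsSylowIn 2 R' L) (h : R ≠ R')
    {t u : G} (ht : t ∈ R) (htD : t ∉ D) (ht2 : t * t ∈ D) (hu : u ∈ R') (huD : u ∉ D)
    (hu2 : u * u ∈ D) : ∃ l ∈ L, l * t * l⁻¹ * u⁻¹ ∈ D := by
  obtain ⟨h2, d, hd, h3, h4⟩ := hN.inv hG hR hR' h ht htD ht2 hu huD hu2
  have htL := hR.le ht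
  have huL := hR'.le hu
  have hdt : d * t ∈ L := mul_mem (hN.le hd) htL
  have h5 : (d * t * (t * u)) * (d * t * (t * u)) = 1 := by
    calc (d * t * (t * u)) * (d * t * (t * u))
        = (d * t * (t * u) * (d * t)⁻¹) * ((d * t) * (d * t)) * (t * u) := by group
      _ = 1 := by rw [h3, h4]; group
  obtain ⟨l, hl, h6⟩ := hG.exists_conj_invol hdt (mul_mem hdt (mul_mem htL huL)) h3 h5
    (by rw [← mul_assoc, h3, one_mul]; exact h2)
  refine ⟨l, hl, ?_⟩
  have : l * t * l⁻¹ * u⁻¹ = (l * d⁻¹ * l⁻¹) * (d * (t * t)) := by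
    calc l * t * l⁻¹ * u⁻¹ = (l * d⁻¹ * l⁻¹) * (l * (d * t) * l⁻¹) * u⁻¹ := by group
      _ = _ := by rw [h6]; group
  rw [this]
  exact mul_mem (hN.conj_mem hl (inv_mem hd)) (mul_mem hd ht2)

/-- All involutions of `R/D` are conjugate under `N_L(R)`. -/
theorem conj_mod (hN : Nice L D) (hR : IsSylowIn 2 R L) {t u : G} (ht : t ∈ R) (htD : t ∉ D)
    (ht2 : t * t ∈ D) (hu : u ∈ R) (huD : u ∉ D) (hu2 : u * u ∈ D) :
    ∃ n ∈ L, n ∈ normalizer (R : Set G) ∧ n * t * n⁻¹ * u⁻¹ ∈ D := by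
  obtain ⟨R', hR', h⟩ := hN.exists_ne R
  obtain ⟨v, hv, hvD, hv2⟩ := hN.exists_sq hR'
  obtain ⟨l, hl, h1⟩ := hN.conj_mod_of_ne hG hR hR' h.symm ht htD ht2 hv hvD hv2
  obtain ⟨m, hm, h2⟩ := hN.conj_mod_of_ne hG hR' hR h hv hvD hv2 hu huD hu2
  have h3 : (m * l) * t * (m * l)⁻¹ * u⁻¹ ∈ D := by
    have := mul_mem (hN.conj_mem hm h1) h2
    convert this using 1; group
  refine ⟨m * l, mul_mem hm hl, hN.mem_normalizer_of_conj_mem hR (mul_mem hm hl) ht htD ?_, h3⟩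
  simpa using mul_mem (hN.le_sylow hR h3) hu

theorem card_cent_sq_le (hN : Nice L D) (hR : IsSylowIn 2 R L) {s : G} (hs : s ∈ R) (hsD : s ∉ D) :
    Nat.card (om D ⊓ centralizer {s} : Subgroup G) ^ 2 ≤ Nat.card (om D) := by
  obtain ⟨l, hl, hne⟩ := hN.exists_conj_ne hR
  have := card_mul_le_of_disjoint (H := om D ⊓ centralizer {s})
    (K := MulAut.conj l • (om D ⊓ centralizer {s})) (A := om D) inf_le_left
    (conj_smul_le_iff.2 fun x hx => hN.conj_om hl hx.1) ?_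
  · rwa [card_conj_smul, ← pow_two] at this
  · intro x hx hx'
    by_contra h1
    rw [mem_conj_smul] at hx'
    refine hne (hN.eq_of_commute hG (sylow_conj hR hl) hR (two_of_mul_self (om_sq hx.1)) h1
      (conj_mem_conj_smul.2 hs) (hN.conj_notMem hl hsD) ?_ hs hsD
      (mem_centralizer_singleton_iff.1 hx.2).symm)
    have := mem_centralizer_singleton_iff.1 hx'.2
    calc l * s * l⁻¹ * x = l * (s * (l⁻¹ * x * l)) * l⁻¹ := by group
      _ = x * (l * s * l⁻¹) := by rw [← this]; group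

theorem mem_of_commute_om (hR : IsSylowIn 2 R L) {n z : G} (hnL : n ∈ L)
    (hn : n ∈ normalizer (R : Set G)) (hz : z ∈ om R) (h1 : z ≠ 1) (hc : n * z = z * n) : n ∈ R :=
  mem_sylow_of_normalizer hR (hG.two_of_commute (two_of_mul_self (om_sq hz)) h1 hc.symm) hnL hn

/-- A map from the involutions of `R/D` to the `N_L(R)`-orbit of a central involution of `R`. -/
theorem exists_map (hN : Nice L D) (hR : IsSylowIn 2 R L) {E : Subgroup G} (hE : E ≤ R)
    (hE2 : ∀ e ∈ E, e * e ∈ D) {z : G} (hz : z ∈ om R) (h1 : z ≠ 1) :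
    ∃ f : E → om R, (∀ e e' : E, f e = f e' → (e : G)⁻¹ * e' ∈ D) ∧
      ∀ e, (f e : G) = 1 ∨ ∃ n ∈ L, n ∈ normalizer (R : Set G) ∧ (f e : G) = n * z * n⁻¹ := by
  classical
  obtain ⟨ζ, hζ, hζD, hζ2, hζc⟩ := exists_central_mod' hR.isPGroup (hN.le_sylow hR) le_rfl
    (hR.le.trans hN.norm) le_normalizer (hN.not_le hR)
  have key : ∀ e : E, (e : G) ∉ D →
      ∃ n ∈ L, n ∈ normalizer (R : Set G) ∧ n * ζ * n⁻¹ * (e : G)⁻¹ ∈ D := fun e he =>
    hN.conj_mod hG hR hζ hζD hζ2 (hE e.2) he (hE2 _ e.2)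
  choose! n hnL hnN hn using key
  refine ⟨fun e => if he : (e : G) ∈ D then 1 else ⟨n e * z * (n e)⁻¹, conj_mem_om (hnN e he) hz⟩,
    ?_, ?_⟩
  · intro e e' hee
    have hne : ∀ g : G, g * z * g⁻¹ ≠ 1 := fun g h => h1 (by simpa using h)
    by_cases he : (e : G) ∈ D <;> by_cases he' : (e' : G) ∈ D
    · exact mul_mem (inv_mem he) he'
    · simp only [he, he', dite_true, dite_false] at hee
      exact absurd (congrArg Subtype.val hee).symm (hne _)
    · simp only [he, he', dite_true, dite_false] at hee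
      exact absurd (congrArg Subtype.val hee) (hne _)
    · simp only [he, he', dite_false, Subtype.mk.injEq] at hee
      have hr : (n e)⁻¹ * n e' ∈ R := by
        refine mem_of_commute_om hG hR (mul_mem (inv_mem (hnL e he)) (hnL e' he'))
          (mul_mem (inv_mem (hnN e he)) (hnN e' he')) hz h1 ?_
        calc (n e)⁻¹ * n e' * z = (n e)⁻¹ * (n e' * z * (n e')⁻¹) * n e' := by group
          _ = z * ((n e)⁻¹ * n e') := by rw [← hee]; group
      have h2 := hN.conj_mem (hnL e he) (hζc _ hr)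
      have h3 := mul_mem (mul_mem (inv_mem (hn e' he')) h2) (hn e he)
      have h4 := hN.conj_mem' (hR.le (hE e.2)) h3
      convert h4 using 1; group
  · intro e
    by_cases he : (e : G) ∈ D
    · left; simp [he]
    · right; exact ⟨n e, hnL e he, hnN e he, by simp [he]⟩

end Nice

end CL.CIT
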