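import Cfsg.Agent.CIT.Plane
import Cfsg.Agent.Lin.Gen
import Cfsg.Agent.Lin.Card
import Cfsg.Agent.Lin.Blocks
import Cfsg.Agent.GLn.Conj

/-!
# Recognition of `PSL₃(4)` from the amalgam
-/

set_option autoImplicit false

open Subgroup Matrix
open scoped Pointwise

namespace CL.CIT

open CL.Transfer CL.Invol

section Coord

variable {G Ω F : Type*} [Group G] [Field F]

open Classical in
/-- Coordinates of the points. -/
noncomputable def coord3 (p : Ω) (ρ : F → Ω) (π : F → F → Ω) (a b c : F) : Ω :=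
  if c = 0 then (if b = 0 then p else ρ (a / b)) else π (a / c) (b / c)

/-- Coordinates of the points. -/
noncomputable def coord (p : Ω) (ρ : F → Ω) (π : F → F → Ω) (v : Fin 3 → F) : Ω :=
  coord3 p ρ π (v 0) (v 1) (v 2)

theorem exists_hom_SL3 (act : G → Ω → Ω) (act_mul : ∀ g g' o, act (g * g') o = act g (act g' o))
    (act_one : ∀ o, act 1 o = o) (p : Ω) (ρ : F → Ω) (π : F → F → Ω) (x : F → G) (w w' : G)
    (X1 : ∀ c, act (x c) p = p) (X2 : ∀ c t, act (x c) (ρ t) = ρ t)
    (X3 : ∀ c s t, act (x c) (π s t) = π (s + c) t)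
    (W1 : act w p = p) (W2 : ∀ t, act w (ρ t) = π t 0) (W2' : ∀ t, act w (π t 0) = ρ t)
    (W3 : ∀ s t, t ≠ 0 → act w (π s t) = π (s / t) (1 / t))
    (V1 : act w' p = ρ 0) (V1' : act w' (ρ 0) = p) (V2 : ∀ t, t ≠ 0 → act w' (ρ t) = ρ (1 / t))
    (V3 : ∀ s t, act w' (π s t) = π t s)
    (faith : ∀ g, act g p = p → (∀ t, act g (ρ t) = ρ t) → (∀ s t, act g (π s t) = π s t) → g = 1)
    (hne : p ≠ ρ 0) : ∃ φ : SpecialLinearGroup (Fin 3) F →* G, ∃ A, φ A ≠ 1 := by
  classical
  let Rel : ((Fin 3 → F) → (Fin 3 → F)) → G → Prop := fun f g =>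
    ∀ v, v ≠ 0 → f v ≠ 0 ∧ coord p ρ π (f v) = act g (coord p ρ π v)
  have comp : ∀ f f' g g', Rel f g → Rel f' g' → Rel (f ∘ f') (g * g') := by
    intro f f' g g' h h' v hv
    exact ⟨(h _ (h' v hv).1).1, by rw [Function.comp, (h _ (h' v hv).1).2, (h' v hv).2, act_mul]⟩
  have nz : ∀ v : Fin 3 → F, v ≠ 0 ↔ ¬ (v 0 = 0 ∧ v 1 = 0 ∧ v 2 = 0) := fun v => by
    simp [funext_iff, Fin.forall_fin_succ]
  let E : F → (Fin 3 → F) → (Fin 3 → F) := fun c v => ![v 0 + c * v 2, v 1, v 2]
  let S : (Fin 3 → F) → (Fin 3 → F) := fun v => ![v 0, v 2, v 1]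
  let S' : (Fin 3 → F) → (Fin 3 → F) := fun v => ![v 1, v 0, v 2]
  have hE : ∀ c, Rel (E c) (x c) := by
    intro c v hv
    rw [nz] at hv ⊢
    refine ⟨fun h => hv ?_, ?_⟩
    · simp only [E, cons_val] at h
      obtain ⟨h0, h1, h2⟩ := h
      exact ⟨by simpa [h2] using h0, h1, h2⟩
    · change coord3 p ρ π (v 0 + c * v 2) (v 1) (v 2) = act _ (coord3 p ρ π (v 0) (v 1) (v 2))
      unfold coord3
      split_ifs with h2 h1
      · rw [X1]
      · rw [X2, h2, mul_zero, add_zero]
      · rw [X3]; congr 1; field_simp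
  have hS : Rel S w := by
    intro v hv
    rw [nz] at hv ⊢
    refine ⟨fun h => hv ?_, ?_⟩
    · simp only [S, cons_val] at h
      tauto
    · change coord3 p ρ π (v 0) (v 2) (v 1) = act _ (coord3 p ρ π (v 0) (v 1) (v 2))
      unfold coord3
      split_ifs with h1 h2 h2
      · rw [W1]
      · rw [h1, zero_div, W2']
      · rw [W2, h2, zero_div]
      · rw [W3 _ _ (div_ne_zero h1 h2)]; congr 1 <;> field_simp
  have hS' : Rel S' w' := by
    intro v hv
    rw [nz] at hv ⊢
    refine ⟨fun h => hv ?_, ?_⟩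
    · simp only [S', cons_val] at h
      tauto
    · change coord3 p ρ π (v 1) (v 0) (v 2) = act _ (coord3 p ρ π (v 0) (v 1) (v 2))
      unfold coord3
      split_ifs with h2 h0 h1 h1
      · exact absurd ⟨h0, h1, h2⟩ hv
      · rw [h0, zero_div, V1']
      · rw [V1, h1, zero_div]
      · rw [V2 _ (div_ne_zero h0 h1)]; congr 1; field_simp
      · rw [V3]
  have hex : ∀ A : SpecialLinearGroup (Fin 3) F, ∃ g, Rel (fun v => A.1 *ᵥ v) g := by
    refine CL.Lin.transvection_induction _ ⟨1, fun v hv => by simp [hv, act_one]⟩ ?_ ?_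
    · intro i j hij c
      have h02 := hE c
      have h01 := comp _ _ _ _ hS (comp _ _ _ _ h02 hS)
      have h12 := comp _ _ _ _ hS' (comp _ _ _ _ h02 hS')
      have h10 := comp _ _ _ _ hS' (comp _ _ _ _ h01 hS')
      have h21 := comp _ _ _ _ hS (comp _ _ _ _ h12 hS)
      have h20 := comp _ _ _ _ hS (comp _ _ _ _ h10 hS)
      have key : ∀ f g, Rel f g → (∀ v, f v = v + Pi.single i (c * v j)) →
          ∃ g, Rel (fun v => (SpecialLinearGroup.transvection hij c).1 *ᵥ v) g := by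
        intro f g h hf
        refine ⟨g, ?_⟩
        convert h using 1
        funext v
        rw [hf, SpecialLinearGroup.transvection_coe, add_mulVec, one_mulVec, single_mulVec]
        congr 1
      fin_cases i <;> fin_cases j
      · exact absurd rfl hij
      · exact key _ _ h01 fun v => by funext k; fin_cases k <;> simp [E, S]
      · exact key _ _ h02 fun v => by funext k; fin_cases k <;> simp [E]
      · exact key _ _ h10 fun v => by funext k; fin_cases k <;> simp [E, S, S']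
      · exact absurd rfl hij
      · exact key _ _ h12 fun v => by funext k; fin_cases k <;> simp [E, S']
      · exact key _ _ h20 fun v => by funext k; fin_cases k <;> simp [E, S, S']
      · exact key _ _ h21 fun v => by funext k; fin_cases k <;> simp [E, S, S']
      · exact absurd rfl hij
    · rintro A B ⟨g, hg⟩ ⟨g', hg'⟩
      refine ⟨g * g', ?_⟩
      convert comp _ _ _ _ hg hg' using 1
      funext v
      simp
  have huniq : ∀ f g g', Rel f g → Rel f g' → g = g' := by
    intro f g g' h h'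
    have key : ∀ v, v ≠ 0 → act (g'⁻¹ * g) (coord p ρ π v) = coord p ρ π v := fun v hv => by
      rw [act_mul, ← (h v hv).2, (h' v hv).2, ← act_mul, inv_mul_cancel, act_one]
    refine (inv_mul_eq_one.1 (faith _ ?_ (fun t => ?_) fun s t => ?_)).symm
    · simpa [coord, coord3] using key ![1, 0, 0] (by simp [nz])
    · simpa [coord, coord3] using key ![t, 1, 0] (by simp [nz])
    · simpa [coord, coord3] using key ![s, t, 1] (by simp [nz])
  choose φ hφ using hex
  refine ⟨MonoidHom.mk' φ fun A B => huniq _ _ _ (hφ _) ?_,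
    SpecialLinearGroup.transvection (show (0 : Fin 3) ≠ 1 by decide) (-1) *
      SpecialLinearGroup.transvection (show (1 : Fin 3) ≠ 0 by decide) 1, fun h => hne ?_⟩
  · convert comp _ _ _ _ (hφ A) (hφ B) using 1
    funext v
    simp
  · replace h : φ _ = 1 := h
    have := h ▸ (hφ _ ![1, 0, 0] (by simp [nz])).2
    rw [act_one] at this
    simpa [coord, coord3, SpecialLinearGroup.transvection_coe, mulVec, dotProduct, Fin.sum_univ_three,
      mul_apply, one_apply, single_apply] using this.symm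

end Coord

variable {G : Type*} [Group G] [Finite G]

theorem card_PSL34 {F : Type*} [Field F] [Fintype F] (hF : Fintype.card F = 4) :
    Nat.card (ProjectiveSpecialLinearGroup (Fin 3) F) = 20160 := by
  have h1 : Nat.card (GL (Fin 3) F) = 181440 := by
    rw [CL.Lin.card_GL, hF]
    decide
  have h2 := CL.Lin.card_SL_mul (ι := Fin 3) (F := F)
  have h3 := CL.Lin.card_PSL_mul (ι := Fin 3) (F := F)
  simp only [Fintype.card_fin, hF] at h2 h3
  norm_num at h2 h3
  omega

namespace AmalN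

variable {D D' R : Subgroup G} {q : ℕ} (A : AmalN D D' R q) (hG : IsCIT G)
include A hG

theorem exists_param (hq : q = 4) {h a : G} (hn : h ∈ normalizer (R : Set G)) (h2 : ¬ Two h)
    (h3 : h * h * h = 1) (ha : a ∈ om R) (ha1 : a ≠ 1) {F : Type*} [Field F] {ω : F}
    (hc : (2 : F) = 0) (hω : ω ^ 2 + ω + 1 = 0) (hall : ∀ t : F, t = 0 ∨ t = 1 ∨ t = ω ∨ t = ω + 1) :
    ∃ x : F → G, (∀ t, x t ∈ om R) ∧ x 0 = 1 ∧ x 1 = a ∧ (∀ s t, x (s + t) = x s * x t) ∧
      (∀ t, x (ω * t) = h * x t * h⁻¹) ∧ ∀ z ∈ om R, ∃ t, x t = z := by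
  classical
  have hb := conj_mem_om hn ha
  set b := h * a * h⁻¹ with hb'
  have h4 : h * b * h⁻¹ = a * b := by
    rw [eq_inv_of_mul_eq_one_right (hG.norm_three hn h2 ha (by rw [h3]; simp)),
      om_inv (mul_mem ha hb)]
  have h5 : h * (a * b) * h⁻¹ = a := by
    rw [← h4, hb']
    calc _ = (h * h * h) * a * (h * h * h)⁻¹ := by group
      _ = a := by rw [h3]; group
  have hω0 : ω ≠ 0 := by rintro rfl; simp at hω
  have hω1 : ω ≠ 1 := by rintro rfl; exact one_ne_zero (α := F) (by linear_combination hω - hc)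
  have hω2 : ω + 1 ≠ 0 := fun e => hω1 (by linear_combination e - hc)
  have hω3 : ω + 1 ≠ 1 := fun e => hω0 (by linear_combination e)
  have hω4 : ω + 1 ≠ ω := fun e => one_ne_zero (α := F) (by linear_combination e)
  let x : F → G := fun t => if t = 0 then 1 else if t = 1 then a else if t = ω then b else a * b
  have x0 : x 0 = 1 := by simp [x]
  have x1 : x 1 = a := by simp [x]
  have x2 : x ω = b := by simp [x, hω0, hω1]
  have x3 : x (ω + 1) = a * b := by simp [x, hω2, hω3, hω4]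
  have aa := om_sq ha
  have bb := om_sq hb
  have ba : b * a = a * b := om_comm ha hb.1
  have aab : ∀ y, a * (a * y) = y := fun y => by rw [← mul_assoc, aa, one_mul]
  have bab : ∀ y, b * (a * y) = a * (b * y) := fun y => by rw [← mul_assoc, ba, mul_assoc]
  refine ⟨x, fun t => ?_, x0, x1, fun s t => ?_, fun t => ?_, fun z hz => ?_⟩
  · rcases hall t with rfl | rfl | rfl | rfl
    exacts [x0 ▸ one_mem _, x1 ▸ ha, x2 ▸ hb, x3 ▸ mul_mem ha hb]
  · have e1 : (1 : F) + 1 = 0 := by linear_combination hc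
    have e2 : (1 : F) + ω = ω + 1 := by ring
    have e3 : (1 : F) + (ω + 1) = ω := by linear_combination hc
    have e4 : ω + ω = 0 := by linear_combination ω * hc
    have e5 : ω + (ω + 1) = 1 := by linear_combination ω * hc
    have e6 : ω + 1 + 1 = ω := by linear_combination hc
    have e7 : ω + 1 + ω = 1 := by linear_combination ω * hc
    have e8 : ω + 1 + (ω + 1) = 0 := by linear_combination (ω + 1) * hc
    rcases hall s with hs | hs | hs | hs <;> rcases hall t with ht | ht | ht | ht <;>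
      rw [hs, ht] <;>
      simp only [zero_add, add_zero, e1, e2, e3, e4, e5, e6, e7, e8, x0, x1, x2, x3, mul_one,
        one_mul, mul_assoc, aa, bb, ba, aab, bab]
  · rcases hall t with ht | ht | ht | ht <;> rw [ht]
    · simp [x0]
    · rw [mul_one, x1, x2]
    · rw [show ω * ω = ω + 1 by linear_combination hω - (ω + 1) * hc, x3, x2, h4]
    · rw [show ω * (ω + 1) = 1 by linear_combination hω - hc, x3, x1, h5]
  · rcases mem_four (A.card_Z.trans hq) ha hb ha1 (by rwa [hb', Ne, conj_eq_one_iff])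
      (fun e => ha1 (hG.eq_one_of_conj (two_of_mul_self aa) h2 e)) aa hz with e | e | e | e
    exacts [⟨_, e ▸ x0⟩, ⟨_, e ▸ x1⟩, ⟨_, e ▸ x2⟩, ⟨_, e ▸ x3⟩]

theorem iso_PSL34 [IsSimpleGroup G] (hR : IsSylowIn 2 R ⊤) (hq : q = 4) {F : Type*} [Field F]
    [Fintype F] (hF : Fintype.card F = 4) :
    Nonempty (G ≃* ProjectiveSpecialLinearGroup (Fin 3) F) := by
  obtain ⟨h, hh, hhn, hh2⟩ := Amal.exists_torus hG A hq
  obtain ⟨w, w', a, f⟩ := Amal.exists_frame hG A hh (A.mem_normalizer' hG hhn hh) hhn hh2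
  obtain ⟨hc, ω, hω, hall⟩ := CL.GLn.field_four hF
  obtain ⟨x, xZ, x0, x1, xadd, xω, xsurj⟩ := A.exists_param hG hq hhn hh2 f.h3 f.aZ f.a1 hc hω hall
  have hω3 : ω * (ω * ω) = 1 := by linear_combination (ω - 1) * hω
  have hω0 : ω ≠ 0 := by rintro rfl; simp at hω
  have eD := conj_smul_eq_iff_mem_normalizer.2 f.wL
  have eD' := conj_smul_eq_iff_mem_normalizer.2 f.wL'
  have wi : w⁻¹ = w := inv_eq_of_mul_eq_one_right f.w2
  have wi' : w'⁻¹ = w' := inv_eq_of_mul_eq_one_right f.w2'
  have xD : ∀ t, x t ∈ D := fun t => A.Z_le hG (xZ t)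
  have xD' : ∀ t, x t ∈ D' := fun t => A.Z_le' hG (xZ t)
  have yD : ∀ t, w * x t * w⁻¹ ∈ D := fun t => conj_mem f.wL (xD t)
  have yD' : ∀ t, w' * x t * w'⁻¹ ∈ D' := fun t => conj_mem f.wL' (xD' t)
  have fixp : ∀ {p l : Subgroup G} {t : G}, Flag D D' p l → t ∈ l → MulAut.conj t • p = p :=
    fun h ht => conj_smul_eq_iff_mem_normalizer.2 (A.flag_le h ht)
  have fixl : ∀ {p l : Subgroup G} {t : G}, Flag D D' p l → t ∈ p → MulAut.conj t • l = l :=
    fun h ht => conj_smul_eq_iff_mem_normalizer.2 (A.flag_le' h ht)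
  have f12 : Flag D D' (MulAut.conj w' • D) D' := by simpa only [eD'] using (flag_base D D').smul w'
  have f13 : Flag D D' D (MulAut.conj w • D') := by simpa only [eD] using (flag_base D D').smul w
  have f33 := f12.smul w
  have e3 := A.frame_fix hG hR hq f
  have hx : ∀ {w : G}, w * h * w⁻¹ = h⁻¹ → ∀ t,
      h * (w * x (ω * t) * w⁻¹) = (w * x t * w⁻¹) * h := by
    intro w hw t
    have : w * h⁻¹ * w⁻¹ = h := by simpa [mul_assoc] using congrArg Inv.inv hw
    rw [xω]
    calc _ = (w * h⁻¹ * w⁻¹) * (w * (h * x t * h⁻¹) * w⁻¹) := by rw [this]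
      _ = (w * x t * w⁻¹) * (w * h⁻¹ * w⁻¹) := by group
      _ = _ := by rw [this]
  have hw : ∀ {w : G}, w * h * w⁻¹ = h⁻¹ → h * w * h = w := fun {w} hw => by
    calc h * w * h = h * (w * h * w⁻¹) * w := by group
      _ = w := by rw [hw]; group
  have hD := conj_smul_eq_iff_mem_normalizer.2 hh
  have hp : ∀ {w : G}, w * h * w⁻¹ = h⁻¹ → ∀ X : Subgroup G, MulAut.conj h • X = X →
      MulAut.conj h • MulAut.conj w • X = MulAut.conj w • X := by
    intro w hw' X hX
    conv_lhs => rw [← hX, conj_smul_conj_smul, conj_smul_conj_smul, hw hw']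
  have hp2 := hp f.wh' _ hD
  have hp3 := hp f.wh _ hp2
  set p₂ := MulAut.conj w' • D with hp₂
  set p₃ := MulAut.conj w • p₂ with hp₃
  set ρ : F → Subgroup G := fun t => MulAut.conj (w * x t * w⁻¹) • p₂ with hρ
  set π : F → F → Subgroup G := fun s t => MulAut.conj (x s * (w' * x t * w'⁻¹)) • p₃ with hπ
  have hρh : ∀ t, MulAut.conj h • ρ (ω * t) = ρ t := fun t => by
    simp only [hρ]
    rw [conj_smul_conj_smul, hx f.wh, ← conj_smul_conj_smul, hp2]
  have hπh : ∀ s t, MulAut.conj h • π s (ω * t) = π (ω * s) t := fun s t => by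
    simp only [hπ]
    rw [conj_smul_conj_smul, xω s]
    conv_rhs => rw [← hp3, conj_smul_conj_smul, mul_assoc, ← hx f.wh']
    congr 2; group
  have fρ : ∀ t, Flag D D' (ρ t) D' := fun t => by
    simpa only [fixl (flag_base D D') (yD t)] using f12.smul (w * x t * w⁻¹)
  have ind : ∀ Q : F → Prop, Q 1 → (∀ t, t ≠ 0 → Q t → Q (ω * t)) → ∀ t, t ≠ 0 → Q t := by
    intro Q h1 h2 t ht
    have h3 := h2 _ one_ne_zero h1
    have h4 := h2 _ (by simpa using hω0) h3
    rcases hall t with e | e | e | e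
    · exact absurd e ht
    · exact e ▸ h1
    · rw [e, ← mul_one ω]; exact h3
    · rw [e, show ω + 1 = ω * (ω * 1) by linear_combination (ω + 1) * hc - hω]; exact h4
  have W2 : ∀ t, MulAut.conj w • ρ t = π t 0 := fun t => by
    simp only [hρ, hπ, hp₃, x0, conj_smul_conj_smul]
    congr 2
    rw [wi]
    calc w * (w * x t * w) = (w * w) * x t * w := by group
      _ = _ := by rw [f.w2]; group
  have W3 : ∀ t, t ≠ 0 → ∀ s, MulAut.conj w • π s t = π (s / t) (1 / t) := by
    refine ind _ (fun s => ?_) fun t ht ih s => ?_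
    · have h1 : w ∉ D := fun h => f.wR (conj_smul_eq_of_mem (A.le h))
      have hs : w' * a * w'⁻¹ ∈ D' := x1 ▸ yD' 1
      have B := (A.conj w).conj (w' * a * w'⁻¹)
      rw [eD, fixp (flag_base D D') hs] at B
      have h2 := (B.invol hG f.ws f.w2).resolve_left h1
      have h3 := (f33.smul (x s)).smul (w' * a * w'⁻¹)
      rw [fixl f13 (xD s), conj_smul_conj_smul, om_comm (xZ s) (A.le' hs)] at h3
      simp only [div_one, hπ, x1]
      exact fixp h3 h2
    · have e : w = h * w * h := (hw f.wh).symm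
      rw [e, ← conj_smul_conj_smul, ← conj_smul_conj_smul, hπh, ih,
        show 1 / t = ω * (1 / (ω * t)) by field_simp, hπh]
      congr 1
      field_simp
      linear_combination s * hω3
  have V2 : ∀ t, t ≠ 0 → MulAut.conj w' • ρ t = ρ (1 / t) := by
    refine ind _ ?_ fun t ht ih => ?_
    · have h1 : w' ∉ D' := fun h => f.wR' (conj_smul_eq_of_mem (A.le' h))
      have hs : w * a * w⁻¹ ∈ D := x1 ▸ yD 1
      have B := (A.conj w').conj (w * a * w⁻¹)
      rw [eD', fixl (flag_base D D') hs] at B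
      simp only [div_one, hρ, x1]
      exact conj_smul_eq_of_mem ((B.invol hG f.ws' f.w2').resolve_right h1)
    · have e : w' = h * w' * h := (hw f.wh').symm
      rw [e, ← conj_smul_conj_smul, ← conj_smul_conj_smul, hρh, ih,
        show 1 / t = ω * (1 / (ω * t)) by field_simp, hρh]
  have V3 : ∀ s t, MulAut.conj w' • π s t = π t s := fun s t => by
    simp only [hπ]
    conv_rhs => rw [← e3]
    rw [conj_smul_conj_smul w', conj_smul_conj_smul _ w', ← om_comm (xZ t) (A.le' (yD' s))]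
    congr 2
    rw [wi']; group
  have ρ0 : ρ 0 = p₂ := by simp [hρ, x0]
  have n12 : D ≠ p₂ := fun e => f.wR' (conj_smul_eq_iff_mem_normalizer.2
    (A.mem_normalizer_R (conj_smul_eq_iff_mem_normalizer.1 e.symm) f.wL'))
  -- all points have coordinates
  have pts : ∀ p, Flag D D' p D' → p = D ∨ ∃ t, p = ρ t := by
    rintro _ ⟨g, rfl, e⟩
    have B := A.conj g
    rw [← e] at B
    by_cases h1 : R = MulAut.conj g • R
    · left
      have := A.eq_of_sylow hG hR (g' := 1) (h1.symm.trans (conj_one_smul R).symm)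
      rwa [conj_one_smul] at this
    right
    obtain ⟨r, hr, h2⟩ := A.f2.trans hG A.s2 (sylow_conj A.s2 f.wL') B.s2 f.wR'.symm h1
    obtain ⟨c, hc, d, hd, rfl⟩ := A.dec r hr
    obtain ⟨z, hz, z', hz', rfl⟩ := A.f1.exists_mul hG A.s1 (sylow_conj A.s1 f.wL) f.wR.symm
      (A.mem_om hc)
    have hz'D := (A.f1.nice.om_le_om hG (sylow_conj A.s1 f.wL) hz').1
    rw [← conj_smul_om, mem_conj_smul] at hz'
    obtain ⟨t, ht⟩ := xsurj _ hz'
    refine ⟨t, ?_⟩
    rw [conj_smul_conj_smul] at h2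
    rw [← A.eq_of_sylow hG hR h2, A.comm (A.Z_le hG hz) hz'D, mul_assoc z',
      ← conj_smul_conj_smul, ← conj_smul_conj_smul, fixp f12 (mul_mem (A.Z_le' hG hz) hd)]
    simp only [hρ, ht]
    congr 2; group
  have hR3 : ∀ r ∈ R, ∃ s t, MulAut.conj r • p₃ = π s t := by
    intro r hr
    obtain ⟨d, hd, c, hc, rfl⟩ := A.symm.dec r hr
    obtain ⟨z, hz, z', hz', rfl⟩ := A.f1.exists_mul hG A.s1 (sylow_conj A.s1 f.wL) f.wR.symm
      (A.mem_om hc)
    obtain ⟨y, hy, y', hy', rfl⟩ := A.f2.exists_mul hG A.s2 (sylow_conj A.s2 f.wL') f.wR'.symm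
      (A.symm.mem_om hd)
    have hy'R := A.le' (A.f2.nice.om_le_om hG (sylow_conj A.s2 f.wL') hy').1
    rw [← conj_smul_om, mem_conj_smul] at hy'
    obtain ⟨t, ht⟩ := xsurj _ hy'
    obtain ⟨s, hs⟩ := xsurj _ (mul_mem hy hz)
    refine ⟨s, t, ?_⟩
    rw [← mul_assoc, ← conj_smul_conj_smul, fixp f33 ((A.conj w).Z_le' hG hz')]
    simp only [hπ, ht, hs]
    congr 2
    rw [mul_assoc, om_comm hz hy'R]; group
  have all : ∀ g : G, MulAut.conj g • D = D ∨ (∃ t, MulAut.conj g • D = ρ t) ∨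
      ∃ s t, MulAut.conj g • D = π s t := by
    intro g
    obtain ⟨l, ⟨g₀, e₀, rfl⟩, h2⟩ := A.collinear_base hG hR hq g
    have B := A.conj g₀
    rw [← e₀] at B
    by_cases h1 : R = MulAut.conj g₀ • R
    · have := AmalN.eq_of_sylow A.symm hG hR (g' := 1) (h1.symm.trans (conj_one_smul R).symm)
      rw [conj_one_smul] at this
      rw [this] at h2
      exact (pts _ h2).imp_right Or.inl
    obtain ⟨r, hr, h3⟩ := A.f1.trans hG A.s1 (sylow_conj A.s1 f.wL) B.s1 f.wR.symm h1
    rw [conj_smul_conj_smul] at h3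
    rw [← AmalN.eq_of_sylow A.symm hG hR h3] at h2
    have h4 := h2.smul (r * w)⁻¹
    rw [conj_inv_smul_conj_smul] at h4
    rw [← conj_smul_conj_inv_smul (r * w) (MulAut.conj g • D)]
    rcases pts _ h4 with e | ⟨t, e⟩ <;> rw [e, ← conj_smul_conj_smul]
    · left
      rw [eD, conj_smul_eq_iff_mem_normalizer.2 (A.s1.le hr)]
    · obtain ⟨s', t', e'⟩ := hR3 _ (mul_mem hr (xZ t).1)
      refine Or.inr (Or.inr ⟨s', t', ?_⟩)
      rw [W2, ← e']
      simp [hπ, x0, conj_smul_conj_smul]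
  have faith : ∀ g : G, MulAut.conj g • D = D → (∀ t, MulAut.conj g • ρ t = ρ t) →
      (∀ s t, MulAut.conj g • π s t = π s t) → g = 1 := by
    intro g h1 h2 h3
    have hn : (core ⊤ (normalizer (D : Set G))).Normal :=
      normalizer_eq_top_iff.1 (eq_top_iff.2 (le_normalizer_core _ _))
    rcases hn.eq_bot_or_eq_top with e | e
    · rw [← mem_bot, ← e]
      intro y _
      rw [← conj_smul_eq_iff_mem_normalizer, ← conj_smul_conj_smul, ← conj_smul_conj_smul]
      have : MulAut.conj g • MulAut.conj y⁻¹ • D = MulAut.conj y⁻¹ • D := by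
        rcases all y⁻¹ with e | ⟨t, e⟩ | ⟨s, t, e⟩ <;> rw [e]
        exacts [h1, h2 t, h3 s t]
      rw [this, conj_smul_conj_inv_smul]
    · exact absurd (conj_smul_eq_iff_mem_normalizer.2
        (core_le ⊤ _ (e.ge (mem_top w')))).symm n12
  obtain ⟨φ, hφ⟩ := exists_hom_SL3 (fun g X => MulAut.conj g • X)
    (fun g g' o => (conj_smul_conj_smul g g' o).symm) conj_one_smul D ρ π x w w'
    (fun c => conj_smul_eq_of_mem (xD c)) (fun c t => fixp (fρ t) (xD' c))
    (fun c s t => by
      simp only [hπ]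
      rw [conj_smul_conj_smul (x c), add_comm, xadd, mul_assoc (x c)])
    eD W2 (fun t => by rw [← W2, conj_smul_conj_smul, f.w2, conj_one_smul])
    (fun s t ht => W3 t ht s) ρ0.symm
    (by rw [ρ0, hp₂, conj_smul_conj_smul, f.w2', conj_one_smul]) V2 V3 faith (ρ0 ▸ n12)
  have c1 : Nat.card (⊤ : Subgroup G) ≤ 21 * Nat.card (normalizer (D : Set G)) := by
    have : ∀ g : (⊤ : Subgroup G), ∃ o : Option (F ⊕ F × F), MulAut.conj (g : G) • D =
        o.elim D (Sum.elim ρ fun p => π p.1 p.2) := fun g => by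
      rcases all g with e | ⟨t, e⟩ | ⟨s, t, e⟩
      exacts [⟨none, e⟩, ⟨some (.inl t), e⟩, ⟨some (.inr (s, t)), e⟩]
    choose c hc using this
    have := card_le_of_fiber (K := normalizer (D : Set G)) c fun g g' e => by
      rw [← conj_smul_eq_iff_mem_normalizer, ← conj_smul_conj_smul, hc, ← e, ← hc,
        conj_inv_smul_conj_smul]
    simpa [hF] using this
  have c2 : Nat.card (normalizer (D : Set G)) ≤ 15 * 64 := by
    have := card_le_of_fiber (E := normalizer (D : Set G)) (K := R) (Y := {d : D // d ≠ 1})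
      (fun g => ⟨⟨g * a * (g : G)⁻¹, conj_mem g.2 (A.Z_le hG f.aZ)⟩, fun e =>
        f.a1 (conj_eq_one_iff.1 (congrArg Subtype.val e))⟩) fun g g' e => by
      replace e : (g : G) * a * (g : G)⁻¹ = g' * a * (g' : G)⁻¹ :=
        congrArg (fun d : {d : D // d ≠ 1} => (d.1 : G)) e
      refine mem_R hG hR f.aZ f.a1 ?_
      calc (g : G)⁻¹ * g' * a = (g : G)⁻¹ * (g' * a * (g' : G)⁻¹) * g' := by group
        _ = _ := by rw [← e]; group
    rw [inf_eq_right.2 A.s1.le, A.card_R, hq] at this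
    have h2 : Nat.card {d : D // d ≠ 1} < Nat.card D :=
      Finite.card_subtype_lt (p := fun d : D => d ≠ 1) (x := 1) (by simp)
    rw [A.card_D, hq] at h2
    omega
  obtain ⟨e⟩ := CL.Lin.quotCenter_equiv_of_hom (CL.Lin.SL_commutator_eq_top (by simp))
    (CL.Lin.PSL_simple (ι := Fin 3) (F := F) (by simp)) φ hφ (by
      have := card_PSL34 hF
      rw [card_top] at c1
      exact le_trans (by omega) this.ge)
  exact ⟨e.symm⟩

end AmalN

end CL.CIT
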