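import Cfsg.Agent.CIT.Small

/-!
# The projective plane of the amalgam

Points are the conjugates of `D`, lines are the conjugates of `D'`.
-/

set_option autoImplicit false

open Subgroup
open scoped Pointwise

namespace CL.CIT

open CL.Transfer CL.Invol

variable {G : Type*} [Group G]

/-- Incidence. -/
def Flag (D D' p l : Subgroup G) : Prop :=
  ∃ g : G, p = MulAut.conj g • D ∧ l = MulAut.conj g • D'

theorem Flag.symm {D D' p l : Subgroup G} (h : Flag D D' p l) : Flag D' D l p :=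
  h.imp fun _ h => h.symm

theorem Flag.smul {D D' p l : Subgroup G} (h : Flag D D' p l) (x : G) :
    Flag D D' (MulAut.conj x • p) (MulAut.conj x • l) := by
  obtain ⟨g, rfl, rfl⟩ := h
  exact ⟨x * g, conj_smul_conj_smul .., conj_smul_conj_smul ..⟩

theorem flag_base (D D' : Subgroup G) : Flag D D' D D' :=
  ⟨1, (conj_one_smul _).symm, (conj_one_smul _).symm⟩

theorem AmalN.conj {D D' R : Subgroup G} {q : ℕ} (A : AmalN D D' R q) (g : G) :
    AmalN (MulAut.conj g • D) (MulAut.conj g • D') (MulAut.conj g • R) q := by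
  have := A.smul g
  rwa [conj_smul_normalizer, conj_smul_normalizer] at this

theorem sylow_top_conj {R : Subgroup G} (hR : IsSylowIn 2 R ⊤) (g : G) :
    IsSylowIn 2 (MulAut.conj g • R) ⊤ := sylow_conj hR (mem_top g)

variable [Finite G]

namespace AmalN

variable {D D' R : Subgroup G} {q : ℕ} (A : AmalN D D' R q) (hG : IsCIT G)
  (hR : IsSylowIn 2 R ⊤)

include A in
theorem mem_normalizer_R {x : G} (h : x ∈ normalizer (D : Set G))
    (h' : x ∈ normalizer (D' : Set G)) : x ∈ normalizer (R : Set G) :=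
  mem_normalizer_of_conj fun r hr => by
    obtain ⟨a, ha, b, hb, rfl⟩ := A.dec r hr
    have := mul_mem (A.le (conj_mem h ha)) (A.le' (conj_mem h' hb))
    convert this using 1; group

include A in
theorem flag_le {p l : Subgroup G} (h : Flag D D' p l) : l ≤ normalizer (p : Set G) := by
  obtain ⟨g, rfl, rfl⟩ := h
  exact (A.conj g).le'.trans (A.conj g).s1.le

include A in
theorem flag_le' {p l : Subgroup G} (h : Flag D D' p l) : p ≤ normalizer (l : Set G) :=
  AmalN.flag_le A.symm h.symm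

omit [Finite G] in
include hG hR in
theorem mem_R {z c : G} (hz : z ∈ om R) (hz1 : z ≠ 1) (hc : c * z = z * c) : c ∈ R := by
  rw [← hR.eq_of_le (hG.isPGroup_centralizer (two_of_mul_self (om_sq hz)) hz1)
    (fun r hr => mem_centralizer_singleton_iff.2 (om_comm hz hr)) le_top]
  exact mem_centralizer_singleton_iff.2 hc

include A hG

theorem exists_om {t : G} (ht : t ∈ D) :
    ∃ l ∈ normalizer (D : Set G), t ∈ om (MulAut.conj l • R) := by
  obtain ⟨R', hR', h⟩ := A.f1.cover hG (A.mem_om ht)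
  obtain ⟨l, hl, rfl⟩ := A.s1.exists_conj hR'
  exact ⟨l, hl, h⟩

theorem exists_line {t : G} (ht : t ∈ normalizer (D : Set G)) (ht2 : t * t = 1) :
    ∃ l, Flag D D' D l ∧ t ∈ l := by
  by_cases htD : t ∈ D
  · obtain ⟨l, hl, h⟩ := A.exists_om hG htD
    exact ⟨_, ⟨l, (conj_smul_eq_iff_mem_normalizer.2 hl).symm, rfl⟩, (A.conj l).Z_le' hG h⟩
  obtain ⟨R', hR', h⟩ := Nice.exists_sylow_mem _ ht (two_of_mul_self ht2)
  obtain ⟨l, hl, rfl⟩ := A.s1.exists_conj hR'
  refine ⟨_, ⟨l, (conj_smul_eq_iff_mem_normalizer.2 hl).symm, rfl⟩,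
    ((A.conj l).invol hG h ht2).resolve_left ?_⟩
  rwa [conj_smul_eq_iff_mem_normalizer.2 hl]

include hR

theorem normR_le {x : G} (hx : x ∈ normalizer (R : Set G)) : x ∈ normalizer (D : Set G) := by
  by_cases h2 : Two x
  · exact A.s1.le (mem_sylow_of_normalizer hR h2 (mem_top x) hx)
  · refine hG.mem_of_mul_self_mem h2 ?_
    rw [← conj_smul_eq_iff_mem_normalizer, ← conj_smul_conj_smul]
    rcases A.norm_cases hG hx with h | h
    · rw [h.1, h.1]
    · rw [h.1, h.2]

theorem conj_ne (g : G) : MulAut.conj g • D ≠ D' := by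
  intro e
  have h1 := (A.conj g).s1
  rw [e] at h1
  obtain ⟨l, hl, h2⟩ := h1.exists_conj A.s2
  rw [conj_smul_conj_smul] at h2
  have h3 := conj_smul_eq_iff_mem_normalizer.2
    (A.normR_le hG hR (conj_smul_eq_iff_mem_normalizer.1 h2))
  rw [← conj_smul_conj_smul, e, conj_smul_eq_iff_mem_normalizer.2 hl] at h3
  exact A.ne h3.symm

theorem conj_ne' (g g' : G) : MulAut.conj g • D ≠ MulAut.conj g' • D' := fun e =>
  A.conj_ne hG hR (g'⁻¹ * g) (by rw [← conj_smul_conj_smul, e, conj_inv_smul_conj_smul])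

theorem eq_of_sylow {g g' : G} (h : MulAut.conj g • R = MulAut.conj g' • R) :
    MulAut.conj g • D = MulAut.conj g' • D := by
  have h1 : g'⁻¹ * g ∈ normalizer (R : Set G) := by
    rw [← conj_smul_eq_iff_mem_normalizer, ← conj_smul_conj_smul, h, conj_inv_smul_conj_smul]
  have h2 := conj_smul_eq_iff_mem_normalizer.2 (A.normR_le hG hR h1)
  rw [← conj_smul_conj_smul] at h2
  conv_rhs => rw [← h2, conj_smul_conj_inv_smul]

/-- Distinct points intersect trivially. -/
theorem point_eq {g g' t : G} (ht : t ∈ MulAut.conj g • D) (ht' : t ∈ MulAut.conj g' • D)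
    (h1 : t ≠ 1) : MulAut.conj g • D = MulAut.conj g' • D := by
  obtain ⟨l, hl, h⟩ := (A.conj g).exists_om hG ht
  have B := (A.conj g).conj l
  rw [conj_smul_eq_iff_mem_normalizer.2 hl] at B
  rcases B.eq_or_eq hG (E := MulAut.conj g' • D)
    (fun c hc => mem_R hG (sylow_top_conj (sylow_top_conj hR g) l) h h1
      ((A.conj g').comm hc ht')) (fun c hc => (A.conj g').sq hc) (A.conj g').card_D with e | e
  · exact e.symm
  · rw [conj_smul_conj_smul] at e
    exact absurd e (A.conj_ne' hG hR _ _)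

/-- An involution of a line fixes only points on the line. -/
theorem flag_of_mem {g g' t : G} (ht : t ∈ MulAut.conj g' • D') (h1 : t ≠ 1)
    (hn : t ∈ normalizer ((MulAut.conj g • D : Subgroup G) : Set G)) :
    Flag D D' (MulAut.conj g • D) (MulAut.conj g' • D') := by
  obtain ⟨_, ⟨x, hx, rfl⟩, h⟩ := (A.conj g).exists_line hG hn ((A.conj g').symm.sq ht)
  rw [conj_smul_conj_smul] at hx h
  exact ⟨x * g, hx, AmalN.point_eq A.symm hG hR ht h h1⟩

theorem line_unique {p p' l l' : Subgroup G} (h1 : Flag D D' p l) (h2 : Flag D D' p' l)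
    (h3 : Flag D D' p l') (h4 : Flag D D' p' l') (hne : p ≠ p') : l = l' := by
  obtain ⟨t, ht1, htp, htl⟩ : ∃ t, t ≠ 1 ∧ t ∈ p ∧ t ∈ l := by
    obtain ⟨g, rfl, rfl⟩ := h1
    obtain ⟨t, h1, ht⟩ := (A.conj g).f1.nice.exists_omR (A.conj g).s1
    exact ⟨t, h1, (A.conj g).Z_le hG ht, (A.conj g).Z_le' hG ht⟩
  have h5 := A.flag_le h2 htl
  have h6 := A.flag_le' h3 htp
  obtain ⟨g₀, rfl, -⟩ := h1
  obtain ⟨g, rfl, rfl⟩ := h2
  obtain ⟨g', e, rfl⟩ := h4
  have B := A.conj g'
  rw [← e] at B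
  have h7 : t ∈ MulAut.conj g' • R := mem_sylow_of_normalizer (sylow_top_conj hR g')
    (two_of_mul_self ((A.conj g₀).sq htp)) (mem_top t) (B.mem_normalizer_R h5 h6)
  exact AmalN.eq_of_sylow A.symm hG hR ((A.conj g).f1.nice.eq_of_mem (A.conj g).s1 B.s1
    ((A.conj g).le' htl) h7 fun h => hne (A.point_eq hG hR htp h ht1))

theorem exists_flag {t : G} (ht : t * t = 1) (h1 : t ≠ 1) :
    ∃ g : G, t ∈ MulAut.conj g • D ∧ t ∈ MulAut.conj g • D' := by
  obtain ⟨x, -, hx⟩ := hR.exists_conj_le (two_of_mul_self ht).isPGroup_zpowers le_top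
  obtain ⟨z, hz1, hz⟩ := A.f1.nice.exists_omR A.s1
  obtain ⟨y, hy⟩ := A.isConj hG (conj_smul_le_iff.1 hx t (mem_zpowers t)) (by
    calc _ = x * (t * t) * x⁻¹ := by group
      _ = 1 := by rw [ht]; group) (by rwa [Ne, conj_eq_one_iff]) hz hz1
  refine ⟨(y * x)⁻¹, ?_, ?_⟩ <;> rw [mem_conj_smul]
  · convert A.Z_le hG hz using 1; rw [← hy]; group
  · convert A.Z_le' hG hz using 1; rw [← hy]; group

/-- Lines through the base point fixed by a torus element. -/
theorem fixed_line {h w w' a : G}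
    (f : Frame (normalizer (D : Set G)) (normalizer (D' : Set G)) R h w w' a) {l : Subgroup G}
    (hl : Flag D D' D l) (hh : MulAut.conj h • l = l) : l = D' ∨ l = MulAut.conj w • D' := by
  obtain ⟨g, e, rfl⟩ := hl
  have B := A.conj g
  rw [← e] at B
  by_contra hc
  rw [not_or] at hc
  refine f.h2 (two_of_mem A.f1.nice.two (A.f1.three hG A.s1 (sylow_conj A.s1 f.wL) B.s1 f.wR.symm
    (fun e => hc.1 ?_) (fun e => hc.2 ?_) f.hL f.hn ?_
    (B.mem_normalizer_R f.hL (conj_smul_eq_iff_mem_normalizer.1 hh))))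
  · have := AmalN.eq_of_sylow A.symm hG hR (g' := 1) (e.symm.trans (conj_one_smul R).symm)
    rwa [conj_one_smul] at this
  · exact AmalN.eq_of_sylow A.symm hG hR e.symm
  · rw [← conj_smul_normalizer, mem_conj_smul]
    have : w⁻¹ * h * w = h⁻¹ := by
      rw [← f.wh, inv_eq_of_mul_eq_one_right f.w2]
    rw [this]
    exact inv_mem f.hn

/-- The stabiliser of two non-collinear points is small. -/
theorem card_fiber_le (hq : q = 4) {g : G}
    (hn : ∀ l, Flag D D' D l → ¬ Flag D D' (MulAut.conj g • D) l) :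
    {t : G | t * t = 1 ∧ MulAut.conj t • D = MulAut.conj g • D}.ncard ≤ 14 := by
  rcases Set.eq_empty_or_nonempty {t : G | t * t = 1 ∧ MulAut.conj t • D = MulAut.conj g • D} with
    h0 | ⟨t₀, ht₀, e₀⟩
  · rw [h0]; simp
  rw [← e₀] at hn ⊢
  have hne : MulAut.conj t₀ • D ≠ D := fun e => hn D' (flag_base _ _) (e.symm ▸ flag_base _ _)
  set K := normalizer (D : Set G) ⊓ normalizer ((MulAut.conj t₀ • D : Subgroup G) : Set G) with hK
  have h1 : ∀ k ∈ K, Two k → k = 1 := by
    intro k hk h2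
    by_contra h3
    obtain ⟨m, h4, h5⟩ := h2.exists_pow h3
    obtain ⟨x, -, hx⟩ := A.exists_flag hG hR h5 h4
    have h6 := A.flag_of_mem hG hR (g := 1) hx h4 (by rw [conj_one_smul]; exact (pow_mem hk m).1)
    rw [conj_one_smul] at h6
    exact hn _ h6 (A.flag_of_mem hG hR hx h4 (pow_mem hk m).2)
  have e₁ : MulAut.conj t₀ • MulAut.conj t₀ • D = D := by
    rw [conj_smul_conj_smul, ht₀, conj_one_smul]
  have h2 : ∀ k ∈ K, t₀ * k * t₀⁻¹ = k⁻¹ := by
    intro k hk
    have e2 := conj_smul_eq_iff_mem_normalizer.2 hk.1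
    have e3 := conj_smul_eq_iff_mem_normalizer.2 hk.2
    have h3 : t₀ * k * (t₀ * k) ∈ K := by
      refine ⟨conj_smul_eq_iff_mem_normalizer.1 ?_, conj_smul_eq_iff_mem_normalizer.1 ?_⟩ <;>
        rw [← conj_smul_conj_smul, ← conj_smul_conj_smul, ← conj_smul_conj_smul]
      · rw [e2, e3, e₁]
      · rw [e3, e₁, e2]
    have h4 : Two (t₀ * k) := by
      by_contra h4
      have := conj_smul_eq_iff_mem_normalizer.2 (hG.mem_of_mul_self_mem h4 h3.1)
      rw [← conj_smul_conj_smul, e2] at this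
      exact hne this
    have h5 := h1 _ h3 (by simpa [pow_two] using h4.pow 2)
    rw [inv_eq_of_mul_eq_one_right ht₀]
    exact eq_inv_of_mul_eq_one_left (by rw [← h5]; group)
  have h3 : ∀ a ∈ K, ∀ b ∈ K, a * b = b * a := by
    intro a ha b hb
    apply inv_injective
    rw [← h2 _ (mul_mem ha hb), mul_inv_rev, ← h2 a ha, ← h2 b hb]; group
  obtain ⟨z, hz1, hz⟩ := A.f1.nice.exists_omR A.s1
  have hzD := A.Z_le hG hz
  obtain ⟨y₀, hy₀, hy₀1, hy₀K⟩ : ∃ y ∈ D, y ≠ 1 ∧ ∀ k ∈ K, k * z * k⁻¹ ≠ y := by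
    by_contra hc
    push Not at hc
    obtain ⟨h, hh, hhn, hh2⟩ := Amal.exists_torus hG A hq
    have hz' := conj_mem_om hhn hz
    have hz'1 : h * z * h⁻¹ ≠ 1 := by rwa [Ne, conj_eq_one_iff]
    have key : ∀ S, IsSylowIn 2 S (normalizer (D : Set G)) → ∀ y ∈ om S, y ≠ 1 →
        ∃ k ∈ K, k * z * k⁻¹ = y ∧ MulAut.conj k • R = S := fun S hS y hy hy1 => by
      obtain ⟨k, hk, e⟩ := hc y (A.f1.nice.om_le_om hG hS hy).1 hy1
      exact ⟨k, hk, e, A.f1.nice.eq_of_om hG (sylow_conj A.s1 hk.1) hS hy1 (by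
        rw [← conj_smul_om, ← e]; exact conj_mem_conj_smul.2 hz) hy⟩
    obtain ⟨k, hk, e, ek⟩ := key R A.s1 _ hz' hz'1
    have key2 : ∀ S, IsSylowIn 2 S (normalizer (D : Set G)) → k ∈ normalizer (S : Set G) := by
      intro S hS
      obtain ⟨y, hy1, hy⟩ := A.f1.nice.exists_omR hS
      obtain ⟨k', hk', -, rfl⟩ := key S hS y hy hy1
      rw [← conj_smul_eq_iff_mem_normalizer, conj_smul_conj_smul, h3 k hk k' hk',
        ← conj_smul_conj_smul, ek]
    obtain ⟨R', hR', hne'⟩ := A.f1.nice.exists_ne R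
    obtain ⟨R'', hR'', h4, h5⟩ := A.f1.exists_third A.s1 hR' hne'.symm
    have h6 := A.f1.three hG A.s1 hR' hR'' hne'.symm h4 h5 hk.1 (key2 _ A.s1) (key2 _ hR')
      (key2 _ hR'')
    rw [om_conj (A.mem_om hzD) h6] at e
    exact hz1 (hG.eq_one_of_conj (two_of_mul_self (om_sq hz)) hh2 e.symm)
  have h4 : ((D : Set G) \ {1, y₀}).ncard = 14 := by
    rw [Set.ncard_sdiff (by
      rintro _ (rfl | rfl)
      exacts [D.one_mem, hy₀]), Set.ncard_pair hy₀1.symm, ← Nat.card_coe_set_eq]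
    have : Nat.card (D : Set G) = 16 := A.card_D.trans (by rw [hq]; rfl)
    rw [this]
  have h5 : ∀ t, t * t = 1 → MulAut.conj t • D = MulAut.conj t₀ • D → t₀ * t ∈ K := by
    intro t ht e
    refine ⟨conj_smul_eq_iff_mem_normalizer.1 ?_, conj_smul_eq_iff_mem_normalizer.1 ?_⟩ <;>
      rw [← conj_smul_conj_smul]
    · rw [e, e₁]
    · rw [← e, conj_smul_conj_smul t t, ht, conj_one_smul, e]
  rw [← h4]
  refine Set.ncard_le_ncard_of_injOn (fun t => (t₀ * t) * z * (t₀ * t)⁻¹) ?_ ?_ (Set.toFinite _)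
  · rintro t ⟨ht, e⟩
    refine ⟨conj_mem (h5 t ht e).1 hzD, ?_⟩
    rintro (h | h)
    · exact hz1 (conj_eq_one_iff.1 h)
    · exact hy₀K _ (h5 t ht e) h
  · rintro t ⟨ht, e⟩ t' ⟨ht', e'⟩ h
    simp only at h
    have h6 := h1 _ (mul_mem (inv_mem (h5 t' ht' e')) (h5 t ht e))
      (hG.two_of_commute (two_of_mul_self (om_sq hz)) hz1 (by
        calc z * ((t₀ * t')⁻¹ * (t₀ * t))
            = (t₀ * t')⁻¹ * (t₀ * t' * z * (t₀ * t')⁻¹) * (t₀ * t) := by group
          _ = _ := by rw [← h]; group))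
    exact (mul_left_cancel (inv_mul_eq_one.1 h6)).symm

/-- Any two points are collinear. -/
theorem collinear_base (hq : q = 4) (g : G) :
    ∃ l, Flag D D' D l ∧ Flag D D' (MulAut.conj g • D) l := by
  classical
  have := Fintype.ofFinite G
  have := Fintype.ofFinite (Subgroup G)
  set X : Finset (Subgroup G) := Finset.univ.filter fun p => (∃ x : G, p = MulAut.conj x • D) ∧
    ∀ l, Flag D D' D l → ¬ Flag D D' p l with hX
  have hmem : ∀ p, p ∈ X ↔ (∃ x : G, p = MulAut.conj x • D) ∧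
      ∀ l, Flag D D' D l → ¬ Flag D D' p l := fun p => by simp [hX]
  set I : Finset G := X.biUnion fun p => Finset.univ.filter fun t => t ∈ p ∧ t ≠ 1 with hI
  have h1 : I.card = 15 * X.card := by
    rw [hI, Finset.card_biUnion, Finset.sum_const_nat (m := 15), mul_comm]
    · intro p hp
      obtain ⟨⟨x, rfl⟩, -⟩ := (hmem p).1 hp
      have h2 : ((MulAut.conj x • D : Subgroup G) : Set G).ncard = 16 := by
        rw [← Nat.card_coe_set_eq]
        exact (A.conj x).card_D.trans (by rw [hq]; rfl)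
      have h3 := Set.ncard_sdiff_singleton_of_mem (s := ((MulAut.conj x • D : Subgroup G) : Set G))
        (a := 1) (one_mem _)
      rw [h2] at h3
      rw [show 15 = 16 - 1 from rfl, ← h3, ← Set.ncard_coe_finset]
      congr 1
      ext t
      simp only [Finset.coe_filter, Finset.mem_univ, true_and, Set.mem_ofPred_eq, Set.mem_sdiff,
        SetLike.mem_coe, Set.mem_singleton_iff]
    · intro p hp p' hp' hne
      obtain ⟨⟨x, rfl⟩, -⟩ := (hmem p).1 hp
      obtain ⟨⟨x', rfl⟩, -⟩ := (hmem p').1 hp'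
      rw [Function.onFun, Finset.disjoint_left]
      intro t ht ht'
      simp only [Finset.mem_filter, Finset.mem_univ, true_and] at ht ht'
      exact hne (A.point_eq hG hR ht.1 ht'.1 ht.2)
  have hI' : ∀ t ∈ I, ∃ x : G, t ∈ MulAut.conj x • D ∧ t ≠ 1 ∧
      ∀ l, Flag D D' D l → ¬ Flag D D' (MulAut.conj x • D) l := by
    intro t ht
    simp only [hI, Finset.mem_biUnion, Finset.mem_filter, Finset.mem_univ, true_and] at ht
    obtain ⟨p, hp, h2, h3⟩ := ht
    obtain ⟨⟨x, rfl⟩, h4⟩ := (hmem p).1 hp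
    exact ⟨x, h2, h3, h4⟩
  have h2 : I.card ≤ 14 * X.card := by
    refine Finset.card_le_mul_card_image_of_maps_to (f := fun t => MulAut.conj t • D) ?_ 14 ?_
    · intro t ht
      obtain ⟨x, h2, h3, h4⟩ := hI' t ht
      have ht2 := (A.conj x).sq h2
      refine (hmem _).2 ⟨⟨t, rfl⟩, fun l hl hl' => ?_⟩
      by_cases h5 : MulAut.conj t • D = D
      · obtain ⟨l', hl'', h6⟩ := (A.conj x).exists_om hG h2
        have B := (A.conj x).conj l'
        have h7 := B.Z_le' hG h6
        rw [conj_smul_conj_smul] at h7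
        have h8 := A.flag_of_mem hG hR (g := 1) h7 h3
          (by rw [conj_one_smul]; exact conj_smul_eq_iff_mem_normalizer.1 h5)
        rw [conj_one_smul] at h8
        exact h4 _ h8 (A.flag_of_mem hG hR h7 h3 (le_normalizer h2))
      · have h6 := hl'.smul t
        rw [conj_smul_conj_smul, ht2, conj_one_smul] at h6
        have h7 := A.line_unique hG hR h6 (hl.smul t) hl hl' (Ne.symm h5)
        obtain ⟨y, -, rfl⟩ := id hl
        exact h4 _ hl (AmalN.flag_of_mem A.symm hG hR h2 h3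
          (conj_smul_eq_iff_mem_normalizer.1 h7)).symm
    · intro p hp
      obtain ⟨⟨x, rfl⟩, h4⟩ := (hmem p).1 hp
      refine le_trans ?_ (A.card_fiber_le hG hR hq h4)
      rw [← Set.ncard_coe_finset]
      refine Set.ncard_le_ncard (fun t ht => ?_) (Set.toFinite _)
      simp only [Finset.coe_filter, Set.mem_ofPred_eq] at ht
      obtain ⟨y, h5, -⟩ := hI' t ht.1
      exact ⟨(A.conj y).sq h5, ht.2⟩
  have h3 : X = ∅ := Finset.card_eq_zero.1 (by omega)
  by_contra hc
  push Not at hc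
  have : MulAut.conj g • D ∈ X := (hmem _).2 ⟨⟨g, rfl⟩, hc⟩
  rw [h3] at this
  simp at this

theorem collinear (hq : q = 4) (g g' : G) :
    ∃ l, Flag D D' (MulAut.conj g • D) l ∧ Flag D D' (MulAut.conj g' • D) l := by
  obtain ⟨l, h1, h2⟩ := A.collinear_base hG hR hq (g⁻¹ * g')
  refine ⟨_, h1.smul g, ?_⟩
  have := h2.smul g
  rwa [conj_smul_conj_smul, mul_inv_cancel_left] at this

/-- The braid relation on points. -/
theorem frame_fix (hq : q = 4) {h w w' a : G}
    (f : Frame (normalizer (D : Set G)) (normalizer (D' : Set G)) R h w w' a) :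
    MulAut.conj w' • MulAut.conj w • MulAut.conj w' • D = MulAut.conj w • MulAut.conj w' • D := by
  have eD := conj_smul_eq_iff_mem_normalizer.2 f.wL
  have eD' := conj_smul_eq_iff_mem_normalizer.2 f.wL'
  have ww : ∀ X : Subgroup G, MulAut.conj w • MulAut.conj w • X = X := fun X => by
    rw [conj_smul_conj_smul, f.w2, conj_one_smul]
  have ww' : ∀ X : Subgroup G, MulAut.conj w' • MulAut.conj w' • X = X := fun X => by
    rw [conj_smul_conj_smul, f.w2', conj_one_smul]
  have hw : ∀ {w : G}, w * h * w⁻¹ = h⁻¹ → ∀ X : Subgroup G, MulAut.conj h • X = X →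
      MulAut.conj h • MulAut.conj w • X = MulAut.conj w • X := by
    intro w hw X hX
    have h1 : h * w = w * h⁻¹ := by
      have : w * h⁻¹ * w⁻¹ = h := by simpa [mul_assoc] using congrArg Inv.inv hw
      calc h * w = (w * h⁻¹ * w⁻¹) * w := by rw [this]
        _ = _ := by group
    rw [conj_smul_conj_smul, h1, ← conj_smul_conj_smul]
    congr 1
    conv_lhs => rw [← hX, conj_inv_smul_conj_smul]
  have hD := conj_smul_eq_iff_mem_normalizer.2 f.hL
  have f12 : Flag D D' (MulAut.conj w' • D) D' := by simpa only [eD'] using (flag_base D D').smul w'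
  have f13 : Flag D D' D (MulAut.conj w • D') := by simpa only [eD] using (flag_base D D').smul w
  have n12 : D ≠ MulAut.conj w' • D := fun e => f.wR' (conj_smul_eq_iff_mem_normalizer.2
    (A.mem_normalizer_R (conj_smul_eq_iff_mem_normalizer.1 e.symm) f.wL'))
  have n3 : ¬ Flag D D' (MulAut.conj w • MulAut.conj w' • D) D' := fun h3 =>
    f.wR (conj_smul_eq_iff_mem_normalizer.2 (A.mem_normalizer_R f.wL
      (conj_smul_eq_iff_mem_normalizer.1 (A.line_unique hG hR f13 (f12.smul w) (flag_base D D') h3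
        fun e => n12 (conj_smul_injective w (eD.trans e))))))
  have n23 : MulAut.conj w' • D ≠ MulAut.conj w • MulAut.conj w' • D := fun e => n3 (e ▸ f12)
  obtain ⟨l, h1, h2⟩ := A.collinear hG hR hq w' (w * w')
  rw [← conj_smul_conj_smul] at h2
  have p2 := hw f.wh' _ hD
  have p3 := hw f.wh _ p2
  have hl : MulAut.conj h • l = l := A.line_unique hG hR (p2 ▸ h1.smul h) (p3 ▸ h2.smul h) h1 h2 n23
  rcases A.fixed_line hG hR f (l := MulAut.conj w' • l) (by simpa only [ww'] using h1.smul w')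
    (hw f.wh' _ hl) with e | e
  · exact absurd ((conj_smul_injective w' (e.trans eD'.symm)) ▸ h2) n3
  have h3 := (h2.smul w').smul w
  rw [e, ww] at h3
  rcases AmalN.fixed_line A.symm hG hR f.symm h3.symm (hw f.wh _ (hw f.wh' _ p3)) with e' | e'
  · exact absurd (by rw [← ww' (MulAut.conj w • _), conj_smul_injective w (e'.trans eD.symm)]) n23
  · rw [← ww (MulAut.conj w' • MulAut.conj w • _), e']

end AmalN

end CL.CIT
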