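import Cfsg.Agent.CIT.Frame
import Cfsg.Agent.Transfer.Fusion
import Cfsg.Agent.TwoFus.NoNormalFour
import Cfsg.Agent.Invol.Quat
import Cfsg.Agent.Invol.Index2
import Cfsg.Agent.S1213

/-!
# The amalgam in a CIT-group without subgroup of index `2`

For `q = 4` the common Sylow subgroup `R` is a Sylow subgroup of `G`; for `q = 2` the Sylow
`2`-subgroups of `G` are dihedral.
-/

set_option autoImplicit false

open Subgroup
open scoped Pointwise

namespace CL.CIT

open CL.Transfer CL.Invol

variable {G : Type*} [Group G] [Finite G]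

/-- The amalgam of two full normalisers. -/
abbrev AmalN (D D' R : Subgroup G) (q : ℕ) : Prop :=
  Amal (normalizer (D : Set G)) D (normalizer (D' : Set G)) D' R q

namespace AmalN

variable {D D' R : Subgroup G} {q : ℕ} (A : AmalN D D' R q) (hG : IsCIT G)
include A hG

theorem card_cases : q = 2 ∨ q = 4 :=
  Amal.card_cases hG A fun _ h1 h2 => A.mem_normalizer' hG h2 h1

theorem mem_of_cent {c : G} (hc : ∀ a ∈ D, c * a = a * c) : c ∈ D :=
  A.f1.nice.mem_of_cent_om hG (mem_normalizer_of_conj fun x hx => by rw [hc x hx]; simpa using hx)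
    fun a ha => hc a ha.1

theorem om_le {S : Subgroup G} (hRS : R ≤ S) : om S ≤ om R := fun _ hz =>
  A.mem_Z' (A.mem_of_cent hG fun _ ha => (om_comm hz (hRS (A.le ha))).symm)
    (AmalN.mem_of_cent A.symm hG fun _ ha => (om_comm hz (hRS (A.le' ha))).symm)

omit hG in
theorem mem_of_norm {x : G} (hx : Two x) (hn : x ∈ normalizer (R : Set G))
    (hD : MulAut.conj x • D = D) : x ∈ R :=
  mem_sylow_of_normalizer A.s1 hx (conj_smul_eq_iff_mem_normalizer.1 hD) hn

theorem swap {x : G} (hx : Two x) (hn : x ∈ normalizer (R : Set G)) (hR : x ∉ R) :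
    MulAut.conj x • D = D' ∧ MulAut.conj x • D' = D :=
  (A.norm_cases hG hn).resolve_left fun h => hR (A.mem_of_norm hx hn h.1)

theorem sylow_four (hq : q = 4) (hidx : ∀ M : Subgroup G, M.index ≠ 2) : IsSylowIn 2 R ⊤ := by
  obtain ⟨S, hS, hRS⟩ := exists_isSylowIn_ge A.s1.isPGroup le_top
  rcases hRS.eq_or_lt with rfl | hlt
  · exact hS
  exfalso
  have two : ∀ {x : G}, x ∈ S → Two x := fun hx => two_of_mem hS.isPGroup hx
  have mul : ∀ x ∈ S, x ∈ normalizer (R : Set G) → x ∉ R → ∀ y ∈ S,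
      y ∈ normalizer (R : Set G) → y ∉ R → x * y ∈ R := fun x hx hxn hxR y hy hyn hyR =>
    A.mem_of_norm (two (mul_mem hx hy)) (mul_mem hxn hyn) (by
      rw [← conj_smul_conj_smul, (A.swap hG (two hy) hyn hyR).1, (A.swap hG (two hx) hxn hxR).2])
  obtain ⟨x, ⟨hxS, hxn⟩, hxR⟩ := SetLike.exists_of_lt (lt_inf_normalizer hS.isPGroup hlt)
  obtain ⟨h, hh, hhn, hh2⟩ := Amal.exists_torus hG A hq
  -- an involution `s` outside `R` inverting `h`
  obtain ⟨s, hsS, hsn, hsR, hs2, hsh⟩ : ∃ s ∈ S, s ∈ normalizer (R : Set G) ∧ s ∉ R ∧ s * s = 1 ∧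
      s * h * s⁻¹ = h⁻¹ := by
    have e1 := A.swap hG (two hxS) hxn hxR
    have e2 := conj_smul_eq_iff_mem_normalizer.2 hh
    have e3 := conj_smul_eq_iff_mem_normalizer.2 (A.mem_normalizer' hG hhn hh)
    have e4 : MulAut.conj (x * h * (x * h)) • D = D := by
      rw [← conj_smul_conj_smul, ← conj_smul_conj_smul, ← conj_smul_conj_smul, e2, e1.1, e3, e1.2]
    have h1 : Two (x * h) := by
      by_contra h1
      have := conj_smul_eq_iff_mem_normalizer.2
        (hG.mem_of_mul_self_mem h1 (conj_smul_eq_iff_mem_normalizer.1 e4))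
      rw [← conj_smul_conj_smul, e2, e1.1] at this
      exact A.ne this.symm
    have h2 := A.mem_of_norm (by simpa [pow_two] using h1.pow 2)
      (mul_mem (mul_mem hxn hhn) (mul_mem hxn hhn)) e4
    have h3 := mul x hxS hxn hxR x hxS hxn hxR
    obtain ⟨d, hd, h4, h5⟩ := hG.exists_invol A.s1.isPGroup hhn hh2 hxn h3 (by
      have := mul_mem (conj_mem' hxn h2) (inv_mem h3)
      convert this using 1; group)
    exact ⟨d * x, mul_mem (hRS hd) hxS, mul_mem (le_normalizer hd) hxn,
      fun h => hxR (by simpa using R.mul_mem (R.inv_mem hd) h), h4, h5⟩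
  have hsi : s⁻¹ = s := inv_eq_of_mul_eq_one_right hs2
  obtain ⟨z, hz1, hzS⟩ := exists_om hS.isPGroup (ne_bot_of_gt hlt)
  have hz := A.om_le hG hRS hzS
  obtain ⟨y, hy, hys⟩ : ∃ y ∈ om R, s * y * s⁻¹ ≠ y := by
    by_contra hc
    push Not at hc
    refine hh2 (hG.two_of_commute (two_of_mul_self (om_sq hz)) hz1 (k := h * h) ?_).of_mul_self
    have h1 := hc _ (conj_mem_om hhn hz)
    have h2 : h * z * h⁻¹ = h⁻¹ * z * h := by
      calc h * z * h⁻¹ = (s * h * s⁻¹) * (s * z * s⁻¹) * (s * h * s⁻¹)⁻¹ := by rw [← h1]; group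
        _ = _ := by rw [hsh, hc z hz, inv_inv]
    calc z * (h * h) = h * (h⁻¹ * z * h) * h := by group
      _ = _ := by rw [← h2]; group
  have hy1 : y ≠ 1 := fun e => hys (by simp [e])
  have hyz : y ≠ z := fun e => hys (by rw [e, om_conj hzS hsS])
  have four := fun c hc => mem_four (A.card_Z.trans hq) hz hy hz1 hy1 hyz (om_sq hz) (c := c) hc
  have hsy : s * y * s⁻¹ = z * y := by
    rcases four _ (conj_mem_om hsn hy) with e | e | e | e
    · exact absurd (by simpa using e) hy1
    · exact absurd (by rw [← om_conj hzS hsS] at e; simpa using e) hyz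
    · exact absurd e hys
    · exact e
  have fix : ∀ t ∈ S, t ∈ normalizer (R : Set G) → t ∉ R → ∀ e ∈ R, e * e = 1 →
      t * e * t⁻¹ = e → e = 1 ∨ e = z := by
    intro t ht htn htR e he he2 hte
    have e1 := A.swap hG (two ht) htn htR
    have heZ : e ∈ om R := by
      rcases A.invol hG he he2 with h1 | h1
      · exact A.mem_Z' h1 (by rw [← e1.1, ← hte]; exact conj_mem_conj_smul.2 h1)
      · exact A.mem_Z' (by rw [← e1.2, ← hte]; exact conj_mem_conj_smul.2 h1) h1
    have hse : s * e * s⁻¹ = e := by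
      have := om_conj heZ (mul s hsS hsn hsR t ht htn htR)
      calc s * e * s⁻¹ = s * (t * e * t⁻¹) * s⁻¹ := by rw [hte]
        _ = s * t * e * (s * t)⁻¹ := by group
        _ = e := this
    rcases four e heZ with e2 | e2 | e2 | e2
    · exact Or.inl e2
    · exact Or.inr e2
    · exact absurd (e2 ▸ hse) hys
    · refine absurd ?_ hys
      apply mul_left_cancel (a := z)
      rw [← e2, ← hse, e2]
      conv_lhs => rw [← om_conj hzS hsS]
      group
  have small : ∀ E : Subgroup G, (∀ e ∈ E, e ∈ R → e = 1 ∨ e = z) →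
      Nat.card (E ⊓ R : Subgroup G) ≤ 2 := fun E hE => by
    have : ((E ⊓ R : Subgroup G) : Set G) ⊆ {1, z} := fun e he => hE e he.1 he.2
    have h1 := (Set.ncard_le_ncard this (Set.toFinite _)).trans (Set.ncard_insert_le _ _)
    rw [← Nat.card_coe_set_eq, Set.ncard_singleton] at h1
    exact h1
  have big : ∀ g : G, ∀ {L L' D D' : Subgroup G}, Amal L D L' D' R q →
      MulAut.conj g • D ≤ S ⊓ normalizer (R : Set G) → MulAut.conj g • D ≤ R := by
    intro g L L' D D' A hle
    by_contra hc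
    obtain ⟨e, he, heR⟩ := SetLike.not_le_iff_exists.1 hc
    have h1 := small (MulAut.conj g • D) fun c hc hcR =>
      fix e (hle he).1 (hle he).2 heR c hcR ((A.smul g).sq hc) (by
        rw [(A.smul g).comm he hc]; simp)
    have h2 := card_le_of_fiber (E := MulAut.conj g • D) (K := R) (fun a => (a : G) ∈ R) (by
      intro a b hab
      by_cases ha : (a : G) ∈ R
      · exact mul_mem (inv_mem ha) (hab ▸ ha)
      · exact mul _ (inv_mem (hle a.2).1) (inv_mem (hle a.2).2) (by simpa using ha) _ (hle b.2).1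
          (hle b.2).2 (hab ▸ ha))
    rw [(A.smul g).card_D, hq, Nat.card_eq_fintype_card (α := Prop), Fintype.card_prop] at h2
    omega
  have hSn : S ≤ normalizer (R : Set G) := by
    by_contra hc
    obtain ⟨t, ⟨htS, htn⟩, ht⟩ := SetLike.exists_of_lt (lt_inf_normalizer hS.isPGroup
      (lt_of_le_of_ne (inf_le_left (b := normalizer (R : Set G))) fun e => hc (inf_eq_left.1 e)))
    have hT : R ≤ S ⊓ normalizer (R : Set G) := le_inf hRS le_normalizer
    have h1 := big t A (conj_smul_le_iff.2 fun a ha => conj_mem htn (hT (A.le ha)))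
    have h2 := big t A.symm (conj_smul_le_iff.2 fun a ha => conj_mem htn (hT (A.le' ha)))
    refine ht ⟨htS, mem_normalizer_of_conj fun r hr => ?_⟩
    obtain ⟨a, ha, b, hb, rfl⟩ := A.dec r hr
    have := mul_mem (h1 (conj_mem_conj_smul.2 ha)) (h2 (conj_mem_conj_smul.2 hb))
    convert this using 1; group
  obtain ⟨P, rfl⟩ := hS.exists_sylow_of_top
  obtain ⟨g, hg⟩ : ∃ g : G, g * s * g⁻¹ = z := by
    by_contra hc
    push Not at hc
    obtain ⟨M, -, hM, -⟩ := thompson_transfer P hRS (relIndex_eq_two_iff.2 ⟨s, hsS, fun b hb => by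
      by_cases hbR : b ∈ R
      · exact Or.inr ⟨hbR, fun h => hsR (by simpa using R.mul_mem (R.inv_mem hbR) h)⟩
      · exact Or.inl ⟨mul b hb (hSn hb) hbR s hsS hsn hsR, hbR⟩⟩) (u := s)
      (by rw [pow_two, hs2]) (fun g hg => by
        obtain ⟨g', hg'⟩ := A.isConj hG hg (by
          calc _ = g * (s * s) * g⁻¹ := by group
            _ = 1 := by rw [hs2]; group)
          (fun e => hsR (by rw [conj_eq_one_iff] at e; rw [e]; exact R.one_mem)) hz hz1
        exact hc (g' * g) (by rw [← hg']; group))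
    exact hidx M hM
  have hC : ∀ c : G, c * z = z * c → c ∈ (P : Subgroup G) := fun c hc => by
    rw [← hS.eq_of_le (hG.isPGroup_centralizer (two_of_mul_self (om_sq hz)) hz1)
      (fun r hr => mem_centralizer_singleton_iff.2 (om_comm hzS hr)) le_top]
    exact mem_centralizer_singleton_iff.2 hc
  obtain ⟨d, hd, hdD⟩ := A.exists_notMem
  have e1 := A.swap hG (two hsS) hsn hsR
  have hd' : s * d * s⁻¹ ∈ D' := e1.1 ▸ conj_mem_conj_smul.2 hd
  have hd'D : s * d * s⁻¹ ∉ D := fun h => hdD (by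
    rw [← e1.2, conj_mem_conj_smul] at h; exact h)
  set u := d * (s * d * s⁻¹) with hu
  have huR : u ∈ R := mul_mem (A.le hd) (A.le' hd')
  have hsu : s * u * s⁻¹ = u⁻¹ := by
    rw [hu, mul_inv_rev, A.inv hd, A.symm.inv hd']
    calc _ = s * d * s⁻¹ * ((s * s) * d * (s * s)⁻¹) := by group
      _ = _ := by rw [hs2]; group
  have hu2 : u * u = z := by
    refine (fix s hsS hsn hsR _ (mul_mem huR huR) (om_sq (A.sq_mem huR)) ?_).resolve_left ?_
    · calc s * (u * u) * s⁻¹ = (s * u * s⁻¹) * (s * u * s⁻¹) := by group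
        _ = (u * u)⁻¹ := by rw [hsu]; group
        _ = _ := om_inv (A.sq_mem huR)
    · intro e
      rcases A.invol hG huR e with h1 | h1
      · exact hd'D (by simpa [hu] using D.mul_mem (D.inv_mem hd) h1)
      · exact hdD (by simpa only [hu, mul_inv_cancel_right] using D'.mul_mem h1 (D'.inv_mem hd'))
  have hw : s * (u * y) = (u * y) * s := by
    calc s * (u * y) = (s * u * s⁻¹) * (s * y * s⁻¹) * s := by group
      _ = _ := by rw [hsu, hsy, ← hu2]; group
  have hw2 : (u * y) * (u * y) = z := by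
    calc (u * y) * (u * y) = u * (y * u) * y := by group
      _ = (u * u) * (y * y) := by rw [← om_comm hy huR]; group
      _ = z := by rw [hu2, om_sq hy, mul_one]
  have hwS : g * (u * y) * g⁻¹ ∈ (P : Subgroup G) := hC _ (by
    calc g * (u * y) * g⁻¹ * z = g * ((u * y) * s) * g⁻¹ := by rw [← hg]; group
      _ = _ := by rw [← hw, ← hg]; group)
  have hz' : g * z * g⁻¹ = (g * (u * y) * g⁻¹) * (g * (u * y) * g⁻¹) := by rw [← hw2]; group
  have hz'Z : g * z * g⁻¹ ∈ om R := by
    by_cases h1 : g * (u * y) * g⁻¹ ∈ R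
    · exact hz' ▸ A.sq_mem h1
    · rcases fix _ hwS (hSn hwS) h1 (g * z * g⁻¹) (hz' ▸ mul _ hwS (hSn hwS) h1 _ hwS (hSn hwS) h1)
        (by calc _ = g * (z * z) * g⁻¹ := by group
              _ = 1 := by rw [om_sq hz]; group) (by rw [hz']; group) with e | e
      · rw [e]; exact one_mem _
      · rw [e]; exact hz
  have h1 : MulAut.conj g⁻¹ • D ≤ (P : Subgroup G) := conj_smul_le_iff.2 fun a ha => hC _ (by
    calc g⁻¹ * a * g⁻¹⁻¹ * z = g⁻¹ * (a * (g * z * g⁻¹)) * g := by group
      _ = _ := by rw [om_comm hz'Z (A.le ha)]; group)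
  have h2 := big g⁻¹ A (le_inf h1 (h1.trans hSn))
  have h3 := small (MulAut.conj g⁻¹ • D) fun e he heR =>
    fix s hsS hsn hsR e heR ((A.smul g⁻¹).sq he) (by
      rw [mem_conj_smul] at he
      have := om_conj hz (A.le he)
      calc s * e * s⁻¹ = g⁻¹ * (g * s * g⁻¹) * g * e * s⁻¹ := by group
        _ = g⁻¹ * (g⁻¹⁻¹ * e * g⁻¹ * z * (g⁻¹⁻¹ * e * g⁻¹)⁻¹) * g * e * s⁻¹ := by rw [hg, this]
        _ = e := by rw [← hg]; group)
  rw [inf_eq_left.2 h2, (A.smul g⁻¹).card_D, hq] at h3
  omega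

theorem dihedral_two (hq : q = 2) (hidx : ∀ M : Subgroup G, M.index ≠ 2) :
    ∃ (P : Sylow 2 G) (n : ℕ), 2 ≤ n ∧ Nonempty ((P : Subgroup G) ≃* DihedralGroup n) := by
  obtain ⟨S, hS, hRS⟩ := exists_isSylowIn_ge A.s1.isPGroup le_top
  obtain ⟨P, rfl⟩ := hS.exists_sylow_of_top
  obtain ⟨z, hz1, hzS⟩ := exists_om hS.isPGroup
    (fun h => A.f1.nice.ne_bot (le_bot_iff.1 (h ▸ A.le.trans hRS)))
  have hz := A.om_le hG hRS hzS
  have two := fun c hc => mem_two (A.card_Z.trans hq) hz hz1 (c := c) hc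
  obtain ⟨a, ha, haD⟩ := A.exists_notMem
  obtain ⟨b, hb, hbD⟩ := A.symm.exists_notMem
  have ha1 : a ≠ 1 := fun e => haD (e ▸ one_mem _)
  have hb1 : b ≠ 1 := fun e => hbD (e ▸ one_mem _)
  have haz : a ≠ z := fun e => haD (e ▸ A.Z_le' hG hz)
  have hbz : b ≠ z := fun e => hbD (e ▸ A.Z_le hG hz)
  have fa := fun c hc => mem_four (H := D) (by rw [A.card_D, hq]; rfl) (A.Z_le hG hz) ha hz1 ha1 haz
    (om_sq hz) (c := c) hc
  have fb := fun c hc => mem_four (H := D') (by rw [A.symm.card_D, hq]; rfl) (A.Z_le' hG hz) hb hz1 hb1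
    hbz (om_sq hz) (c := c) hc
  rcases hRS.eq_or_lt with rfl | hlt
  · have h1 := orderOf_two_of_mul_self ha1 (A.sq ha)
    have h2 := orderOf_two_of_mul_self hb1 (A.symm.sq hb)
    obtain ⟨e⟩ := nonempty_equiv_dihedral h1 h2
    have hab : a * b ∈ (P : Subgroup G) := mul_mem (A.le ha) (A.le' hb)
    have h3 : a * b * (a * b) = z := (two _ (A.sq_mem hab)).resolve_left fun e => by
      rcases A.invol hG hab e with h1 | h1
      · exact hbD (by simpa using D.mul_mem (D.inv_mem ha) h1)
      · exact haD (by simpa using D'.mul_mem h1 (D'.inv_mem hb))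
    have h4 : closure {a, b} = (P : Subgroup G) := by
      refine le_antisymm ((closure_le _).2 ?_) fun r hr => ?_
      · rintro _ (rfl | rfl)
        exacts [A.le ha, A.le' hb]
      · have hz' : z ∈ closure {a, b} :=
          h3 ▸ mul_mem (mul_mem_closure_pair a b) (mul_mem_closure_pair a b)
        obtain ⟨c, hc, d, hd, rfl⟩ := A.dec r hr
        refine mul_mem ?_ ?_
        · rcases fa c hc with rfl | rfl | rfl | rfl
          exacts [one_mem _, hz', left_mem_closure_pair _ _,
            mul_mem hz' (left_mem_closure_pair _ _)]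
        · rcases fb d hd with rfl | rfl | rfl | rfl
          exacts [one_mem _, hz', right_mem_closure_pair _ _,
            mul_mem hz' (right_mem_closure_pair _ _)]
    refine ⟨P, orderOf (a * b), ?_, ⟨(MulEquiv.subgroupCongr h4.symm).trans e⟩⟩
    have h5 : orderOf (a * b) ≠ 1 := fun e => hz1 (by rw [← h3, orderOf_eq_one_iff.1 e, mul_one])
    have := orderOf_pos (a * b)
    omega
  have hnot : ∀ {L : Subgroup G}, IsSylowIn 2 R L → ¬ (P : Subgroup G) ≤ L := fun hL h =>
    hlt.ne' (hL.eq_of_le hS.isPGroup hRS h)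
  have haP : a ∈ (P : Subgroup G) := hRS (A.le ha)
  have hne : (⟨a, haP⟩ : (P : Subgroup G)) ≠ ⟨z, hzS.1⟩ := fun e => haz (congrArg Subtype.val e)
  have o1 : orderOf (⟨a, haP⟩ : (P : Subgroup G)) = 2 := by
    rw [← orderOf_coe]; exact orderOf_two_of_mul_self ha1 (A.sq ha)
  have o2 : orderOf (⟨z, hzS.1⟩ : (P : Subgroup G)) = 2 := by
    rw [← orderOf_coe]; exact orderOf_two_of_mul_self hz1 (om_sq hz)
  refine (CL.Rank2.classify_no_normal_four hS.isPGroup (fun V hV hK => ?_)).elim (fun h => ?_)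
    (fun h => ?_)
  rotate_left
  rotate_left
  rcases h with ⟨m, -, ⟨e⟩⟩ | ⟨m, hm, e⟩ | h
  rotate_right
  · exact absurd (involution_unique_of_isCyclic o1 o2) hne
  · exact absurd ((existsUnique_involution_of_equiv_quat e).unique o1 o2) hne
  · refine ⟨P, 2 ^ m, ?_, e⟩
    calc 2 = 2 ^ 1 := rfl
      _ ≤ 2 ^ m := Nat.pow_le_pow_right (by norm_num) (by omega)
  · exfalso
    have hzo := orderOf_two_of_mul_self hz1 (om_sq hz)
    obtain ⟨-, -, ⟨K, -, -, hK, hK'⟩, -⟩ := Cfsg.Agent.S1213.result P (Or.inl h) hidx z hzo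
    have hK2 : IsPGroup 2 K := (hG z hzo).to_subgroup K
    obtain ⟨Q⟩ : Nonempty (Sylow 2 K) := inferInstance
    obtain ⟨m, -, ⟨e⟩⟩ := hK' Q
    obtain ⟨x, hx, -⟩ := existsUnique_involution_of_equiv_quat e
    obtain ⟨M, -, -, hM⟩ := CL.PGrp.exists_normal_index_prime hK2 (K := ⊥) (fun h => by
      have : (x : K) ∈ (⊥ : Subgroup K) := h ▸ mem_top _
      exact ne_one_of_orderOf_two hx (Subtype.ext this))
    exact hK M hM
  · set E := V.map (P : Subgroup G).subtype with hE
    have hEc : Nat.card E = 4 := by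
      rw [hE, card_map_of_injective (subtype_injective _), hK.card_four]
    have hE2 : ∀ e ∈ E, e * e = 1 := by
      rintro _ ⟨v, hv, rfl⟩
      simpa using congrArg (fun x : V => ((x : (P : Subgroup G)) : G)) (IsKleinFour.mul_self ⟨v, hv⟩)
    have hEP : E ≤ P := map_subtype_le V
    have hEn : (P : Subgroup G) ≤ normalizer (E : Set G) := fun g hg =>
      mem_normalizer_of_conj (by
        rintro _ ⟨v, hv, rfl⟩
        exact ⟨_, hV.conj_mem v hv ⟨g, hg⟩, rfl⟩)
    obtain ⟨z', hz'E, hz'1, hz'⟩ := exists_om_of_normal hS.isPGroup hEP hEn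
      (fun h => by simp [h] at hEc)
    obtain rfl := (two _ (A.om_le hG hRS hz')).resolve_left hz'1
    have hER : E ≤ R := by
      intro e he
      by_cases h1 : e = 1 ∨ e = z'
      · rcases h1 with rfl | rfl
        exacts [one_mem _, hz.1]
      rw [not_or] at h1
      have h2 : e * a * e⁻¹ ∈ D := by
        rcases mem_four hEc hz'E he hz1 h1.1 h1.2 (om_sq hz)
          (conj_mem (hEn haP) he) with e2 | e2 | e2 | e2
        · exact absurd (by simpa using e2) h1.1
        · exact absurd (by rw [← om_conj hz' haP] at e2; simpa using e2) h1.2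
        · have : e * a * e⁻¹ = a := by
            calc e * a * e⁻¹ = (a * e * a⁻¹) * a * e⁻¹ := by rw [e2]
              _ = a := by group
          rw [this]; exact ha
        · have : e * a * e⁻¹ = z' * a := by
            calc e * a * e⁻¹ = z'⁻¹ * (z' * e) * a * e⁻¹ := by group
              _ = z' * a := by rw [← e2, om_inv hz]; group
          rw [this]; exact mul_mem (A.Z_le hG hz) ha
      have h3 : e ∈ normalizer (D : Set G) := mem_normalizer_of_conj fun c hc => by
        have h4 := om_conj hz' (hEP he)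
        rcases fa c hc with rfl | rfl | rfl | rfl
        · simp
        · rw [h4]; exact hc
        · exact h2
        · have := mul_mem (A.Z_le hG hz) h2
          rw [← h4] at this
          convert this using 1; group
      rw [← A.s1.eq_of_le (hS.isPGroup.to_inf_left (K := normalizer (D : Set G)))
        (le_inf hRS A.s1.le) inf_le_right]
      exact ⟨hEP he, h3⟩
    rcases A.eq_or_eq hG hER hE2 (by rw [hEc, hq]; rfl) with h | h
    · exact hnot A.s1 (h ▸ hEn)
    · exact hnot A.s2 (h ▸ hEn)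

end AmalN

end CL.CIT
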