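import Cfsg.Agent.CIT.Amalgam

/-!
# Consequences of the amalgam structure; no common normal subgroup
-/

set_option autoImplicit false

open Subgroup
open scoped Pointwise

namespace CL.CIT

open CL.Transfer CL.Invol

variable {G : Type*} [Group G]

namespace Amal

variable {L D L' D' R : Subgroup G} {q : ℕ} (h : Amal L D L' D' R q)
include h

theorem symm : Amal L' D' L D R q := by
  refine ⟨h.f2, h.f1, h.s2, h.s1, h.e2, h.e1, fun r hr => ?_⟩
  obtain ⟨a, ha, b, hb, h1⟩ := h.dec _ (inv_mem hr)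
  exact ⟨_, inv_mem hb, _, inv_mem ha, by rw [← mul_inv_rev, ← h1, inv_inv]⟩

theorem smul (g : G) : Amal (MulAut.conj g • L) (MulAut.conj g • D) (MulAut.conj g • L')
    (MulAut.conj g • D') (MulAut.conj g • R) q := by
  refine ⟨h.f1.smul g, h.f2.smul g, h.s1.smul g, h.s2.smul g, by rw [← conj_smul_om, h.e1],
    by rw [← conj_smul_om, h.e2], fun r hr => ?_⟩
  obtain ⟨a, ha, b, hb, h1⟩ := h.dec _ (mem_conj_smul.1 hr)
  refine ⟨_, conj_mem_conj_smul.2 ha, _, conj_mem_conj_smul.2 hb, ?_⟩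
  calc r = g * (g⁻¹ * r * g) * g⁻¹ := by group
    _ = _ := by rw [h1]; group

theorem mem_om {a : G} (ha : a ∈ D) : a ∈ om D := h.e1.symm ▸ ha

theorem sq {a : G} (ha : a ∈ D) : a * a = 1 := om_sq (h.mem_om ha)

theorem inv {a : G} (ha : a ∈ D) : a⁻¹ = a := om_inv (h.mem_om ha)

theorem comm {a b : G} (ha : a ∈ D) (hb : b ∈ D) : a * b = b * a := om_comm (h.mem_om hb) ha

theorem card_D : Nat.card D = q ^ 2 := by rw [← h.f1.cardA, h.e1]

theorem card_Z : Nat.card (om R) = q := h.f1.cardZ R h.s1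

theorem card_R : Nat.card R = q ^ 3 := by rw [h.f1.cardR R h.s1, h.card_D]; ring

theorem mem_Z {a : G} (haR : a ∈ R) (ha : a ∈ D) (ha' : a ∈ D') : a ∈ om R := by
  refine ⟨haR, h.sq ha, fun r hr => ?_⟩
  obtain ⟨x, hx, y, hy, rfl⟩ := h.dec r hr
  rw [mul_assoc, h.symm.comm hy ha', ← mul_assoc, h.comm hx ha, mul_assoc]

variable [Finite G]

theorem le : D ≤ R := h.f1.nice.le_sylow h.s1

theorem le' : D' ≤ R := h.f2.nice.le_sylow h.s2

theorem mem_Z' {a : G} (ha : a ∈ D) (ha' : a ∈ D') : a ∈ om R := h.mem_Z (h.le ha) ha ha'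

theorem not_le : ¬ D ≤ D' := fun hle => h.f2.nice.not_le h.s2 fun r hr => by
  obtain ⟨x, hx, y, hy, rfl⟩ := h.dec r hr
  exact mul_mem (hle hx) hy

theorem ne : D ≠ D' := fun e => h.not_le e.le

theorem sq_mem {r : G} (hr : r ∈ R) : r * r ∈ om R :=
  h.mem_Z' (h.f1.sq_mem h.s1 hr) (h.f2.sq_mem h.s2 hr)

theorem exists_notMem : ∃ a ∈ D, a ∉ D' := SetLike.not_le_iff_exists.1 h.not_le

variable (hG : IsCIT G)
include hG

theorem Z_le : om R ≤ D := (h.f1.nice.om_le_om hG h.s1).trans (om_le D)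

theorem Z_le' : om R ≤ D' := h.symm.Z_le hG

theorem cent {s a : G} (hs : s ∈ R) (hsD : s ∉ D) (ha : a ∈ D) (hc : s * a = a * s) : a ∈ om R :=
  h.f1.cent hG h.s1 hs hsD (h.mem_om ha) hc

theorem comm_mem {s a : G} (hs : s ∈ R) (ha : a ∈ D) : s * a * s⁻¹ * a⁻¹ ∈ om R :=
  h.f1.comm hG h.s1 hs (h.mem_om ha)

theorem invol {r : G} (hr : r ∈ R) (h2 : r * r = 1) : r ∈ D ∨ r ∈ D' := by
  obtain ⟨x, hx, y, hy, rfl⟩ := h.dec r hr
  by_cases hyD : y ∈ D
  · exact Or.inl (mul_mem hx hyD)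
  · refine Or.inr (mul_mem (h.Z_le' hG (h.cent hG (h.le' hy) hyD hx ?_)) hy)
    calc y * x = y⁻¹ * x⁻¹ := by rw [h.inv hx, h.symm.inv hy]
      _ = (x * y)⁻¹ := by group
      _ = x * y := inv_eq_of_mul_eq_one_right h2

theorem le_or_le {E : Subgroup G} (hE : E ≤ R) (h2 : ∀ e ∈ E, e * e = 1) : E ≤ D ∨ E ≤ D' := by
  by_contra hc
  rw [not_or, SetLike.not_le_iff_exists, SetLike.not_le_iff_exists] at hc
  obtain ⟨⟨b, hb, hbD⟩, a, ha, haD⟩ := hc
  have hb' := (h.invol hG (hE hb) (h2 b hb)).resolve_left hbD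
  have ha' := (h.invol hG (hE ha) (h2 a ha)).resolve_right haD
  rcases h.invol hG (hE (mul_mem ha hb)) (h2 _ (mul_mem ha hb)) with h3 | h3
  · exact hbD (by simpa using mul_mem (inv_mem ha') h3)
  · exact haD (by simpa using mul_mem h3 (inv_mem hb'))

theorem eq_or_eq {E : Subgroup G} (hE : E ≤ R) (h2 : ∀ e ∈ E, e * e = 1)
    (hc : Nat.card E = q ^ 2) : E = D ∨ E = D' :=
  (h.le_or_le hG hE h2).imp (fun h1 => eq_of_le_of_card_le h1 (by rw [hc, h.card_D]))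
    fun h1 => eq_of_le_of_card_le h1 (by rw [hc, h.symm.card_D])

theorem conj_eq_or_eq {g : G} (hg : MulAut.conj g • D ≤ R) :
    MulAut.conj g • D = D ∨ MulAut.conj g • D = D' :=
  h.eq_or_eq hG hg (fun _ he => (h.smul g).sq he) (h.smul g).card_D

theorem norm_cases {g : G} (hg : g ∈ normalizer (R : Set G)) :
    (MulAut.conj g • D = D ∧ MulAut.conj g • D' = D') ∨
      (MulAut.conj g • D = D' ∧ MulAut.conj g • D' = D) := by
  have hR := conj_smul_eq_iff_mem_normalizer.2 hg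
  have h1 := h.conj_eq_or_eq hG (g := g) (hR ▸ conj_smul_mono g h.le)
  have h2 := h.symm.conj_eq_or_eq hG (g := g) (hR ▸ conj_smul_mono g h.le')
  have h3 : MulAut.conj g • D ≠ MulAut.conj g • D' := fun e => h.ne (conj_smul_injective g e)
  rcases h1 with h1 | h1 <;> rcases h2 with h2 | h2
  · exact Or.inl ⟨h1, h2⟩
  · exact absurd (h1.trans h2.symm) h3
  · exact absurd (h1.trans h2.symm) h3
  · exact Or.inr ⟨h1, h2⟩

theorem mem_normalizer' {g : G} (hg : g ∈ normalizer (R : Set G))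
    (hD : g ∈ normalizer (D : Set G)) : g ∈ normalizer (D' : Set G) := by
  rw [← conj_smul_eq_iff_mem_normalizer] at hD ⊢
  rcases h.norm_cases hG hg with h1 | h1
  · exact h1.2
  · exact absurd (hD.symm.trans h1.1) h.ne

/-- All involutions of `R` are conjugate to any central one. -/
theorem isConj {t z : G} (ht : t ∈ R) (ht2 : t * t = 1) (ht1 : t ≠ 1) (hz : z ∈ om R)
    (hz1 : z ≠ 1) : ∃ g : G, g * t * g⁻¹ = z := by
  rcases h.invol hG ht ht2 with h1 | h1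
  · obtain ⟨l, -, hl⟩ := h.f1.transA hG (h.mem_om h1) ht1 (h.f1.nice.om_le_om hG h.s1 hz) hz1
    exact ⟨l, hl⟩
  · obtain ⟨l, -, hl⟩ := h.f2.transA hG (h.symm.mem_om h1) ht1 (h.f2.nice.om_le_om hG h.s2 hz) hz1
    exact ⟨l, hl⟩

end Amal

/-! ### The amalgam does not occur over a nontrivial normal `2`-subgroup -/

theorem IsCIT.norm_three (hG : IsCIT G) {V : Subgroup G} {g v : G}
    (hg : g ∈ normalizer (V : Set G)) (hg2 : ¬ Two g) (hv : v ∈ om V)
    (h3 : g * g * g * v = v * (g * g * g)) :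
    v * (g * v * g⁻¹) * (g * (g * v * g⁻¹) * g⁻¹) = 1 := by
  have h1 := conj_mem_om hg hv
  have h2 := conj_mem_om hg h1
  refine hG.eq_one_of_conj (two_of_mul_self (om_sq (mul_mem (mul_mem hv h1) h2))) hg2 ?_
  have h4 := om_comm hv (om_le _ (mul_mem h1 h2))
  calc g * (v * (g * v * g⁻¹) * (g * (g * v * g⁻¹) * g⁻¹)) * g⁻¹
      = (g * v * g⁻¹) * (g * (g * v * g⁻¹) * g⁻¹) * (g * g * g * v) * (g * g * g)⁻¹ := by group
    _ = (g * v * g⁻¹) * (g * (g * v * g⁻¹) * g⁻¹) * v := by rw [h3]; group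
    _ = _ := by rw [h4]; group

theorem not_amal_quot [Finite G] (hG : IsCIT G) {G' : Type*} [Group G'] (f : G →* G')
    (hf : Function.Surjective f) (hk : IsPGroup 2 f.ker) (hne : f.ker ≠ ⊥)
    {L D L' D' R : Subgroup G'} {q : ℕ} (h : Amal L D L' D' R q) : False := by
  have : Finite G' := Finite.of_surjective f hf
  have hG' := hG.of_surjective f hf hk
  have hn : ∀ g : G, g ∈ normalizer (f.ker : Set G) := fun g => by
    rw [normalizer_eq_top]; trivial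
  have T : ∀ g : G, ¬ Two (f g) → f g * f g * f g = 1 → ∀ v ∈ om f.ker,
      v * (g * v * g⁻¹) * (g * (g * v * g⁻¹) * g⁻¹) = 1 := fun g h1 h2 v hv =>
    hG.norm_three (hn g) (fun h3 => h1 (h3.map f)) hv
      (om_comm hv (by rw [MonoidHom.mem_ker, map_mul, map_mul, h2]))
  -- the key inclusion `[V, a] ≤ [V, k² a k⁻²]`
  have key : ∀ {L D L' D' : Subgroup G'}, Amal L D L' D' R q → ∀ k a : G, f k ∈ L → ¬ Two (f k) →
      f k * f k * f k = 1 → f a ∈ D → ∀ x ∈ om f.ker, ∃ y ∈ om f.ker,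
        a * x * a⁻¹ * x⁻¹ = (k * k * a * (k * k)⁻¹) * y * (k * k * a * (k * k)⁻¹)⁻¹ * y⁻¹ := by
    intro L D L' D' h k a hkL hk2 hk3 ha x hx
    have hkn := h.f1.nice.norm hkL
    obtain ⟨d, -, hd⟩ := hG'.exists_conj h.f1.nice.two hkn hk2 (conj_mem' hkn ha)
    have e1 : f (a * k) = d⁻¹ * f k * d⁻¹⁻¹ := by rw [inv_inv, hd, map_mul]; group
    have h1 := T (a * k) (by rw [e1, two_conj_iff]; exact hk2) (by
      rw [e1]
      calc _ = d⁻¹ * (f k * f k * f k) * d := by group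
        _ = 1 := by rw [hk3]; group) _ (conj_mem' (normalizer_le_om _ (hn k)) hx)
    have h2 := T k hk2 hk3 _ (conj_mem' (normalizer_le_om _ (hn k)) hx)
    have h3 := hG'.norm_three hkn hk2 (h.mem_om ha) (by rw [hk3]; simp)
    have hy := conj_mem_om (hn k) hx
    refine ⟨k * x * k⁻¹, hy, ?_⟩
    set y := k * x * k⁻¹ with hy'
    set c := k * k * a * (k * k)⁻¹ with hc
    have h4 : c⁻¹ * (a * (k * a * k⁻¹)) ∈ f.ker := by
      have h5 := h.sq (conj_mem hkn (conj_mem hkn ha))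
      rw [MonoidHom.mem_ker]
      simp only [hc, map_mul, map_inv]
      calc _ = (f k * (f k * f a * (f k)⁻¹) * (f k)⁻¹)⁻¹ * (f a * (f k * f a * (f k)⁻¹) *
          (f k * (f k * f a * (f k)⁻¹) * (f k)⁻¹)) * (f k * (f k * f a * (f k)⁻¹) * (f k)⁻¹)⁻¹ := by
            group
        _ = ((f k * (f k * f a * (f k)⁻¹) * (f k)⁻¹) *
              (f k * (f k * f a * (f k)⁻¹) * (f k)⁻¹))⁻¹ := by rw [h3]; group
        _ = 1 := by rw [h5, inv_one]
    have h6 : (a * x * a⁻¹) * (c * y * c⁻¹) = x * y := by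
      have h7 := om_conj hy h4
      apply mul_left_cancel (a := k⁻¹ * x * k)
      calc k⁻¹ * x * k * ((a * x * a⁻¹) * (c * y * c⁻¹))
          = k⁻¹ * x * k * ((a * x * a⁻¹) * (c * (c⁻¹ * (a * (k * a * k⁻¹)) * y *
            (c⁻¹ * (a * (k * a * k⁻¹)))⁻¹) * c⁻¹)) := by rw [h7]
        _ = 1 := by rw [← h1, hy']; group
        _ = _ := by rw [← h2, hy']; group
    have hcy := conj_mem_om (hn c) hy
    have h8 := om_comm hx (om_le _ (mul_mem hy hcy))
    have h9 := om_comm hy (om_le _ hcy)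
    calc a * x * a⁻¹ * x⁻¹ = (a * x * a⁻¹) * (c * y * c⁻¹) * (c * y * c⁻¹)⁻¹ * x⁻¹ := by group
      _ = x * (y * (c * y * c⁻¹)) * x⁻¹ := by rw [h6, om_inv hcy]; group
      _ = c * y * c⁻¹ * y⁻¹ := by rw [← h8, ← h9, om_inv hy]; group
  have cen : ∀ a : G, f a * f a = 1 → ∀ x ∈ om f.ker,
      a * (a * x * a⁻¹ * x⁻¹) = (a * x * a⁻¹ * x⁻¹) * a := by
    intro a ha x hx
    have h1 := om_comm hx (show a * a ∈ f.ker by rw [MonoidHom.mem_ker, map_mul, ha])
    have h2 := om_comm hx (om_le _ (conj_mem_om (hn a) hx))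
    rw [om_inv hx]
    calc a * (a * x * a⁻¹ * x) = (a * a * x) * a⁻¹ * x := by group
      _ = x * (a * x * a⁻¹) * a := by rw [h1]; group
      _ = _ := by rw [h2]
  obtain ⟨k₁, hk₁L, hk₁2, hk₁3, hk₁R⟩ := h.f1.exists_order_three hG' h.s1
  obtain ⟨k₂, hk₂L, hk₂2, hk₂3, hk₂R⟩ := h.f2.exists_order_three hG' h.s2
  obtain ⟨z, hz1, hz⟩ := h.f1.nice.exists_omR h.s1
  obtain ⟨k₁, rfl⟩ := hf k₁
  obtain ⟨k₂, rfl⟩ := hf k₂
  obtain ⟨z, rfl⟩ := hf z
  have sq : ∀ k : G', k * k * k = 1 → MulAut.conj k • R ≠ R → MulAut.conj (k * k) • R ≠ R :=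
    fun k h1 h2 h3 => h2 (by
      calc MulAut.conj k • R = MulAut.conj k • MulAut.conj (k * k) • R := by rw [h3]
        _ = R := by rw [conj_smul_conj_smul, ← mul_assoc, h1, conj_one_smul])
  set b := k₁ * k₁ * z * (k₁ * k₁)⁻¹ with hb
  have hfb : f b = f k₁ * f k₁ * f z * (f k₁ * f k₁)⁻¹ := by simp [hb]
  have hbD : f b ∈ D := hfb ▸ h.f1.nice.conj_mem (mul_mem hk₁L hk₁L) (h.Z_le hG' hz)
  have hbD' : f b ∉ D' := fun hb' => sq _ hk₁3 hk₁R (h.f1.nice.eq_of_om hG'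
    (sylow_conj h.s1 (mul_mem hk₁L hk₁L)) h.s1 (z := f b)
    (fun e => hz1 (by rwa [hfb, conj_eq_one_iff] at e))
    (by rw [← conj_smul_om, hfb]; exact conj_mem_conj_smul.2 hz) (h.mem_Z' hbD hb'))
  have hw : ∃ w ∈ om f.ker, w ≠ 1 ∧ b * w = w * b ∧
      b * ((k₂ * k₂)⁻¹ * w * (k₂ * k₂)) = ((k₂ * k₂)⁻¹ * w * (k₂ * k₂)) * b := by
    by_cases hzV : ∀ x ∈ om f.ker, z * x * z⁻¹ * x⁻¹ = 1
    · obtain ⟨w, hw1, hw⟩ := exists_om hk hne
      have : ∀ x ∈ om f.ker, b * x = x * b := fun x hx => by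
        have := hzV _ (conj_mem' (normalizer_le_om _ (hn (k₁ * k₁))) hx)
        calc b * x = (k₁ * k₁) * (z * ((k₁ * k₁)⁻¹ * x * (k₁ * k₁)) * z⁻¹ *
              ((k₁ * k₁)⁻¹ * x * (k₁ * k₁))⁻¹) * (k₁ * k₁)⁻¹ * (x * b) := by rw [hb]; group
          _ = x * b := by rw [this]; group
      exact ⟨w, hw, hw1, this w hw, this _ (conj_mem' (normalizer_le_om _ (hn _)) hw)⟩
    · push Not at hzV
      obtain ⟨x, hx, hx1⟩ := hzV
      have hcb : ∀ x ∈ om f.ker, b * (z * x * z⁻¹ * x⁻¹) = (z * x * z⁻¹ * x⁻¹) * b := by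
        intro x hx
        obtain ⟨y, hy, e⟩ := key h k₁ z hk₁L hk₁2 hk₁3 (h.Z_le hG' hz) x hx
        rw [e]
        exact cen b (h.sq hbD) y hy
      refine ⟨_, mul_mem (conj_mem_om (hn z) hx) (inv_mem hx), hx1, hcb x hx, ?_⟩
      obtain ⟨y, hy, e⟩ := key h.symm k₂ z hk₂L hk₂2 hk₂3 (h.Z_le' hG' hz) x hx
      have := hcb _ (conj_mem' (normalizer_le_om _ (hn (k₂ * k₂))) hy)
      rw [e]
      generalize k₂ * k₂ = m at this ⊢
      convert this using 2 <;> group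
  obtain ⟨w, hw, hw1, h1, h2⟩ := hw
  have hC := (hG.isPGroup_centralizer (two_of_mul_self (om_sq hw)) hw1).map f
  refine sq _ hk₂3 hk₂R (h.f2.nice.eq_of_two (sylow_conj h.s2 (mul_mem hk₂L hk₂L)) h.s2
    (hC.to_inf_right (H := L')) inf_le_left (conj_mem_conj_smul.2 (h.le hbD))
    (h.f2.nice.conj_notMem (mul_mem hk₂L hk₂L) hbD')
    ⟨L'.mul_mem (mul_mem (mul_mem hk₂L hk₂L) (h.s2.le (h.le hbD)))
      (L'.inv_mem (mul_mem hk₂L hk₂L)),
      ⟨k₂ * k₂ * b * (k₂ * k₂)⁻¹, ?_, by simp⟩⟩ (h.le hbD) hbD'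
    ⟨h.s2.le (h.le hbD), ⟨b, mem_centralizer_singleton_iff.2 h1, rfl⟩⟩)
  refine mem_centralizer_singleton_iff.2 ?_
  calc k₂ * k₂ * b * (k₂ * k₂)⁻¹ * w
      = k₂ * k₂ * (b * ((k₂ * k₂)⁻¹ * w * (k₂ * k₂))) * (k₂ * k₂)⁻¹ := by group
    _ = _ := by rw [h2]; group

/-! ### Transport of niceness -/

theorem Nice.subgroupOf [Finite G] {L D M : Subgroup G} (hN : Nice L D) (hM : L ≤ M) :
    Nice (L.subgroupOf M) (D.subgroupOf M) where
  le := fun _ hx => hN.le hx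
  norm := fun g hg => mem_normalizer_of_conj fun x hx => hN.conj_mem hg hx
  two := isPGroup_iff_two.2 fun g hg => by
    obtain ⟨n, hn⟩ := two_of_mem hN.two hg
    exact ⟨n, Subtype.ext (by simpa using hn)⟩
  ne_bot := by
    obtain ⟨a, h1, ha⟩ := hN.exists_om
    intro h
    have : (⟨a, hM (hN.le ha.1)⟩ : M) ∈ D.subgroupOf M := ha.1
    rw [h, mem_bot] at this
    exact h1 (congrArg Subtype.val this)
  ti := by
    intro R R' hR hR' hne x hx
    have h1 := hR.map M.subtype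
    have h2 := hR'.map M.subtype
    rw [map_subgroupOf_eq_of_le hM] at h1 h2
    exact hN.ti _ _ h1 h2 (fun e => hne (map_injective M.subtype_injective e))
      ⟨mem_map_of_mem _ hx.1, mem_map_of_mem _ hx.2⟩
  ex := by
    obtain ⟨R, R', hR, hR', hne⟩ := hN.ex
    refine ⟨_, _, hR.subgroupOf hM, hR'.subgroupOf hM, fun e => hne ?_⟩
    rw [← map_subgroupOf_eq_of_le (hR.le.trans hM), e, map_subgroupOf_eq_of_le (hR'.le.trans hM)]

theorem Nice.map [Finite G] {G' : Type*} [Group G'] [Finite G'] {L D : Subgroup G} (hN : Nice L D)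
    (f : G →* G') (hk : f.ker ≤ D) (hne : ¬ D ≤ f.ker) : Nice (L.map f) (D.map f) := by
  have hsyl : ∀ R, IsSylowIn 2 R (L.map f) → ∃ S, IsSylowIn 2 S L ∧ S.map f = R := by
    intro R hR
    obtain ⟨S, hS⟩ := exists_isSylowIn (p := 2) L
    obtain ⟨_, ⟨l, hl, rfl⟩, h⟩ := (hS.map f).exists_conj hR
    refine ⟨_, sylow_conj hS hl, ?_⟩
    rw [← h]
    ext x
    simp only [mem_map, mem_conj_smul]
    constructor
    · rintro ⟨y, hy, rfl⟩
      exact ⟨_, hy, by simp⟩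
    · rintro ⟨y, hy, e⟩
      exact ⟨l * y * l⁻¹, by simpa [mul_assoc] using hy, by simp [e, mul_assoc]⟩
  have hmem : ∀ S, IsSylowIn 2 S L → ∀ x, f x ∈ S.map f → x ∈ S := by
    rintro S hS x ⟨y, hy, e⟩
    have : y⁻¹ * x ∈ S := hN.le_sylow hS (hk (by simp [MonoidHom.mem_ker, e]))
    simpa using mul_mem hy this
  refine ⟨map_mono hN.le, ?_, hN.two.map f, fun h => hne ((map_eq_bot_iff D).1 h), ?_, ?_⟩
  · rintro _ ⟨l, hl, rfl⟩
    refine mem_normalizer_of_conj ?_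
    rintro _ ⟨d, hd, rfl⟩
    exact ⟨_, hN.conj_mem hl hd, by simp⟩
  · intro R R' hR hR' hne
    obtain ⟨S, hS, rfl⟩ := hsyl R hR
    obtain ⟨S', hS', rfl⟩ := hsyl R' hR'
    rintro _ ⟨⟨x, hx, rfl⟩, hx'⟩
    exact mem_map_of_mem f (hN.ti _ _ hS hS' (fun e => hne (by rw [e])) ⟨hx, hmem _ hS' x hx'⟩)
  · obtain ⟨R, R', hR, hR', h⟩ := hN.ex
    refine ⟨_, _, hR.map f, hR'.map f, fun e => h (le_antisymm (fun x hx => hmem _ hR' x ?_)
      fun x hx => hmem _ hR x ?_)⟩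
    · exact e ▸ mem_map_of_mem f hx
    · exact e ▸ mem_map_of_mem f hx

theorem edge_aux [Finite G] (hG : IsCIT G) {L D L' D' R K : Subgroup G} (n1 : Nice L D)
    (n2 : Nice L' D') (s1 : IsSylowIn 2 R L) (s2 : IsSylowIn 2 R L')
    [K.Normal] (hKR : K ≤ R) (hD : ¬ D ≤ K) (hD' : ¬ D' ≤ K)
    (hK : ∀ X : Subgroup G, X ≤ R → L ≤ normalizer (X : Set G) → L' ≤ normalizer (X : Set G) →
      X ≤ K) : K = ⊥ := by
  by_contra hne
  have hk := QuotientGroup.ker_mk' K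
  have hK2 := s1.isPGroup.to_le hKR
  have hn : ∀ X : Subgroup G, X ≤ normalizer (K : Set G) := fun X => by
    rw [normalizer_eq_top]; exact le_top
  have hE : Edge (L.map (QuotientGroup.mk' K)) (D.map (QuotientGroup.mk' K))
      (L'.map (QuotientGroup.mk' K)) (D'.map (QuotientGroup.mk' K))
      (R.map (QuotientGroup.mk' K)) := by
    refine ⟨n1.map _ (by rw [hk]; exact n1.le_of_normal hK2 (hKR.trans s1.le) (hn _))
      (by rwa [hk]), n2.map _ (by rw [hk]; exact n2.le_of_normal hK2 (hKR.trans s2.le) (hn _))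
      (by rwa [hk]), s1.map _, s2.map _, fun X h1 h2 h3 => ?_⟩
    have key : ∀ Y : Subgroup G, Y.map (QuotientGroup.mk' K) ≤ normalizer (X : Set (G ⧸ K)) →
        Y ≤ normalizer ((X.comap (QuotientGroup.mk' K) : Subgroup G) : Set G) := fun Y hY y hy =>
      mem_normalizer_of_conj fun x hx => by
        simpa using conj_mem (hY (mem_map_of_mem _ hy)) hx
    have h4 := hK (X.comap (QuotientGroup.mk' K)) (by
      have := comap_mono (f := QuotientGroup.mk' K) h1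
      rwa [comap_map_eq, hk, sup_eq_left.2 hKR] at this) (key _ h2) (key _ h3)
    rw [eq_bot_iff]
    intro x hx
    obtain ⟨x, rfl⟩ := QuotientGroup.mk'_surjective K x
    rw [mem_bot, ← MonoidHom.mem_ker, hk]
    exact h4 hx
  have hG' := hG.of_surjective _ (QuotientGroup.mk'_surjective K) (by rwa [hk])
  obtain ⟨q, hq⟩ := hE.amal hG'
  exact not_amal_quot hG _ (QuotientGroup.mk'_surjective K) (by rwa [hk]) (by rwa [hk]) hq

/-- Two nice subgroups with a common Sylow subgroup, neither normalising the core of the other,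
form an edge. -/
theorem edge_of_nice [Finite G] (hG : IsCIT G) {L D L' D' R : Subgroup G} (n1 : Nice L D)
    (n2 : Nice L' D') (s1 : IsSylowIn 2 R L) (s2 : IsSylowIn 2 R L')
    (hD : ¬ L' ≤ normalizer (D : Set G)) (hD' : ¬ L ≤ normalizer (D' : Set G)) :
    Edge L D L' D' R := by
  set K := core (L ⊔ L') R with hK
  set M := normalizer (K : Set G) with hM
  have h1 : L ≤ M := le_sup_left.trans (le_normalizer_core _ _)
  have h2 : L' ≤ M := le_sup_right.trans (le_normalizer_core _ _)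
  have hKR : K ≤ R := core_le _ _
  have hK2 := s1.isPGroup.to_le hKR
  have : (K.subgroupOf M).Normal := normal_in_normalizer
  have key : ∀ {L D : Subgroup G}, Nice L D → IsSylowIn 2 R L → L ≤ M →
      D.subgroupOf M ≤ K.subgroupOf M → D = K := fun {L D} n s h h' =>
    le_antisymm (fun x hx => @h' ⟨x, h (n.le hx)⟩ hx) (n.le_of_normal hK2 (hKR.trans s.le) h)
  have h3 := edge_aux (hG.subgroup M) (K := K.subgroupOf M) (n1.subgroupOf h1) (n2.subgroupOf h2)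
    (s1.subgroupOf h1) (s2.subgroupOf h2) (fun x hx => hKR hx)
    (fun h => hD (key n1 s1 h1 h ▸ h2)) (fun h => hD' (key n2 s2 h2 h ▸ h1)) (by
      intro X hX h4 h5 x hx
      have key2 : ∀ Y : Subgroup G, Y ≤ M → Y.subgroupOf M ≤ normalizer (X : Set M) →
          Y ≤ normalizer ((X.map M.subtype : Subgroup G) : Set G) := fun Y hY h y hy =>
        mem_normalizer_of_conj (by
          rintro _ ⟨x, hx, rfl⟩
          exact ⟨_, conj_mem (@h ⟨y, hY hy⟩ hy) hx, rfl⟩)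
      exact le_core (K := X.map M.subtype) (by
        rintro _ ⟨x, hx, rfl⟩
        exact hX hx) (sup_le (key2 _ h1 h4) (key2 _ h2 h5)) (mem_map_of_mem _ hx))
  have h4 : K = ⊥ := by
    rw [eq_bot_iff]
    intro x hx
    have : (⟨x, le_normalizer hx⟩ : M) ∈ K.subgroupOf M := hx
    rw [h3, mem_bot] at this
    exact congrArg Subtype.val this
  exact ⟨n1, n2, s1, s2, fun X h5 h6 h7 => eq_bot_iff.2 (h4 ▸ le_core h5 (sup_le h6 h7))⟩

end CL.CIT
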