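import Cfsg.Agent.CIT.Nice
import Cfsg.Agent.Solv.Frobenius
import Cfsg.Agent.S0035

/-!
# TI-subgroups of even order containing the centralisers of their elements

If `H` has even order, is TI and contains the centraliser of each of its nontrivial elements, then
a simple group `G ≠ H` acts on the conjugates of `H` as a Zassenhaus group.
-/

set_option autoImplicit false
set_option linter.unusedSectionVars false

open Subgroup MulAction
open scoped Pointwise

namespace CL.CIT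

open CL.Transfer CL.Invol

variable {G : Type*} [Group G] [Finite G]

section Abstract

variable {Ω : Type*} [MulAction G Ω] (U : Ω → Subgroup G)
  (hU : ∀ (g : G) p, U (g • p) = MulAut.conj g • U p)
  (hfix : ∀ p, ∀ x ∈ U p, x • p = p)
  (hsemi : ∀ p p', ∀ x ∈ U p, x • p' = p' → p ≠ p' → x = 1)
  (hC : ∀ p, ∀ x ∈ U p, x ≠ 1 → ∀ c : G, c * x = x * c → c ∈ U p)
  (hz : ∀ p, ∃ z ∈ U p, orderOf z = 2)
include hU hfix hsemi hC

theorem zt_swap {p p' : Ω} (hne : p ≠ p') {t t' : G} (ht : t ∈ U p) (ht2 : orderOf t = 2)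
    (ht' : t' ∈ U p') (ht2' : orderOf t' = 2) :
    ∃ v : G, v * v = 1 ∧ v * t * v⁻¹ = t' ∧ v • p = p' ∧ v • p' = p := by
  have h1 := mul_self_of_orderOf_two ht2
  have h2 := mul_self_of_orderOf_two ht2'
  have hodd : Odd (orderOf (t * t')) := by
    rw [← Nat.not_even_iff_odd]
    intro he
    obtain ⟨h3, h4, h5⟩ := central_involution_of_even h1 h2 he
    exact ne_one_of_orderOf_two h3 (hsemi p p' _ (hC p t ht (ne_one_of_orderOf_two ht2) _ h4.eq)
      (hfix p' _ (hC p' t' ht' (ne_one_of_orderOf_two ht2') _ h5.eq)) hne)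
  obtain ⟨k, hk⟩ := exists_invol_conj_of_odd h1 h2 hodd
  have h3 := mul_zpow_mul_self_of_inverts h1 (left_conj_mul h1 h2) k
  have h4 : (t * (t * t') ^ k) • p = p' := by
    by_contra h
    refine ne_one_of_orderOf_two ht2' (hsemi _ p' t' ?_ (hfix p' t' ht') h)
    have := (conj_mem_conj_smul (g := t * (t * t') ^ k)).2 ht
    rwa [hk, ← hU] at this
  exact ⟨_, h3, hk, h4, by rw [← h4, smul_smul, h3, one_smul]⟩

include hz

theorem zt_invol (p : Ω) {t : G} (ht : orderOf t = 2) : ∃ p', t ∈ U p' := by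
  obtain ⟨z, hz, hz2⟩ := hz p
  rcases conj_or_exists_central (mul_self_of_orderOf_two hz2) (mul_self_of_orderOf_two ht) with
    ⟨k, hk⟩ | ⟨c, -, hc, h1, h2⟩
  · exact ⟨_, by rw [hU, ← hk]; exact conj_mem_conj_smul.2 hz⟩
  · exact ⟨p, hC p c (hC p z hz (ne_one_of_orderOf_two hz2) c h1.eq) (ne_one_of_orderOf_two hc) t
      h2.eq.symm⟩

theorem zt_sq {p p' : Ω} (hne : p ≠ p') {v : G} (h1 : v • p = p') (h2 : v • p' = p) :
    v * v = 1 := by
  obtain ⟨z, hz, hz2⟩ := hz p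
  obtain ⟨u, h3, h4, -, h5⟩ := zt_swap U hU hfix hsemi hC hne hz hz2 (t' := v * z * v⁻¹)
    (by rw [← h1, hU]; exact conj_mem_conj_smul.2 hz) (orderOf_conj_two hz2 v)
  have h6 : u⁻¹ * v = 1 := by
    refine hsemi p p' _ (hC p z hz (ne_one_of_orderOf_two hz2) _ ?_) ?_ hne
    · calc u⁻¹ * v * z = u⁻¹ * (v * z * v⁻¹) * v := by group
        _ = _ := by rw [← h4]; group
    · rw [mul_smul, h2, ← h5, inv_smul_smul]
  rw [← inv_mul_eq_one.1 h6, h3]

theorem zt_exists_inv {p p' : Ω} (hne : p ≠ p') : ∃ v : G, v • p = p' ∧ v • p' = p ∧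
    ∀ k : G, k • p = p → k • p' = p' → v * k * v⁻¹ = k⁻¹ := by
  obtain ⟨z, hz1, hz2⟩ := hz p
  obtain ⟨z', hz1', hz2'⟩ := hz p'
  obtain ⟨v, h1, -, h2, h3⟩ := zt_swap U hU hfix hsemi hC hne hz1 hz2 hz1' hz2'
  refine ⟨v, h2, h3, fun k hk hk' => ?_⟩
  have := zt_sq U hU hfix hsemi hC hz hne (v := v * k) (by rw [mul_smul, hk, h2])
    (by rw [mul_smul, hk', h3])
  rw [inv_eq_of_mul_eq_one_right h1]
  exact eq_inv_of_mul_eq_one_left (by rw [← this]; group)

theorem zt_decomp {p p' : Ω} (hne : p ≠ p') {g : G} (hg : g • p = p) :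
    ∃ k : G, k • p = p ∧ k • p' = p' ∧ k⁻¹ * g ∈ U p := by
  obtain ⟨z, hz1, hz2⟩ := hz p
  obtain ⟨t, ht1, ht2⟩ := hz p'
  obtain ⟨v, -, h1, h2, h3⟩ := zt_swap U hU hfix hsemi hC hne hz1 hz2 ht1 ht2
  obtain ⟨v', -, h1', h2', h3'⟩ := zt_swap U hU hfix hsemi hC hne (t := g * z * g⁻¹)
    (by rw [← hg, hU]; exact conj_mem_conj_smul.2 hz1) (orderOf_conj_two hz2 g) ht1 ht2
  refine ⟨v'⁻¹ * v, by rw [mul_smul, h2, ← h2', inv_smul_smul],
    by rw [mul_smul, h3, ← h3', inv_smul_smul], hC p z hz1 (ne_one_of_orderOf_two hz2) _ ?_⟩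
  calc (v'⁻¹ * v)⁻¹ * g * z = v⁻¹ * (v' * (g * z * g⁻¹) * v'⁻¹) * v' * g := by group
    _ = _ := by rw [h1', ← h1]; group

theorem zt_three {g : G} {a b c : Ω} (hab : a ≠ b) (hbc : b ≠ c) (hac : a ≠ c) (ha : g • a = a)
    (hb : g • b = b) (hc : g • c = c) : g = 1 := by
  by_contra hg
  have odd : ∀ x : G, x * g = g * x → orderOf x ≠ 2 := by
    intro x hx h2
    obtain ⟨p, hp⟩ := zt_invol U hU hfix hsemi hC hz a h2
    have h3 := hC p x hp (ne_one_of_orderOf_two h2) g hx.symm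
    by_cases h : p = a
    · exact hg (hsemi p b g h3 hb (h ▸ hab))
    · exact hg (hsemi p a g h3 ha h)
  have hgg : g * g ≠ 1 := fun h => odd g rfl (orderOf_two_of_mul_self hg h)
  obtain ⟨v, h1, h2, h3⟩ := zt_exists_inv U hU hfix hsemi hC hz hab
  obtain ⟨v', h1', -, h3'⟩ := zt_exists_inv U hU hfix hsemi hC hz hac
  obtain ⟨v'', -, h2'', h3''⟩ := zt_exists_inv U hU hfix hsemi hC hz hbc
  have inv' : ∀ {v : G}, v * g * v⁻¹ = g⁻¹ → v * g⁻¹ * v⁻¹ = g := fun h => by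
    simpa [mul_assoc] using congrArg Inv.inv h
  set u := v * (v'' * v') with hu
  have e1 : u • a = a := by rw [hu, mul_smul, mul_smul, h1', h2'', h2]
  have e2 : u * g * u⁻¹ = g⁻¹ := by
    calc u * g * u⁻¹ = v * (v'' * (v' * g * v'⁻¹) * v''⁻¹) * v⁻¹ := by rw [hu]; group
      _ = _ := by rw [h3' g ha hc, inv' (h3'' g hb hc), h3 g ha hb]
  have e3 : u * u * g = g * (u * u) := by
    calc u * u * g = u * (u * g * u⁻¹) * u⁻¹ * (u * u) := by group
      _ = _ := by rw [e2, inv' e2]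
  have e4 : Odd (orderOf (u * u)) := by
    rw [← Nat.not_even_iff_odd]
    intro he
    exact odd _ ((show Commute (u * u) g from e3).pow_left _).eq (orderOf_pow_half he)
  obtain ⟨m, hm⟩ := e4
  have e5 : u ^ (2 * m + 1) * g * (u ^ (2 * m + 1))⁻¹ = g⁻¹ := by
    have := ((show Commute (u * u) g from e3).pow_left m).eq
    rw [pow_succ', pow_mul, pow_two]
    calc _ = u * ((u * u) ^ m * g) * ((u * u) ^ m)⁻¹ * u⁻¹ := by group
      _ = _ := by rw [this, ← e2]; group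
  have e6 : u ^ (2 * m + 1) * u ^ (2 * m + 1) = 1 := by
    rw [← (Commute.refl u).mul_pow, ← hm, pow_orderOf_eq_one]
  have e7 : u ^ (2 * m + 1) ≠ 1 := fun h => hgg (by
    rw [h] at e5
    simp only [one_mul, inv_one, mul_one] at e5
    exact mul_eq_one_iff_eq_inv.2 e5)
  obtain ⟨p, hp⟩ := zt_invol U hU hfix hsemi hC hz a (orderOf_two_of_mul_self e7 e6)
  obtain rfl : p = a := by
    by_contra h
    exact e7 (hsemi p a _ hp (pow_mem (show u ∈ stabilizer G a from e1) _) h)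
  have e8 : g * u ^ (2 * m + 1) * g⁻¹ ∈ U p := by
    rw [← ha, hU]; exact conj_mem_conj_smul.2 hp
  refine hgg (hsemi p b _ ?_ (by rw [mul_smul, hb, hb]) hab)
  have := mul_mem e8 (inv_mem hp)
  convert this using 1
  calc g * g = g * (u ^ (2 * m + 1) * g⁻¹ * (u ^ (2 * m + 1))⁻¹) := by rw [inv' e5]
    _ = _ := by group

theorem zt_trans {g : G} {a b : Ω} (hg : g ≠ 1) (hab : a ≠ b) (ha : g • a = a) (hb : g • b = b)
    {c : Ω} (hac : a ≠ c) : ∃ d ∈ U a, d • c = b := by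
  obtain ⟨k, h1, h2, h3⟩ := zt_decomp U hU hfix hsemi hC hz hac ha
  have hgU : g ∉ U a := fun h => hg (hsemi a b g h hb hab)
  have hn : ∀ x ∈ U a, g⁻¹ * x * g ∈ U a := fun x hx => by
    rw [← ha, hU] at hx; exact mem_conj_smul.1 hx
  let φ : U a → U a := fun d => ⟨g⁻¹ * (d : G)⁻¹ * g * d, mul_mem (hn _ (inv_mem d.2)) d.2⟩
  have hφ : Function.Injective φ := by
    intro x y hxy
    replace hxy : g⁻¹ * (x : G)⁻¹ * g * x = g⁻¹ * (y : G)⁻¹ * g * y := congrArg Subtype.val hxy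
    by_contra hne
    refine hgU (hC a ((y : G) * (x : G)⁻¹) (mul_mem y.2 (inv_mem x.2))
      (fun e => hne (Subtype.ext (mul_inv_eq_one.1 e).symm)) g ?_)
    calc g * (y * (x : G)⁻¹) = y * g * (g⁻¹ * (y : G)⁻¹ * g * y) * (x : G)⁻¹ := by group
      _ = _ := by rw [← hxy]; group
  obtain ⟨d, hd⟩ := (Finite.injective_iff_surjective.1 hφ) ⟨_, inv_mem h3⟩
  replace hd : g⁻¹ * (d : G)⁻¹ * g * d = (k⁻¹ * g)⁻¹ := congrArg Subtype.val hd
  have e : g * d = d * k := by
    calc g * d = d * g * (g⁻¹ * (d : G)⁻¹ * g * d) := by group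
      _ = _ := by rw [hd]; group
  refine ⟨d, d.2, ?_⟩
  by_contra hne
  refine hg (zt_three U hU hfix hsemi hC hz hab (Ne.symm hne) (fun e => hac ?_) ha hb
    (by rw [smul_smul, e, mul_smul, h2]))
  rw [← inv_smul_smul (d : G) c, ← e, hfix a _ (inv_mem d.2)]

end Abstract

theorem zassenhaus_of_ti [IsSimpleGroup G] {H : Subgroup G}
    (hTI : ∀ x ∈ H, x ≠ 1 → ∀ g : G, g * x * g⁻¹ ∈ H → g ∈ normalizer (H : Set G))
    (hC : ∀ x ∈ H, x ≠ 1 → ∀ c : G, c * x = x * c → c ∈ H) {z : G} (hz : z ∈ H)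
    (hz2 : orderOf z = 2) (hH : H ≠ ⊤) :
    Cfsg.IsZassenhausGroup G (G ⧸ normalizer (H : Set G)) := by
  set M := normalizer (H : Set G) with hM
  have hH1 : H ≠ ⊥ := fun h => ne_one_of_orderOf_two hz2 (by rwa [h, mem_bot] at hz)
  have hM1 : M ≠ ⊤ := fun h => by
    rcases (normalizer_eq_top_iff.1 h).eq_bot_or_eq_top with e | e
    exacts [hH1 e, hH e]
  let U : G ⧸ M → Subgroup G := Quotient.lift (fun g => MulAut.conj g • H) (by
    intro a b hab
    have := conj_smul_eq_iff_mem_normalizer.2 (QuotientGroup.leftRel_apply.1 hab)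
    conv_lhs => rw [← this, conj_smul_conj_smul, mul_inv_cancel_left])
  have hUm : ∀ g : G, U (g : G ⧸ M) = MulAut.conj g • H := fun _ => rfl
  have hsm : ∀ x g : G, x • (g : G ⧸ M) = (g : G ⧸ M) ↔ g⁻¹ * x * g ∈ M := fun x g => by
    rw [Quotient.smul_coe, smul_eq_mul, eq_comm, QuotientGroup.eq, mul_assoc]
  have hU : ∀ (g : G) p, U (g • p) = MulAut.conj g • U p := fun g p => by
    induction p using QuotientGroup.induction_on
    rw [Quotient.smul_coe, hUm, hUm, conj_smul_conj_smul, smul_eq_mul]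
  have hfix : ∀ p, ∀ x ∈ U p, x • p = p := fun p x hx => by
    induction p using QuotientGroup.induction_on
    exact (hsm _ _).2 (le_normalizer (mem_conj_smul.1 hx))
  have hC' : ∀ p, ∀ x ∈ U p, x ≠ 1 → ∀ c : G, c * x = x * c → c ∈ U p := fun p x hx h1 c hc => by
    induction p using QuotientGroup.induction_on with | _ g => ?_
    rw [hUm, mem_conj_smul] at hx ⊢
    refine hC _ hx (fun e => h1 ?_) _ ?_
    · calc x = g * (g⁻¹ * x * g) * g⁻¹ := by group
        _ = 1 := by rw [e]; group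
    · calc _ = g⁻¹ * (c * x) * g := by group
        _ = _ := by rw [hc]; group
  have hsemi : ∀ p p', ∀ x ∈ U p, x • p' = p' → p ≠ p' → x = 1 := fun p p' x hx h hne => by
    induction p using QuotientGroup.induction_on with | _ g => ?_
    induction p' using QuotientGroup.induction_on with | _ g' => ?_
    rw [hUm] at hx
    have h1 := (hsm _ _).1 h
    have h2 := CL.Frob.card_modEq_one_of_fpf (A := zpowers (g'⁻¹ * x * g')) (K := H) (zpowers_le.2 h1)
      (fun a ha ha1 => by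
        rw [eq_bot_iff]
        rintro y ⟨hy, hy'⟩
        by_contra hy1
        have h3 := hC y hy hy1 a (mem_centralizer_singleton_iff.1 hy').symm
        refine hne (QuotientGroup.eq.2 (hTI a h3 ha1 _ ?_))
        have h4 : zpowers (g'⁻¹ * x * g') ≤ MulAut.conj (g'⁻¹ * g) • H := by
          rw [zpowers_le, mem_conj_smul]
          simpa [mul_assoc] using mem_conj_smul.1 hx
        simpa [mul_assoc] using mem_conj_smul.1 (h4 ha))
    have h3 : orderOf x ∣ Nat.card H := by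
      rw [← card_conj_smul g H]; exact Subgroup.orderOf_dvd_natCard _ hx
    rw [Nat.card_zpowers] at h2
    have h4 : orderOf (g'⁻¹ * x * g') = orderOf x := by simpa using orderOf_conj g'⁻¹ x
    rw [h4] at h2
    exact orderOf_eq_one_iff.1 (Nat.dvd_one.1 ((Nat.modEq_zero_iff_dvd.2 h3).symm.trans h2).dvd')
  have hz' : ∀ p, ∃ z ∈ U p, orderOf z = 2 := fun p => by
    induction p using QuotientGroup.induction_on with | _ g => ?_
    exact ⟨_, conj_mem_conj_smul.2 hz, orderOf_conj_two hz2 g⟩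
  obtain ⟨g₀, hg₀⟩ : ∃ g, g ∉ M := by
    by_contra h
    push Not at h
    exact hM1 (eq_top_iff.2 fun g _ => h g)
  have hne : ((1 : G) : G ⧸ M) ≠ (g₀ : G ⧸ M) := fun e => hg₀ (by simpa using QuotientGroup.eq.1 e)
  obtain ⟨g, hg, a, b, hab, ha, hb⟩ : ∃ g : G, g ≠ 1 ∧ ∃ a b : G ⧸ M, a ≠ b ∧ g • a = a ∧
      g • b = b := by
    by_contra hcon
    push Not at hcon
    obtain ⟨N, -, hN, hc⟩ := Cfsg.Agent.S0035.result M ⟨fun h => hH1 (le_bot_iff.1
      (h ▸ le_normalizer)), hM1, fun g hg => by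
        rw [eq_bot_iff]
        rintro x ⟨hx, hx'⟩
        by_contra hx1
        exact hcon x hx1 (1 : G) g (fun e => hg (by simpa using QuotientGroup.eq.1 e))
          ((hsm _ _).2 (by simpa using hx)) ((hsm _ _).2 (mem_conj_smul.1 hx'))⟩
    rcases hN.eq_bot_or_eq_top with e | e
    · exact hM1 (by simpa [e] using hc.sup_eq_top)
    · exact hH1 (le_bot_iff.1 ((by simpa [e] using hc.disjoint : M = ⊥) ▸ le_normalizer))
  have hthird : ∃ c : G ⧸ M, a ≠ c ∧ b ≠ c := by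
    obtain ⟨t, ht, ht2⟩ := hz' a
    refine ⟨t • b, fun e => hab ?_, fun e => ne_one_of_orderOf_two ht2 (hsemi a b t ht e.symm hab)⟩
    rw [← inv_smul_smul t b, ← e, hfix a _ (inv_mem ht)]
  refine ⟨⟨fun {x y} h => ?_⟩, ?_, fun g a b c => zt_three U hU hfix hsemi hC' hz',
    ⟨g, hg, a, b, hab, ha, hb⟩, fun N hN hNt => ?_⟩
  · obtain ⟨c, hac, hbc⟩ := hthird
    refine (inv_mul_eq_one.1 (zt_three U hU hfix hsemi hC' hz' hab hbc hac ?_ ?_ ?_)) <;>
      rw [mul_smul, ← h, inv_smul_smul]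
  · rw [is_two_pretransitive_iff]
    have key : ∀ x y : G ⧸ M, x ≠ y → ∃ k : G, k • x = a ∧ k • y = b := by
      intro x y hxy
      obtain ⟨k, hk⟩ := exists_smul_eq G x a
      obtain ⟨d, hd, h1⟩ := zt_trans U hU hfix hsemi hC' hz' hg hab ha hb (c := k • y)
        (fun e => hxy (smul_left_cancel k (hk.trans e)))
      exact ⟨d * k, by rw [mul_smul, hk, hfix a d hd], by rw [mul_smul, h1]⟩
    intro x y x' y' h h'
    obtain ⟨k, h1, h2⟩ := key x y h
    obtain ⟨k', h1', h2'⟩ := key x' y' h'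
    exact ⟨k'⁻¹ * k, by rw [mul_smul, h1, ← h1', inv_smul_smul],
      by rw [mul_smul, h2, ← h2', inv_smul_smul]⟩
  · rcases hN.eq_bot_or_eq_top with rfl | rfl
    · obtain ⟨⟨x, hx⟩, h1⟩ := hNt.exists_smul_eq a b
      rw [mem_bot] at hx
      subst hx
      exact absurd (by simpa using h1) hab
    · refine ⟨a, fun h => hg ?_⟩
      have : (⟨g, mem_top g⟩ : (⊤ : Subgroup G)) ∈ stabilizer (⊤ : Subgroup G) a := ha
      have h2 : (⟨g, mem_top g⟩ : (⊤ : Subgroup G)) = 1 := mem_bot.1 (h.le this)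
      exact congrArg Subtype.val h2

end CL.CIT
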